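import Cfsg.Agent.Ree.Transfer.LocalShape

/-!
`Cfsg.Lib.Ree.Field.LocalSpec`: the facts about the centralizer of a generator of the `r`-part of the field
automorphisms.
-/

set_option autoImplicit false
set_option linter.unusedSectionVars false
set_option linter.style.haveILetI false

namespace Cfsg.Lib.Ree.Twist

open Subgroup

universe u v

theorem mod_eight_root {c k m : ℕ} (h : c ^ k = m) (hk : Odd k) (hm : m % 8 = 3 ∨ m % 8 = 5) : c % 8 = m % 8 := by
  obtain ⟨j, rfl⟩ := hk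
  have hodd : c % 2 = 1 := by
    have : c ^ (2 * j + 1) % 2 = 1 := by omega
    rcases Nat.mod_two_eq_zero_or_one c with h0 | h1
    · rw [Nat.pow_mod, h0, zero_pow (by omega)] at this; simp at this
    · exact h1
  have h2 : c * c % 8 = 1 := by
    have : c % 8 = 1 ∨ c % 8 = 3 ∨ c % 8 = 5 ∨ c % 8 = 7 := by omega
    rw [Nat.mul_mod]
    rcases this with e | e | e | e <;> rw [e]
  rw [← h, pow_succ, pow_mul, Nat.mul_mod, Nat.pow_mod, pow_two, h2, one_pow,
    show 1 % 8 = 1 from rfl, one_mul, Nat.mod_mod]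

variable {G : Type u} [Group G] [Finite G] {t : G} {E E₀ : Subgroup G}

/-- The setting from the setting of the interface. -/
theorem of_jr {F : Type} [Field F] [Fintype F] (J : Field.JRSetting t E E₀ F) : Setting t E E₀ F :=
  ⟨J.simple, J.nab, Walter.sylow_two_comm J.ab, J.hyp, J.mod, J.five⟩

section

variable {F : Type} [Field F] [Fintype F] (S : Setting t E E₀ F) {T : Sylow 2 G} {a b n : G}
  (hy : AbCentMax.Sys t E₀ T a b n)
include S hy

/-- A generator of the `r`-part of `Phi`. -/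
theorem Setting.exists_fieldElem {r : ℕ} (hr : r.Prime) (hd : r ∣ E₀.relIndex E) :
    ∃ x ∈ S.Phi hy, Field.FieldElem t E E₀ T r x := by
  haveI := S.Phi_cyclic hy
  obtain ⟨g, hg⟩ := IsCyclic.exists_generator (α := S.Phi hy)
  have hgo : orderOf (g : G) = E₀.relIndex E := by
    rw [Subgroup.orderOf_coe, orderOf_eq_card_of_forall_mem_zpowers hg, S.card_Phi hy]
  set e := E₀.relIndex E with he
  have he0 : e ≠ 0 := by rw [← hgo]; exact (orderOf_pos _).ne'
  set R := r ^ e.factorization r with hR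
  have hRe : R ∣ e := Nat.ordProj_dvd e r
  set x := (g : G) ^ (e / R) with hx
  have hxP : x ∈ S.Phi hy := pow_mem g.2 _
  have hxo : orderOf x = R := by
    rw [hx, orderOf_pow' _ (Nat.div_pos (Nat.le_of_dvd (Nat.pos_of_ne_zero he0) hRe) (pow_pos hr.pos _)).ne', hgo,
      Nat.gcd_eq_right (Nat.div_dvd_of_dvd hRe), Nat.div_div_self hRe he0]
  have ha1 : 1 ≤ e.factorization r := (hr.dvd_iff_one_le_factorization he0).1 hd
  have hxE : x ∈ E := S.Phi_le hy hxP
  have hinf : zpowers x ⊓ E₀ = ⊥ := eq_bot_iff.2 fun z hz =>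
    mem_bot.2 (S.Phi_inter hy (zpowers_le.2 hxP hz.1) hz.2)
  refine ⟨x, hxP, hr, hxE, hy.tT, fun y hyT => S.x_comm hy hxP hyT, fun h => ?_, ⟨_, hxo⟩, hinf, fun hdvd => ?_⟩
  · rw [h, orderOf_one] at hxo
    exact (Nat.one_lt_pow (by omega) hr.one_lt).ne hxo
  · set M := zpowers x ⊔ E₀ with hM
    have hME : M ≤ E := sup_le (zpowers_le.2 hxE) S.hyp.le
    haveI : (E₀.subgroupOf M).Normal := ⟨fun z hz w => S.hyp.norm w (hME w.2) z hz⟩
    have hxM : zpowers x ≤ M := le_sup_left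
    have hinj : Function.Injective ((QuotientGroup.mk' (E₀.subgroupOf M)).comp (Subgroup.inclusion hxM)) :=
      (injective_iff_map_eq_one _).2 fun z hz => by
        have h0 : (z : G) ∈ zpowers x ⊓ E₀ :=
          ⟨z.2, mem_subgroupOf.1 ((QuotientGroup.eq_one_iff (Subgroup.inclusion hxM z)).1 hz)⟩
        rw [hinf, mem_bot] at h0
        exact Subtype.ext h0
    have h1 : R ∣ E₀.relIndex M := by
      have := Subgroup.card_dvd_of_injective _ hinj
      rwa [Nat.card_zpowers, hxo, ← index_eq_card] at this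
    have h2 : R * r ∣ e := by
      rw [he, ← relIndex_mul_relIndex E₀ M E le_sup_right hME]
      exact Nat.mul_dvd_mul h1 hdvd
    exact Nat.pow_succ_factorization_not_dvd he0 hr (by rw [pow_succ]; exact h2)

/-- The facts about the centralizer of a field automorphism, by induction. -/
theorem Setting.localData (hind : Field.NoFieldBelow.{u} (Nat.card G)) {r : ℕ} {x : G} (hx : x ∈ S.Phi hy)
    (hx1 : x ≠ 1) :
    ∃ (F₁ : Type) (_ : Field F₁) (_ : Fintype F₁), Field.LocalData t E E₀ F r x F₁ := by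
  classical
  obtain ⟨L, iL, iLt, hL, ⟨e⟩⟩ := S.fixed hy hx
  set N := (zpowers x).subgroupOf (centralizer ({x} : Set G)) with hN
  haveI : N.Normal := ⟨fun z hz g => by
    obtain ⟨i, hi⟩ := mem_subgroupOf.1 hz
    have hc : Commute (g : G) (x ^ i) :=
      (show Commute (g : G) x from mem_centralizer_singleton_iff.1 g.2).zpow_right i
    refine mem_subgroupOf.2 ⟨i, ?_⟩
    show x ^ i = (g : G) * z * (g : G)⁻¹
    rw [← hi, hc.eq, mul_inv_cancel_right]⟩
  let P : Proj x (↥(centralizer ({x} : Set G)) ⧸ N) :=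
    ⟨QuotientGroup.mk' N, QuotientGroup.mk'_surjective N, QuotientGroup.ker_mk' N⟩
  refine ⟨L, iL, iLt, ?_, hL.symm, ⟨e⟩, fun s hs hsx => S.conj_inv hy hx hs hsx, fun g i hg => ?_,
    fun K hK hn hodd => S.core_le P hy hx hK hn hodd, ?_⟩
  · intro u hu w hw
    have hcomm : ∀ σ τ : F ≃+* F, σ * τ = τ * σ := by
      haveI : IsCyclic (F ≃+* F) := by
        obtain ⟨p, hp⟩ := CharP.exists F
        obtain ⟨i, hpr, he⟩ := FiniteField.card F p
        have := Fact.mk hpr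
        exact (Cfsg.Lib.Known.ChevAut.ringAut_facts (F := F) p i he).1
      haveI : IsMulCommutative (F ≃+* F) := IsCyclic.commutative
      exact fun σ τ => mul_comm' σ τ
    exact S.mem_of_fp (e := ⟨u, hu⟩ * ⟨w, hw⟩ * ⟨u, hu⟩⁻¹ * ⟨w, hw⟩⁻¹)
      (by rw [map_mul, map_mul, map_mul, map_inv, map_inv, hcomm (S.fp ⟨u, hu⟩), mul_inv_cancel_right, mul_inv_cancel])
  · exact S.norm_zpowers hy hx (hg ▸ pow_mem (mem_zpowers x) i)
  rcases S.shape P hy hx hind hx1 hL e with ⟨h3, -⟩ | ⟨h5, M, D⟩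
  · exact Or.inl h3
  have hmod : Fintype.card L % 8 = 3 ∨ Fintype.card L % 8 = 5 := by
    rw [mod_eight_root hL (S.x_odd hy hx) S.mod]; exact S.mod
  rcases D.count S hy hmod h5 with ⟨h, -, -⟩ | ⟨RS, m, hm, hF, -⟩
  · exact Or.inr (Or.inl h)
  refine Or.inr (Or.inr ⟨?_, ⟨_, hF⟩, ?_⟩)
  · rw [hF]
    exact le_trans (by norm_num : 27 ≤ 3 ^ 3) (Nat.pow_le_pow_right (by norm_num) (by omega))
  haveI := D.normal
  set N₁ : Subgroup G := (M.comap P.π).map (centralizer ({x} : Set G)).subtype with hN₁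
  have hN₁C : N₁ ≤ centralizer ({x} : Set G) := map_subtype_le _
  have hmem : ∀ (z : G) (hz : z ∈ centralizer ({x} : Set G)), z ∈ N₁ ↔ P.π ⟨z, hz⟩ ∈ M := fun z hz =>
    ⟨fun ⟨w, hw, hwz⟩ => (show w = ⟨z, hz⟩ from Subtype.ext hwz) ▸ hw, fun h => ⟨⟨z, hz⟩, h, rfl⟩⟩
  let π₁ : ↥N₁ →* ↥M :=
    (P.π.comp (Subgroup.inclusion hN₁C)).codRestrict M fun z => (hmem z (hN₁C z.2)).1 z.2
  refine ⟨N₁, ↥M, inferInstance, inferInstance, π₁, ⟨_, D.mem⟩, (P.img E₀).subgroupOf M, ?_, hN₁C, ?_, ?_, ?_,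
    ⟨(hmem t (S.mem_cent hy hx hy.tT)).2 D.mem, Subtype.ext rfl⟩, ?_, RS⟩
  · refine (hmem x (mem_centralizer_singleton_iff.2 rfl)).2 ?_
    rw [P.eq_one_iff.2 (show ((⟨x, mem_centralizer_singleton_iff.2 rfl⟩ : centralizer ({x} : Set G)) : G) ∈
      zpowers x from mem_zpowers x)]
    exact one_mem M
  · intro g hg
    refine Cfsg.Lib.ZStarApps.mem_normalizer_of_maps fun z hz => ?_
    have hzC := hN₁C hz
    refine (hmem _ (mul_mem (mul_mem hg hzC) (inv_mem hg))).2 ?_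
    have := D.normal.conj_mem _ ((hmem z hzC).1 hz) (P.π ⟨g, hg⟩)
    rwa [← map_inv, ← map_mul, ← map_mul] at this
  · rintro ⟨u, hu⟩
    obtain ⟨w, hw⟩ := P.surj u
    exact ⟨⟨w, (hmem w w.2).2 (show P.π w ∈ M from hw ▸ hu)⟩, Subtype.ext hw⟩
  · ext z
    rw [MonoidHom.mem_ker, mem_subgroupOf, Subtype.ext_iff]
    exact P.eq_one_iff
  · ext u
    constructor
    · intro hu
      obtain ⟨w, hwE, hw⟩ := P.mem_img.1 (mem_subgroupOf.1 hu)
      exact ⟨⟨w, (hmem w w.2).2 (show P.π w ∈ M from hw ▸ u.2)⟩, ⟨hwE, w.2⟩, Subtype.ext hw⟩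
    · rintro ⟨z, hz, rfl⟩
      exact mem_subgroupOf.2 (P.mem_img.2 ⟨⟨z, hN₁C z.2⟩, (mem_subgroupOf.1 hz).1, rfl⟩)

end

end Cfsg.Lib.Ree.Twist

namespace Cfsg.Lib.Ree.Field

universe u

/-- The structure of the centralizer, by induction. -/
theorem localSpec : LocalSpec.{u} := by
  intro G _ _ t E E₀ F _ _ J hind r hr hd
  have S := Twist.of_jr J
  obtain ⟨T, a, b, n, hy⟩ := AbCentMax.exists_sys S.hyp S.ab
  obtain ⟨x, hx, hfe⟩ := S.exists_fieldElem hy hr hd
  obtain ⟨F₁, iF, iFt, hld⟩ := S.localData hy hind (r := r) hx hfe.ne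
  exact ⟨T, x, F₁, iF, iFt, hfe, hld⟩

end Cfsg.Lib.Ree.Field
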