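import Cfsg.Agent.Known.FieldClassData
import Cfsg.Agent.Known.Balance.PSL

/-!
Automorphisms of odd order of `PSL(2, q)`: inner-diagonal ones are inner, the others are conjugate to field
automorphisms, and their fixed points form a `PSL(2, q₀)` with `q = q₀ ^ k`.
-/

set_option autoImplicit false
set_option linter.unusedSectionVars false

namespace Cfsg.Lib.Ree.Transfer

open Matrix Cfsg.Lib.Known.AutPSLn

universe v

variable {F : Type v} [Field F] [Fintype F]

local notation "G2" => GL (Fin 2) F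
local notation "P2" => Matrix.ProjectiveSpecialLinearGroup (Fin 2) F
local notation "S2" => Matrix.SpecialLinearGroup (Fin 2) F

theorem det_sc_two (c : Fˣ) : GeneralLinearGroup.det (sc c : G2) = c ^ 2 := det_sc c

/-- Inner automorphisms are those of square determinant. -/
theorem conjP_inner_iff (g : G2) :
    (∃ z : P2, (conjP g : MulAut P2) = MulAut.conj z) ↔ ∃ u : Fˣ, GeneralLinearGroup.det g = u ^ 2 := by
  constructor
  · rintro ⟨z, hz⟩
    obtain ⟨M, rfl⟩ := QuotientGroup.mk_surjective z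
    rw [show MulAut.conj (QuotientGroup.mk M : P2) = conjP (SpecialLinearGroup.toGL M) from (conjP_toGL M).symm,
      ← mul_inv_eq_one, ← map_inv, ← map_mul, conjP_eq_one_iff le_rfl] at hz
    obtain ⟨c, hc⟩ := exists_sc hz (by norm_num)
    refine ⟨c, ?_⟩
    have h : GeneralLinearGroup.det (SpecialLinearGroup.toGL M : G2) = 1 := Units.ext M.2
    rw [mul_inv_eq_iff_eq_mul.1 hc, map_mul, det_sc_two, h, mul_one]
  · rintro ⟨u, hu⟩
    set g' : G2 := sc u⁻¹ * g with hg'
    have hd : GeneralLinearGroup.det g' = 1 := by rw [hg', map_mul, det_sc_two, hu, ← mul_pow, inv_mul_cancel, one_pow]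
    let M : S2 := ⟨(g' : Matrix (Fin 2) (Fin 2) F), congrArg Units.val hd⟩
    refine ⟨π M, ?_⟩
    rw [← conjP_toGL, show (SpecialLinearGroup.toGL M : G2) = g' from Units.ext rfl, hg', map_mul,
      conjP_scalar (sc_mem_center _), one_mul]

/-- An inner-diagonal automorphism of odd order is inner. -/
theorem inner_of_odd {g : G2} {k : ℕ} (hk : Odd k) (h : (conjP g : MulAut P2) ^ k = 1) :
    ∃ z : P2, (conjP g : MulAut P2) = MulAut.conj z := by
  obtain ⟨j, rfl⟩ := hk
  obtain ⟨z, hz⟩ := (conjP_inner_iff ((g ^ (j + 1)) ^ 2)).2 ⟨GeneralLinearGroup.det (g ^ (j + 1)), by rw [map_pow]⟩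
  refine ⟨z, ?_⟩
  rw [← hz, map_pow, map_pow, ← pow_mul, show (j + 1) * 2 = 2 * j + 1 + 1 by omega, pow_succ, h, one_mul]

/-- A product with an automorphism of odd order `k` and field part of order `k` is conjugate to the field part. -/
theorem field_conj {σ : F ≃+* F} {k : ℕ} (hk : 0 < k) (hord : orderOf σ = k) {g : G2}
    (hg : ((conjP g : MulAut P2) * fieldP σ) ^ k = 1) :
    ∃ h : G2, (conjP g : MulAut P2) * fieldP σ = conjP h * fieldP σ * (conjP h)⁻¹ := by
  have hσr : σ ^ k = 1 := hord ▸ pow_orderOf_eq_one σ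
  have hφ : (fieldP σ : MulAut P2) ^ k = 1 := by rw [← map_pow, hσr, map_one]
  rw [mul_twist_pow conjP (glMap σ) (fieldP σ) (fieldP_mul_conjP σ), hφ, mul_one] at hg
  obtain ⟨hc, -⟩ := conjP_fieldP_eq_one le_rfl (A := tnorm (glMap σ) g k) (σ := 1) (by rw [hg, map_one, one_mul])
  obtain ⟨l, hl⟩ := exists_sc hc (by omega)
  have hfix : σ (l : F) = l := by
    have h1 : g * glMap σ (tnorm (glMap σ) g k) = tnorm (glMap σ) g k * ((glMap σ : MulAut G2) ^ k) g :=
      tnorm_succ' (glMap σ) g k
    rw [hl, glMap_sc, ← map_pow, hσr, map_one, MulAut.one_apply, ← sc_comm, mul_left_inj] at h1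
    exact congrArg Units.val (sc_injective (by omega) h1)
  obtain ⟨a, ha⟩ := exists_pow_norm hord hk (x := (l : F)⁻¹) (by rw [map_inv₀, hfix])
  have ha0 : a ≠ 0 := by
    rintro rfl
    exact inv_ne_zero l.ne_zero (ha.symm.trans (Finset.prod_eq_zero (Finset.mem_range.2 hk) (map_zero _)))
  have hN : tnorm (glMap σ) (sc (Units.mk0 a ha0) * g) k = 1 := by
    rw [tnorm_sc_mul, hl, ← map_mul, show (∏ i ∈ Finset.range k, Units.map (σ ^ i).toRingHom.toMonoidHom
      (Units.mk0 a ha0)) * l = 1 from Units.ext ?_, map_one]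
    rw [Units.val_mul, Units.coe_prod, Units.val_one]
    rw [show ∏ i ∈ Finset.range k, ((Units.map (σ ^ i).toRingHom.toMonoidHom (Units.mk0 a ha0) : Fˣ) : F) =
      ∏ i ∈ Finset.range k, (σ ^ i) a from rfl, ha, inv_mul_cancel₀ l.ne_zero]
  obtain ⟨h, hh⟩ := hilbert90 hord hk _ hN
  exact ⟨h, conj_of_factor (fieldP_mul_conjP σ) hh⟩

/-- The fixed points of a conjugate of a field automorphism of odd order `k`. -/
theorem field_fixed {σ : F ≃+* F} {k : ℕ} (hk : Odd k) (hord : orderOf σ = k) (a : G2) :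
    ∃ (L : Type v) (_ : Field L) (_ : Fintype L), Fintype.card L ^ k = Fintype.card F ∧
      ∃ j : Matrix.ProjectiveSpecialLinearGroup (Fin 2) L →* P2, Function.Injective j ∧
        ∀ z : P2, z ∈ j.range ↔ ((conjP a * fieldP σ * (conjP a)⁻¹ : MulAut P2)) z = z := by
  classical
  have hk0 : 0 < k := hk.pos
  have : Finite (F ≃+* F) := Finite.of_injective (fun e => (e : F → F)) DFunLike.coe_injective
  let H : Subgroup (F ≃+* F) := Subgroup.zpowers σ
  have : Fintype H := Fintype.ofFinite H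
  let L := FixedPoints.subfield H F
  have hmem : ∀ x, x ∈ L ↔ σ x = x := by
    refine fun x => ⟨fun h => h ⟨σ, Subgroup.mem_zpowers σ⟩, fun h k => ?_⟩
    obtain ⟨i, hi⟩ := Subgroup.mem_zpowers_iff.1 k.2
    show (k : F ≃+* F) x = x
    rw [← hi]
    have hfix : σ ∈ MulAction.stabilizer (F ≃+* F) x := h
    exact Subgroup.zpow_mem _ hfix i
  have hcard : Fintype.card L ^ k = Fintype.card F := by
    rw [Module.card_eq_pow_finrank (K := L) (V := F), FixedPoints.finrank_eq_card H F, ← hord, ← Nat.card_zpowers σ,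
      Nat.card_eq_fintype_card]
  let ι : L →+* F := L.subtype
  let ι' : GL (Fin 2) L →* G2 := GeneralLinearGroup.map ι
  have hfix : ∀ b : GL (Fin 2) L, glMap σ (ι' b) = ι' b := fun b => Units.ext (Matrix.ext fun i j =>
    (hmem _).1 ((b : Matrix (Fin 2) (Fin 2) L) i j).2)
  -- descent
  have hdesc : ∀ b : G2, (∃ u : Fˣ, glMap σ b = sc u * b) → ∃ (c : Fˣ) (b₀ : GL (Fin 2) L), b = sc c * ι' b₀ := by
    rintro b ⟨u, hu⟩
    obtain ⟨i, j, hij⟩ : ∃ i j, (b : Matrix (Fin 2) (Fin 2) F) i j ≠ 0 := by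
      by_contra h
      push Not at h
      have h0 : (b : Matrix (Fin 2) (Fin 2) F) = 0 := Matrix.ext h
      have := b.mul_inv
      rw [h0, zero_mul] at this
      exact one_ne_zero (α := F) (by simpa using (congrFun (congrFun this 0) 0).symm)
    let c : Fˣ := Units.mk0 _ hij
    have hent : ∀ p q, σ ((b : Matrix (Fin 2) (Fin 2) F) p q) = u * (b : Matrix (Fin 2) (Fin 2) F) p q := fun p q => by
      have := congrFun (congrFun (congrArg (fun z : G2 => (z : Matrix (Fin 2) (Fin 2) F)) hu) p) q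
      simpa [coe_glMap, coe_sc, scalar_apply] using this
    have hfe : ∀ p q, ((b : Matrix (Fin 2) (Fin 2) F) i j)⁻¹ * (b : Matrix (Fin 2) (Fin 2) F) p q ∈ L := fun p q => by
      refine (hmem _).2 ?_
      rw [map_mul, map_inv₀, hent, hent]
      field_simp
    let Y : Matrix (Fin 2) (Fin 2) L := Matrix.of fun p q => ⟨_, hfe p q⟩
    have hM : Y.map ι = ((sc c⁻¹ * b : G2) : Matrix (Fin 2) (Fin 2) F) := by
      rw [Units.val_mul, coe_sc, scalar_apply]
      ext p q
      rw [Matrix.map_apply, diagonal_mul]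
      simp [Y, ι, c]
    have hdet : Y.det ≠ 0 := fun h0 => by
      have h1 := GeneralLinearGroup.det_ne_zero (sc c⁻¹ * b : G2)
      rw [← hM, ← RingHom.mapMatrix_apply, ← RingHom.map_det, h0, map_zero] at h1
      exact h1 rfl
    refine ⟨c, GeneralLinearGroup.mkOfDetNeZero Y hdet, ?_⟩
    have e : ι' (GeneralLinearGroup.mkOfDetNeZero Y hdet) = sc c⁻¹ * b := Units.ext hM
    rw [e, ← mul_assoc, ← map_mul, mul_inv_cancel, map_one, one_mul]
  -- squares descend
  have hsq : ∀ (d : Lˣ) (u : Fˣ), Units.map ι.toMonoidHom d = u ^ 2 → ∃ w : Lˣ, d = w ^ 2 := by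
    intro d u hdu
    have hd : ι (d : L) = (u : F) ^ 2 := by
      simpa using congrArg Units.val hdu
    obtain ⟨m, hm⟩ := hk
    set N : F := ∏ i ∈ Finset.range k, (σ ^ i) (u : F) with hN
    have hNL : N ∈ L := (hmem _).2 (prod_pow_fixed hord hk0 _)
    have hN2 : N ^ 2 = ι (d : L) ^ k := by
      rw [hN, ← Finset.prod_pow]
      conv_rhs => rw [← Finset.card_range k, ← Finset.prod_const]
      refine Finset.prod_congr rfl fun i _ => ?_
      rw [← map_pow, ← hd]
      have hi : σ ^ i ∈ MulAction.stabilizer (F ≃+* F) (ι (d : L)) := pow_mem (show σ ∈ _ from (hmem _).1 (d : L).2) i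
      exact hi
    have hN0 : (⟨N, hNL⟩ : L) ≠ 0 := fun e => by
      have e' : N = 0 := congrArg Subtype.val e
      rw [e', zero_pow two_ne_zero] at hN2
      exact d.ne_zero (by simpa [ι] using (pow_eq_zero_iff hk0.ne').1 hN2.symm)
    refine ⟨Units.mk0 _ hN0 * (d ^ m)⁻¹, ?_⟩
    have h' : d ^ k = Units.mk0 _ hN0 ^ 2 := Units.ext (Subtype.ext (by
      push_cast
      show ((d : L) : F) ^ k = N ^ 2
      rw [hN2]; rfl))
    rw [mul_pow, ← h', inv_pow, ← pow_mul, hm, mul_comm m 2, pow_succ, mul_inv_cancel_comm]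
  let j₀ : Matrix.SpecialLinearGroup (Fin 2) L →* P2 :=
    (π (F := F) (n := 2)).comp ((conjSL a).toMonoidHom.comp (Matrix.SpecialLinearGroup.map ι))
  have hj₀ : ∀ B, (conjP (a * ι' (SpecialLinearGroup.toGL B) * a⁻¹) : MulAut P2) = MulAut.conj (j₀ B) := by
    intro B
    show _ = MulAut.conj (π (conjSL a (Matrix.SpecialLinearGroup.map ι B)))
    rw [← conjP_toGL]
    congr 1
    refine Units.ext ?_
    show _ = ((conjSL a (Matrix.SpecialLinearGroup.map ι B) : S2) : Matrix (Fin 2) (Fin 2) F)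
    rw [coe_conjSL]
    rfl
  have hker : j₀.ker = Subgroup.center _ := by
    ext B
    rw [MonoidHom.mem_ker]
    constructor
    · intro h
      have h1 := hj₀ B
      rw [h, map_one, conjP_eq_one_iff le_rfl] at h1
      have h2 : ι' (SpecialLinearGroup.toGL B) ∈ Subgroup.center G2 := by
        have := Subgroup.Normal.conj_mem (inferInstance : (Subgroup.center G2).Normal) _ h1 a⁻¹
        simpa [mul_assoc] using this
      obtain ⟨c, hc⟩ := exists_sc h2 (by norm_num)
      have he : ∀ p q, ι ((B : Matrix (Fin 2) (Fin 2) L) p q) = if p = q then (c : F) else 0 := fun p q => by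
        have := congrFun (congrFun (congrArg (fun z : G2 => (z : Matrix (Fin 2) (Fin 2) F)) hc) p) q
        simp [coe_sc, scalar_apply, diagonal_apply] at this
        exact this
      refine Matrix.SpecialLinearGroup.mem_center_iff.2 ⟨(B : Matrix (Fin 2) (Fin 2) L) 0 0, ?_, ?_⟩
      · have hB := B.2
        have h10 : (B : Matrix (Fin 2) (Fin 2) L) 1 0 = 0 := ι.injective (by rw [he, map_zero]; simp)
        have h11 : (B : Matrix (Fin 2) (Fin 2) L) 1 1 = (B : Matrix (Fin 2) (Fin 2) L) 0 0 :=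
          ι.injective (by rw [he, he]; simp)
        rw [det_fin_two, h10, mul_zero, sub_zero, h11] at hB
        rw [Fintype.card_fin, pow_two]
        exact hB
      · ext p q
        show ι _ = ι _
        rw [scalar_apply, diagonal_apply]
        split_ifs with hpq
        · rw [he, he, if_pos hpq, if_pos rfl]
        · rw [map_zero, he, if_neg hpq]
    · intro h
      have h1 : conjSL a (Matrix.SpecialLinearGroup.map ι B) ∈ Subgroup.center S2 := by
        obtain ⟨r, hr, hB⟩ := Matrix.SpecialLinearGroup.mem_center_iff.1 h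
        refine Matrix.SpecialLinearGroup.mem_center_iff.2 ⟨ι r, by rw [← map_pow, hr, map_one], ?_⟩
        rw [coe_conjSL]
        show _ = _ * (B : Matrix (Fin 2) (Fin 2) L).map ι * _
        rw [← hB, scalar_apply, scalar_apply, diagonal_map (map_zero ι)]
        rw [← Matrix.scalar_apply, (Matrix.scalar_commute (ι r) (fun r' => mul_comm _ r')
          (a : Matrix (Fin 2) (Fin 2) F)).symm.eq, mul_assoc, a.mul_inv, mul_one]
      exact (QuotientGroup.eq_one_iff _).2 h1
  refine ⟨L, inferInstance, inferInstance, hcard, QuotientGroup.lift _ j₀ hker.ge, ?_, fun z => ?_⟩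
  · refine (MonoidHom.ker_eq_bot_iff _).1 (eq_bot_iff.2 fun z hz => ?_)
    obtain ⟨B, rfl⟩ := QuotientGroup.mk_surjective z
    exact Subgroup.mem_bot.2 ((QuotientGroup.eq_one_iff B).2 (hker.le hz))
  set x : MulAut P2 := (conjP a : MulAut P2) * fieldP σ * (conjP a)⁻¹
  have hequiv : x z = z ↔ x * MulAut.conj z = MulAut.conj z * x := by
    constructor
    · intro h
      refine MulEquiv.ext fun w => ?_
      simp [MulAut.mul_apply, map_mul, map_inv, h]
    · intro h
      have e : MulAut.conj (x z) = MulAut.conj z := by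
        rw [show MulAut.conj (x z) = x * MulAut.conj z * x⁻¹ from MulEquiv.ext fun w => by
          simp [MulAut.mul_apply], h, mul_inv_cancel_right]
      exact Cfsg.Lib.Balance.psl_conj_inj le_rfl e
  rw [hequiv]
  have hfc : ∀ g : G2, x * conjP g = conjP g * x ↔ ∃ u : Fˣ, glMap σ (a⁻¹ * g * a) = sc u * (a⁻¹ * g * a) := by
    intro g
    have h := mem_cent_iff le_rfl (fieldP_mul_conjP σ) a g (x := x) rfl
    rw [Subgroup.mem_centralizer_singleton_iff] at h
    rw [← h]
    exact eq_comm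
  constructor
  · rintro ⟨w, rfl⟩
    obtain ⟨B, rfl⟩ := QuotientGroup.mk_surjective w
    show _ = MulAut.conj (j₀ B) * x
    rw [show QuotientGroup.lift _ j₀ hker.ge (QuotientGroup.mk B) = j₀ B from rfl, ← hj₀, hfc]
    refine ⟨1, ?_⟩
    rw [map_one, one_mul, show a⁻¹ * (a * ι' (SpecialLinearGroup.toGL B) * a⁻¹) * a = ι' (SpecialLinearGroup.toGL B) by group,
      hfix]
  · intro h
    obtain ⟨M, rfl⟩ := QuotientGroup.mk_surjective z
    rw [show MulAut.conj (QuotientGroup.mk M : P2) = conjP (SpecialLinearGroup.toGL M) from (conjP_toGL M).symm,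
      hfc] at h
    obtain ⟨c, b₀, hb⟩ := hdesc _ h
    have hdet : Units.map ι.toMonoidHom (GeneralLinearGroup.det b₀) = c⁻¹ ^ 2 := by
      have h1 := congrArg GeneralLinearGroup.det hb
      rw [map_mul, map_mul, map_mul, map_inv, det_sc_two,
        show GeneralLinearGroup.det (SpecialLinearGroup.toGL M : G2) = 1 from Units.ext M.2, mul_one, inv_mul_cancel,
        show GeneralLinearGroup.det (ι' b₀) = Units.map ι.toMonoidHom (GeneralLinearGroup.det b₀) from
          Units.ext (RingHom.map_det ι _).symm] at h1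
      rw [inv_pow, eq_inv_iff_mul_eq_one, mul_comm, ← h1]
    obtain ⟨w, hw⟩ := hsq _ _ hdet
    set b₁ : GL (Fin 2) L := sc w⁻¹ * b₀ with hb₁
    have hd1 : GeneralLinearGroup.det b₁ = 1 := by rw [hb₁, map_mul, det_sc, hw, ← mul_pow, inv_mul_cancel, one_pow]
    let B : Matrix.SpecialLinearGroup (Fin 2) L := ⟨(b₁ : Matrix (Fin 2) (Fin 2) L), congrArg Units.val hd1⟩
    refine ⟨QuotientGroup.mk B, Cfsg.Lib.Balance.psl_conj_inj le_rfl ?_⟩
    show MulAut.conj (j₀ B) = MulAut.conj (π M)
    rw [← hj₀, ← conjP_toGL, show (SpecialLinearGroup.toGL B : GL (Fin 2) L) = b₁ from Units.ext rfl,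
      show (SpecialLinearGroup.toGL M : G2) = a * (sc c * ι' b₀) * a⁻¹ by rw [← hb]; group]
    have hcen : ι' (sc w⁻¹) ∈ Subgroup.center G2 := by
      have : ι' (sc w⁻¹) = sc (Units.map ι.toMonoidHom w⁻¹) := Units.ext (by
        show ((sc w⁻¹ : GL (Fin 2) L) : Matrix (Fin 2) (Fin 2) L).map ι = _
        rw [coe_sc, coe_sc, scalar_apply, scalar_apply, diagonal_map (map_zero ι)]
        rfl)
      rw [this]
      exact sc_mem_center _
    simp only [hb₁, map_mul, conjP_scalar hcen, conjP_scalar (sc_mem_center c), one_mul]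

end Cfsg.Lib.Ree.Transfer
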