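import Cfsg.Agent.Ree.Twist.Setting
import Cfsg.Agent.Ree.Transfer.Field
import Cfsg.Agent.TwoTimesPSL.TwoPart
import Cfsg.Agent.Walter.Structure

/-!
The field automorphism part of `C(t) = ⟨t⟩ × E`: the group `Phi` of elements of odd order of `C_E(⟨a, b⟩)` is a
cyclic complement of `E₀`, centralized by `N(T)`; the centralizers of its elements in `E₀` are `PSL(2, q₀)`.
-/

set_option autoImplicit false
set_option linter.unusedSectionVars false
set_option linter.style.haveILetI false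

namespace Cfsg.Lib.Ree.Twist

open Subgroup Cfsg.Lib.TwoTimesPSL Cfsg.Lib.Known.AutPSLn

universe u v

section Aut

variable {F : Type v} [Field F] [Fintype F]

local notation "P2" => Matrix.ProjectiveSpecialLinearGroup (Fin 2) F

/-- Every automorphism is inner-diagonal times field. -/
theorem exists_conjP_fieldP (β : MulAut P2) :
    ∃ (g : GL (Fin 2) F) (σ : F ≃+* F), β = conjP g * fieldP σ := by
  obtain ⟨p, hp⟩ := CharP.exists F
  obtain ⟨m, hprime, hm⟩ := FiniteField.card F p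
  have := Fact.mk hprime
  let _ : Algebra (ZMod p) F := ZMod.algebra F p
  obtain ⟨g, a, σ, hβ⟩ := Cfsg.Lib.Known.AutPSL2.exists_decomp p (f := m) m.pos hm β
  obtain ⟨M, rfl⟩ := QuotientGroup.mk_surjective g
  refine ⟨Matrix.SpecialLinearGroup.toGL M * Cfsg.Lib.Known.AutPSL2.diagGL a, σ.toRingEquiv, ?_⟩
  rw [map_mul, conjP_toGL, hβ]
  rfl

theorem field_unique {g h : GL (Fin 2) F} {σ τ : F ≃+* F}
    (e : (conjP g : MulAut P2) * fieldP σ = conjP h * fieldP τ) : σ = τ := by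
  refine mul_inv_eq_one.1 (conjP_fieldP_eq_one (n := 2) le_rfl (A := h⁻¹ * g) ?_).2
  rw [map_mul, map_mul, map_inv, map_inv, mul_assoc, ← mul_assoc (conjP g), e]
  group

/-- The field part of an automorphism. -/
noncomputable def fieldPart : MulAut P2 →* (F ≃+* F) where
  toFun β := (exists_conjP_fieldP β).choose_spec.choose
  map_one' := by
    set h := exists_conjP_fieldP (1 : MulAut P2)
    refine field_unique (g := h.choose) (h := 1) ?_
    rw [← h.choose_spec.choose_spec, map_one, map_one, one_mul]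
  map_mul' β γ := by
    set h := exists_conjP_fieldP (β * γ)
    set hb := exists_conjP_fieldP β
    set hc := exists_conjP_fieldP γ
    refine field_unique (g := h.choose) (h := hb.choose * glMap hb.choose_spec.choose hc.choose) ?_
    rw [← h.choose_spec.choose_spec, map_mul, map_mul, mul_assoc (conjP hb.choose), ← mul_assoc (conjP (glMap _ _)),
      ← fieldP_mul_conjP, mul_assoc (fieldP _), ← hc.choose_spec.choose_spec, ← mul_assoc,
      ← hb.choose_spec.choose_spec]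

theorem fieldPart_spec (β : MulAut P2) :
    ∃ g : GL (Fin 2) F, β = conjP g * fieldP (fieldPart β) :=
  ⟨_, (exists_conjP_fieldP β).choose_spec.choose_spec⟩

end Aut

variable {G : Type u} [Group G] [Finite G] {t : G} {E E₀ : Subgroup G} {F : Type v} [Field F] [Fintype F]
  (S : Setting t E E₀ F)
include S

/-- Conjugation of `E` on `E₀`. -/
def Setting.actE : E →* MulAut E₀ where
  toFun e :=
    { toFun := fun x => ⟨(e : G) * x * (e : G)⁻¹, S.hyp.norm e e.2 x x.2⟩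
      invFun := fun x => ⟨(e : G)⁻¹ * x * e, S.hyp.norm' e.2 x.2⟩
      left_inv := fun x => Subtype.ext (by show (e : G)⁻¹ * ((e : G) * x * (e : G)⁻¹) * e = _; group)
      right_inv := fun x => Subtype.ext (by show (e : G) * ((e : G)⁻¹ * x * e) * (e : G)⁻¹ = _; group)
      map_mul' := fun x y => Subtype.ext (by
        show (e : G) * ((x : G) * y) * (e : G)⁻¹ = (e : G) * x * (e : G)⁻¹ * ((e : G) * y * (e : G)⁻¹); group) }
  map_one' := MulEquiv.ext fun x => Subtype.ext (by show (1 : G) * x * (1 : G)⁻¹ = (x : G); group)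
  map_mul' e d := MulEquiv.ext fun x => Subtype.ext (by
    show ((e : G) * d) * x * ((e : G) * d)⁻¹ = (e : G) * ((d : G) * x * (d : G)⁻¹) * (e : G)⁻¹; group)

theorem Setting.actE_injective : Function.Injective S.actE := by
  refine (injective_iff_map_eq_one _).2 fun e he => Subtype.ext (S.hyp.faith e e.2 fun x hx => ?_)
  have h : (e : G) * x * (e : G)⁻¹ = x := congrArg Subtype.val (DFunLike.congr_fun he (⟨x, hx⟩ : E₀))
  exact mul_inv_eq_iff_eq_mul.1 h

/-- A fixed identification of `E₀`. -/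
noncomputable def Setting.iso : E₀ ≃* Matrix.ProjectiveSpecialLinearGroup (Fin 2) F := S.hyp.iso.some

/-- The field part of an element of `E`. -/
noncomputable def Setting.fp : E →* (F ≃+* F) :=
  fieldPart.comp ((MulAut.congr S.iso).toMonoidHom.comp S.actE)

theorem Setting.coe_index_odd : Odd (E₀.relIndex E) := by
  haveI : Fact (Nat.Prime 2) := ⟨Nat.prime_two⟩
  obtain ⟨P, T, -, -, -, -, hPE⟩ := S.exists_klein
  refine Nat.odd_iff.2 (Nat.two_dvd_ne_zero.1 fun h => P.not_dvd_index (h.trans ?_))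
  exact index_dvd_of_le fun x hx => (hPE x hx).1

theorem Setting.normal_E₀ : (E₀.subgroupOf E).Normal :=
  ⟨fun x hx g => S.hyp.norm g g.2 x hx⟩

/-- An element with trivial field part lies in `E₀`. -/
theorem Setting.mem_of_fp {e : E} (h : S.fp e = 1) : (e : G) ∈ E₀ := by
  haveI := S.normal_E₀
  have hj : Odd (E₀.subgroupOf E).index := S.coe_index_odd
  have hodd : ∀ s : E, Odd (orderOf s) → S.fp s = 1 → (s : G) ∈ E₀ := by
    intro s hs hfs
    set β := MulAut.congr S.iso (S.actE s) with hβ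
    obtain ⟨g, hg⟩ := fieldPart_spec β
    rw [show fieldPart β = 1 from hfs, map_one, mul_one] at hg
    obtain ⟨z, hz⟩ := Transfer.inner_of_odd hs (g := g) (by rw [← hg, hβ, ← map_pow, ← map_pow, pow_orderOf_eq_one, map_one, map_one])
    have heq : S.actE s = S.actE ⟨(S.iso.symm z : G), S.hyp.le (S.iso.symm z).2⟩ := by
      refine (MulAut.congr S.iso).injective ?_
      rw [← hβ, hg, hz]
      refine MulEquiv.ext fun w => ?_
      show z * w * z⁻¹ = S.iso ⟨(S.iso.symm z : G) * (S.iso.symm w : G) * (S.iso.symm z : G)⁻¹, _⟩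
      rw [show (⟨(S.iso.symm z : G) * (S.iso.symm w : G) * (S.iso.symm z : G)⁻¹, _⟩ : E₀) =
        S.iso.symm z * S.iso.symm w * (S.iso.symm z)⁻¹ from Subtype.ext rfl]
      simp
    rw [S.actE_injective heq]
    exact (S.iso.symm z).2
  obtain ⟨u, s, hu, hs, hus, he, hug, hsg⟩ := exists_split e
  obtain ⟨i, hi⟩ := hsg
  have hse := hodd s hs (by rw [← hi, map_zpow, h, _root_.one_zpow])
  have hue : u ∈ E₀.subgroupOf E := by
    obtain ⟨m, hm⟩ := hu
    obtain ⟨l, hl⟩ : ∃ l, (E₀.subgroupOf E).index * l % 2 ^ (m + 1) = 1 :=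
      ⟨_, (Nat.exists_mul_mod_eq_one_of_coprime ((Nat.coprime_two_right.2 hj).pow_right _)
        (Nat.one_lt_two_pow (by omega))).choose_spec.2⟩
    have hu1 : u ^ 2 ^ (m + 1) = 1 := by rw [pow_succ, pow_mul, hm, one_pow]
    rw [← pow_one u, ← hl, ← pow_eq_pow_mod _ hu1, pow_mul]
    exact pow_mem (pow_index_mem _ u) _
  rw [← he]
  exact mul_mem hue hse

theorem Setting.fp_of_mem {e : E} (h : (e : G) ∈ E₀) : S.fp e = 1 := by
  set β := MulAut.congr S.iso (S.actE e) with hβ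
  obtain ⟨M, hM⟩ := QuotientGroup.mk_surjective (S.iso ⟨(e : G), h⟩)
  obtain ⟨g, hg⟩ := fieldPart_spec β
  refine (field_unique (g := Matrix.SpecialLinearGroup.toGL M) (h := g) (σ := 1) (τ := S.fp e) ?_).symm
  rw [show S.fp e = fieldPart β from rfl, ← hg, map_one, mul_one, conjP_toGL, show π M = S.iso ⟨(e : G), h⟩ from hM, hβ]
  refine MulEquiv.ext fun w => ?_
  show _ = S.iso ⟨(e : G) * (S.iso.symm w : G) * (e : G)⁻¹, _⟩
  rw [show (⟨(e : G) * (S.iso.symm w : G) * (e : G)⁻¹, _⟩ : E₀) = ⟨(e : G), h⟩ * S.iso.symm w * ⟨(e : G), h⟩⁻¹ from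
    Subtype.ext rfl]
  simp

theorem Setting.fp_ker : S.fp.ker = E₀.subgroupOf E := by
  ext e
  exact ⟨fun h => S.mem_of_fp (MonoidHom.mem_ker.1 h), fun h => MonoidHom.mem_ker.2 (S.fp_of_mem h)⟩

/-- The index of `E₀` divides the degree of the field. -/
theorem Setting.relIndex_dvd {p f : ℕ} [Fact p.Prime] (hF : Fintype.card F = p ^ f) : E₀.relIndex E ∣ f := by
  obtain ⟨c, hc⟩ := CharP.exists F
  have hcp : c = p := by
    obtain ⟨i, hcp, he⟩ := FiniteField.card F c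
    exact (Nat.prime_dvd_prime_iff_eq hcp Fact.out).1 (hcp.dvd_of_dvd_pow (hF ▸ he ▸ dvd_pow_self c i.ne_zero))
  subst hcp
  have h := (Cfsg.Lib.Known.ChevAut.ringAut_facts (F := F) c f hF).2
  rw [Subgroup.relIndex, ← S.fp_ker, index_ker, ← h]
  exact card_subgroup_dvd_card _

variable {T : Sylow 2 G} {a b n : G} (hy : AbCentMax.Sys t E₀ T a b n)

/-- `C_E(⟨a, b⟩)`. -/
def Setting.cV (_S : Setting t E E₀ F) (_hy : AbCentMax.Sys t E₀ T a b n) : Subgroup G :=
  E ⊓ centralizer ({a} : Set G) ⊓ centralizer ({b} : Set G)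

include hy

theorem Setting.cases_E {x : G} (hx : x ∈ T) (hxE : x ∈ E) : x = 1 ∨ x = a ∨ x = b ∨ x = a * b := by
  obtain ⟨v, hv, rfl | rfl⟩ := hy.cases x hx
  · exact hv
  · refine absurd rfl (S.split_unique hxE (show v ∈ E from ?_))
    rcases hv with rfl | rfl | rfl | rfl
    exacts [one_mem _, S.hyp.le hy.aE, S.hyp.le hy.bE, mul_mem (S.hyp.le hy.aE) (S.hyp.le hy.bE)]

/-- A 2-element of `E` normalizing the four-group lies in it. -/
theorem Setting.two_mem {u : G} (hu : IsTwoEl u) (huE : u ∈ E)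
    (hn : ∀ x ∈ (T : Subgroup G), x ∈ E → u * x * u⁻¹ ∈ (T : Subgroup G)) : u ∈ T := by
  haveI : Fact (Nat.Prime 2) := ⟨Nat.prime_two⟩
  have hut : Commute u t := (S.hyp.comm u huE).symm
  have hnorm : u ∈ normalizer ((T : Subgroup G) : Set G) := by
    refine Cfsg.Lib.ZStarApps.mem_normalizer_of_maps fun x hx => ?_
    obtain ⟨v, hv, rfl | rfl⟩ := hy.cases x hx
    · refine hn _ hx ?_
      rcases hv with rfl | rfl | rfl | rfl
      exacts [one_mem _, S.hyp.le hy.aE, S.hyp.le hy.bE, mul_mem (S.hyp.le hy.aE) (S.hyp.le hy.bE)]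
    · rw [show u * (t * v) * u⁻¹ = t * (u * v * u⁻¹) by
        rw [← mul_assoc u t v, hut.eq]; group]
      refine (T : Subgroup G).mul_mem hy.tT (hn v ?_ ?_)
      · rcases hv with rfl | rfl | rfl | rfl
        exacts [(T : Subgroup G).one_mem, hy.aT, hy.bT, (T : Subgroup G).mul_mem hy.aT hy.bT]
      · rcases hv with rfl | rfl | rfl | rfl
        exacts [one_mem _, S.hyp.le hy.aE, S.hyp.le hy.bE, mul_mem (S.hyp.le hy.aE) (S.hyp.le hy.bE)]
  have hp := hu.isPGroup.to_sup_of_normal_right' T.isPGroup' (zpowers_le.2 hnorm)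
  show u ∈ (T : Subgroup G)
  rw [← T.is_maximal' hp le_sup_right]
  exact mem_sup_left (mem_zpowers u)

/-- An element of `E₀` centralizing the four-group lies in it. -/
theorem Setting.cent_mem {c : G} (hc : c ∈ E₀) (hca : Commute c a) (hcb : Commute c b) : c ∈ T := by
  obtain ⟨u, s, hu, hs, hus, he, hug, hsg⟩ := exists_split c
  have hz : ∀ z ∈ zpowers c, Commute z a ∧ Commute z b ∧ z ∈ E₀ := by
    rintro _ ⟨i, rfl⟩
    exact ⟨hca.zpow_left i, hcb.zpow_left i, zpow_mem hc i⟩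
  obtain ⟨hua, hub, huE⟩ := hz u hug
  obtain ⟨hsa, hsb, hsE⟩ := hz s hsg
  have hs1 := S.hyp.eq_one_of_comm hy.aE hy.ao hy.bE hy.bo hy.ne (hy.tcomm a hy.aT b hy.bT) hsE hs hsa hsb
  rw [← he, hs1, mul_one]
  refine S.two_mem hy hu (S.hyp.le huE) fun x hx hxE => ?_
  have hux : Commute u x := by
    rcases S.cases_E hy hx hxE with rfl | rfl | rfl | rfl
    exacts [Commute.one_right u, hua, hub, hua.mul_right hub]
  rwa [hux.eq, mul_inv_cancel_right]



theorem Setting.mem_cV {x : G} : x ∈ S.cV hy ↔ x ∈ E ∧ Commute x a ∧ Commute x b := by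
  rw [Setting.cV, mem_inf, mem_inf, mem_centralizer_singleton_iff, mem_centralizer_singleton_iff, and_assoc]
  rfl

theorem Setting.cV_comm : ∀ x ∈ S.cV hy, ∀ y ∈ S.cV hy, Commute x y := by
  set f : S.cV hy →* (F ≃+* F) := S.fp.comp (Subgroup.inclusion fun x hx => ((S.mem_cV hy).1 hx).1)
  haveI : IsCyclic (F ≃+* F) := by
    obtain ⟨p, hp⟩ := CharP.exists F
    obtain ⟨i, hpr, he⟩ := FiniteField.card F p
    have := Fact.mk hpr
    exact (Cfsg.Lib.Known.ChevAut.ringAut_facts (F := F) p i he).1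
  have hker : f.ker ≤ center (S.cV hy) := by
    intro x hx
    obtain ⟨hxE, hxa, hxb⟩ := (S.mem_cV hy).1 x.2
    have hx0 : (x : G) ∈ E₀ := S.mem_of_fp (e := ⟨(x : G), hxE⟩) (MonoidHom.mem_ker.1 hx)
    refine mem_center_iff.2 fun y => Subtype.ext ?_
    obtain ⟨-, hya, hyb⟩ := (S.mem_cV hy).1 y.2
    push_cast
    rcases S.cases_E hy (S.cent_mem hy hx0 hxa hxb) hxE with e | e | e | e <;> rw [e]
    exacts [(Commute.one_right _).eq, hya.eq, hyb.eq, (hya.mul_right hyb).eq]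
  haveI := f.isMulCommutative_of_isCyclic_of_ker_le_center hker
  intro x hx y hy'
  exact congrArg Subtype.val (mul_comm' (⟨x, hx⟩ : S.cV hy) ⟨y, hy'⟩)

/-- The field automorphisms. -/
def Setting.Phi : Subgroup G where
  carrier := {x | x ∈ S.cV hy ∧ Odd (orderOf x)}
  one_mem' := ⟨one_mem _, by rw [orderOf_one]; exact odd_one⟩
  mul_mem' {x y} hx hy' := ⟨mul_mem hx.1 hy'.1, by
    refine Odd.of_dvd_nat (hx.2.mul hy'.2) ((Commute.orderOf_mul_dvd_lcm (S.cV_comm hy x hx.1 y hy'.1)).trans ?_)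
    exact Nat.lcm_dvd_mul _ _⟩
  inv_mem' {x} hx := ⟨inv_mem hx.1, by rw [orderOf_inv]; exact hx.2⟩

theorem Setting.mem_Phi {x : G} : x ∈ S.Phi hy ↔ x ∈ E ∧ Commute x a ∧ Commute x b ∧ Odd (orderOf x) :=
  ⟨fun h => ⟨((S.mem_cV hy).1 h.1).1, ((S.mem_cV hy).1 h.1).2.1, ((S.mem_cV hy).1 h.1).2.2, h.2⟩,
    fun ⟨h1, h2, h3, h4⟩ => ⟨(S.mem_cV hy).2 ⟨h1, h2, h3⟩, h4⟩⟩

theorem Setting.Phi_le : S.Phi hy ≤ E := fun _ hx => ((S.mem_Phi hy).1 hx).1

theorem Setting.Phi_comm : ∀ x ∈ S.Phi hy, ∀ y ∈ S.Phi hy, Commute x y :=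
  fun x hx y hy' => S.cV_comm hy x hx.1 y hy'.1

theorem Setting.Phi_inter {x : G} (hx : x ∈ S.Phi hy) (h0 : x ∈ E₀) : x = 1 := by
  obtain ⟨-, hxa, hxb, ho⟩ := (S.mem_Phi hy).1 hx
  exact S.hyp.eq_one_of_comm hy.aE hy.ao hy.bE hy.bo hy.ne (hy.tcomm a hy.aT b hy.bT) h0 ho hxa hxb

/-- `E = E₀ Phi`. -/
theorem Setting.exists_mul {e : G} (he : e ∈ E) : ∃ g ∈ E₀, ∃ x ∈ S.Phi hy, e = g * x := by
  haveI : Fact (Nat.Prime 2) := ⟨Nat.prime_two⟩
  haveI := S.normal_E₀
  -- move the four-group back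
  have hsub : ∀ z : E, orderOf z = 2 → (z : G) ∈ E₀ := fun z hz => (S.conj_E hz hz).1
  have hao : orderOf (⟨a, S.hyp.le hy.aE⟩ : E) = 2 := by rw [Subgroup.orderOf_mk, hy.ao]
  have haco : orderOf (⟨e * a * e⁻¹, mul_mem (mul_mem he (S.hyp.le hy.aE)) (inv_mem he)⟩ : E) = 2 := by
    rw [Subgroup.orderOf_mk, ← MulAut.conj_apply, MulEquiv.orderOf_eq, hy.ao]
  obtain ⟨-, g, hg, hga⟩ := S.conj_E haco hao
  set e1 : G := g * e with he1
  have he1E : e1 ∈ E := mul_mem (S.hyp.le hg) he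
  have h1a : Commute e1 a := by
    refine mul_inv_eq_iff_eq_mul.1 ?_
    rw [he1, show g * e * a * (g * e)⁻¹ = g * (e * a * e⁻¹) * g⁻¹ by group]
    exact hga
  -- the image of `b` is conjugated back inside `C(a)`
  obtain ⟨u, s, hu, hs, hus, hes, hug, hsg⟩ := exists_split e1
  have hzE : ∀ z ∈ zpowers e1, z ∈ E ∧ Commute z a := by
    rintro _ ⟨i, rfl⟩
    exact ⟨zpow_mem he1E i, h1a.zpow_left i⟩
  obtain ⟨hsE, hsa⟩ := hzE s hsg
  obtain ⟨huE, hua⟩ := hzE u hug
  have hu0 : u ∈ E₀ := by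
    obtain ⟨m, hm⟩ := hu
    obtain ⟨l, hl⟩ : ∃ l, (E₀.subgroupOf E).index * l % 2 ^ (m + 1) = 1 :=
      ⟨_, (Nat.exists_mul_mod_eq_one_of_coprime ((Nat.coprime_two_right.2 S.coe_index_odd).pow_right _)
        (Nat.one_lt_two_pow (by omega))).choose_spec.2⟩
    have hu1 : (⟨u, huE⟩ : E) ^ 2 ^ (m + 1) = 1 := Subtype.ext (by push_cast; rw [pow_succ, pow_mul, hm, one_pow])
    have : (⟨u, huE⟩ : E) ∈ E₀.subgroupOf E := by
      rw [← pow_one (⟨u, huE⟩ : E), ← hl, ← pow_eq_pow_mod _ hu1, pow_mul]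
      exact pow_mem (pow_index_mem _ _) _
    exact this
  -- the odd part acts on the elements inverted by the conjugates of `b`
  set M : Subgroup E₀ := centralizer ({⟨a, hy.aE⟩} : Set E₀)
  set P : Subgroup G := (T : Subgroup G) ⊓ E₀ with hP
  have hPC : P ≤ centralizer ({a} : Set G) := fun x hx =>
    mem_centralizer_singleton_iff.2 (hy.tcomm x hx.1 a hy.aT).eq
  set K : Subgroup G := E₀ ⊓ centralizer ({a} : Set G)
  have hPK : P ≤ K := le_inf inf_le_right hPC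
  -- a Sylow subgroup of `K`
  have hPsyl : ∀ Q : Subgroup G, IsPGroup 2 Q → P ≤ Q → Q ≤ K → Q ≤ P := by
    intro Q hQ hPQ hQK x hx
    refine ⟨S.two_mem hy ?_ (S.hyp.le (hQK hx).1) fun z hz hzE => ?_, (hQK hx).1⟩
    · obtain ⟨k, hk⟩ := hQ ⟨x, hx⟩
      exact ⟨k, congrArg Subtype.val hk⟩
    · have hzQ : z ∈ Q := hPQ ⟨hz, by
        rcases S.cases_E hy hz hzE with rfl | rfl | rfl | rfl
        exacts [one_mem _, hy.aE, hy.bE, mul_mem hy.aE hy.bE]⟩
      rw [show x * z = z * x from Walter.AbTwo.comm S.abTwo hQ hx hzQ, mul_inv_cancel_right]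
      exact hz
  have hsK : ∀ x ∈ K, s * x * s⁻¹ ∈ K := by
    intro x hx
    refine ⟨S.hyp.norm s hsE x hx.1, mem_centralizer_singleton_iff.2 ?_⟩
    have hxa := mem_centralizer_singleton_iff.1 hx.2
    calc s * x * s⁻¹ * a = s * x * (s⁻¹ * a) := by group
      _ = s * (x * a) * s⁻¹ := by rw [(hsa.inv_left).eq]; group
      _ = s * a * x * s⁻¹ := by rw [hxa]; group
      _ = a * (s * x * s⁻¹) := by rw [hsa.eq]; group
  have hP2 : IsPGroup 2 P := T.isPGroup'.to_le inf_le_left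
  set Q : Subgroup G := P.map (MulAut.conj s).toMonoidHom with hQ
  have hQK : Q ≤ K := by rintro _ ⟨x, hx, rfl⟩; exact hsK x (hPK hx)
  obtain ⟨P₁, hP₁⟩ := (hP2.comap_of_injective K.subtype K.subtype_injective).exists_le_sylow
  obtain ⟨Q₁, hQ₁⟩ := ((hP2.map (MulAut.conj s).toMonoidHom).comap_of_injective K.subtype K.subtype_injective).exists_le_sylow
  obtain ⟨k, hk⟩ := MulAction.exists_smul_eq K Q₁ P₁
  have hkb : (k : G) * (s * b * s⁻¹) * (k : G)⁻¹ ∈ P := by
    have h1 : (⟨s * b * s⁻¹, hsK b (hPK ⟨hy.bT, hy.bE⟩)⟩ : K) ∈ (Q₁ : Subgroup K) :=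
      hQ₁ ⟨b, ⟨hy.bT, hy.bE⟩, rfl⟩
    have h2 : k * ⟨s * b * s⁻¹, hsK b (hPK ⟨hy.bT, hy.bE⟩)⟩ * k⁻¹ ∈ (P₁ : Subgroup K) := by
      rw [← hk]; exact ⟨_, h1, rfl⟩
    refine hPsyl ((P₁ : Subgroup K).map K.subtype) (P₁.2.map _) (fun z hz => ⟨⟨z, hPK hz⟩, hP₁ hz, rfl⟩)
      (map_subtype_le _) ⟨_, h2, rfl⟩
  set e2 : G := (k : G) * s with he2
  have he2E : e2 ∈ E := mul_mem (S.hyp.le k.2.1) hsE
  have h2a : Commute e2 a := (show Commute (k : G) a from mem_centralizer_singleton_iff.1 k.2.2).mul_left hsa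
  have h2b : e2 * b * e2⁻¹ ∈ P := by
    rw [he2, show (k : G) * s * b * ((k : G) * s)⁻¹ = (k : G) * (s * b * s⁻¹) * (k : G)⁻¹ by group]
    exact hkb
  -- split again: the two-part normalizes the four-group, the odd part centralizes it
  have hnP : ∀ z ∈ zpowers e2, Commute z a ∧ z ∈ E ∧ (z * b * z⁻¹ = b ∨ z * b * z⁻¹ = a * b) := by
    have hbase : e2 * b * e2⁻¹ = b ∨ e2 * b * e2⁻¹ = a * b := by
      rcases S.cases_E hy h2b.1 (S.hyp.le h2b.2) with e | e | e | e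
      · exfalso; rw [conj_eq_one_iff] at e; have := hy.bo; rw [e, orderOf_one] at this; omega
      · exfalso; exact hy.ne (mul_left_cancel (mul_right_cancel (show e2 * a * e2⁻¹ = e2 * b * e2⁻¹ by
          rw [h2a.eq, mul_inv_cancel_right, e])))
      · exact Or.inl e
      · exact Or.inr e
    intro z hz
    obtain ⟨i, hi⟩ := mem_powers_iff_mem_zpowers.2 hz
    have hi' : e2 ^ i = z := hi
    have key : ∀ j : ℕ, e2 ^ j * b * (e2 ^ j)⁻¹ = b ∨ e2 ^ j * b * (e2 ^ j)⁻¹ = a * b := by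
      intro j
      induction j with
      | zero => left; simp
      | succ j ih =>
        rw [pow_succ', show e2 * e2 ^ j * b * (e2 * e2 ^ j)⁻¹ = e2 * (e2 ^ j * b * (e2 ^ j)⁻¹) * e2⁻¹ by group]
        rcases ih with e | e
        · rw [e]; exact hbase
        · rw [e, ← conj_mul, h2a.eq, mul_inv_cancel_right]
          rcases hbase with e' | e' <;> rw [e']
          · exact Or.inr rfl
          · left; rw [← mul_assoc, AbCentMax.aa S.hyp hy, one_mul]
    rw [← hi']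
    exact ⟨h2a.pow_left i, pow_mem he2E i, key i⟩
  obtain ⟨u', s', hu', hs', hus', hes', hug', hsg'⟩ := exists_split e2
  obtain ⟨hs'a, hs'E, hs'b⟩ := hnP s' hsg'
  obtain ⟨hu'a, hu'E, hu'b⟩ := hnP u' hug'
  have haa := AbCentMax.aa S.hyp hy
  have hs'bb : Commute s' b := by
    rcases hs'b with e | e
    · exact mul_inv_eq_iff_eq_mul.1 e
    · exfalso
      have h2 : Commute (s' * s') b := mul_inv_eq_iff_eq_mul.1 (by
        rw [show s' * s' * b * (s' * s')⁻¹ = s' * (s' * b * s'⁻¹) * s'⁻¹ by group, e, ← conj_mul, hs'a.eq,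
          mul_inv_cancel_right, e, ← mul_assoc, haa, one_mul])
      obtain ⟨j, hj⟩ := AbCentMax.eq_sq_pow hs'
      have h3 : Commute s' b := hj ▸ h2.pow_left j
      rw [h3.eq, mul_inv_cancel_right] at e
      have := hy.ao
      rw [show a = 1 from right_eq_mul.1 e, orderOf_one] at this
      omega
  have hu'T : u' ∈ T := S.two_mem hy hu' hu'E fun z hz hzE => by
    have hb' : u' * b * u'⁻¹ ∈ (T : Subgroup G) := by
      rcases hu'b with e | e <;> rw [e]
      exacts [hy.bT, (T : Subgroup G).mul_mem hy.aT hy.bT]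
    rcases S.cases_E hy hz hzE with rfl | rfl | rfl | rfl
    · simp
    · rw [hu'a.eq, mul_inv_cancel_right]; exact hy.aT
    · exact hb'
    · rw [← conj_mul, hu'a.eq, mul_inv_cancel_right]; exact (T : Subgroup G).mul_mem hy.aT hb'
  have hu'0 : u' ∈ E₀ := by
    rcases S.cases_E hy hu'T hu'E with rfl | rfl | rfl | rfl
    exacts [one_mem _, hy.aE, hy.bE, mul_mem hy.aE hy.bE]
  refine ⟨g⁻¹ * (u * ((k : G)⁻¹ * u')), mul_mem (inv_mem hg) (mul_mem hu0 (mul_mem (inv_mem k.2.1) hu'0)),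
    s', (S.mem_Phi hy).2 ⟨hs'E, hs'a, hs'bb, hs'⟩, ?_⟩
  calc e = g⁻¹ * (g * e) := by group
    _ = g⁻¹ * (u * s) := by rw [← he1, hes]
    _ = g⁻¹ * (u * ((k : G)⁻¹ * e2)) := by rw [he2]; group
    _ = g⁻¹ * (u * ((k : G)⁻¹ * u')) * s' := by rw [← hes']; group

theorem Setting.fp_Phi_inj {x y : E} (hx : (x : G) ∈ S.Phi hy) (hy' : (y : G) ∈ S.Phi hy)
    (h : S.fp x = S.fp y) : x = y := by
  refine mul_inv_eq_one.1 (Subtype.ext (S.Phi_inter hy (mul_mem hx (inv_mem hy')) ?_))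
  exact S.mem_of_fp (e := x * y⁻¹) (by rw [map_mul, map_inv, h, mul_inv_cancel])

theorem Setting.card_Phi : Nat.card (S.Phi hy) = E₀.relIndex E := by
  haveI := S.normal_E₀
  rw [Subgroup.relIndex, ← S.fp_ker, index_ker]
  refine Nat.card_congr (Equiv.ofBijective (fun x : S.Phi hy =>
    (⟨S.fp ⟨x, S.Phi_le hy x.2⟩, ⟨_, rfl⟩⟩ : S.fp.range)) ⟨fun x y h => ?_, fun z => ?_⟩)
  · exact Subtype.ext (congrArg (Subtype.val : E → G) (S.fp_Phi_inj hy x.2 y.2 (congrArg (fun w : S.fp.range => (w : F ≃+* F)) h)))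
  · obtain ⟨_, ⟨e, rfl⟩⟩ := z
    obtain ⟨g, hg, x, hx, hge⟩ := S.exists_mul hy e.2
    refine ⟨⟨x, hx⟩, Subtype.ext ?_⟩
    show S.fp ⟨x, _⟩ = S.fp e
    rw [show e = (⟨g, S.hyp.le hg⟩ : E) * ⟨x, S.Phi_le hy hx⟩ from Subtype.ext hge, map_mul,
      S.fp_of_mem (e := ⟨g, S.hyp.le hg⟩) hg, one_mul]

theorem Setting.Phi_cyclic : IsCyclic (S.Phi hy) := by
  haveI : IsCyclic (F ≃+* F) := by
    obtain ⟨p, hp⟩ := CharP.exists F
    obtain ⟨i, hpr, he⟩ := FiniteField.card F p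
    have := Fact.mk hpr
    exact (Cfsg.Lib.Known.ChevAut.ringAut_facts (F := F) p i he).1
  exact isCyclic_of_injective (S.fp.comp (Subgroup.inclusion (S.Phi_le hy))) fun x y h =>
    Subtype.ext (congrArg (Subtype.val : E → G) (S.fp_Phi_inj hy x.2 y.2 h))

end Cfsg.Lib.Ree.Twist
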