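import Cfsg.Agent.OddChar.PF.OddOrder

/-!
Two facts on subgroups of `GL(2, r)` used by the transfer lemma of `notes/ree_partC_small_h5.md`: without `-1` the
unipotent elements form a subgroup, and a subgroup of order prime to `r` containing `diag(1, β)`, `β² ≠ 1`, in
which the first basis vector is not moved to another of its multiples fixes that vector.
-/

set_option autoImplicit false

namespace Cfsg.Lib.Ree.Transfer

open Matrix

variable {r : ℕ} [hr : Fact r.Prime]

/-- The 2 × 2 matrices over the field with `r` elements. -/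
abbrev M2 (r : ℕ) := Matrix (Fin 2) (Fin 2) (ZMod r)

/-- The determinant on the units. -/
noncomputable def detU : (M2 r)ˣ →* (ZMod r)ˣ := Units.map (Matrix.detMonoidHom (n := Fin 2) (R := ZMod r))

/-- Unipotent. -/
def Unip (A : M2 r) : Prop := (A - 1) * (A - 1) = 0

theorem cayley (A : M2 r) : A * A = A.trace • A - A.det • (1 : M2 r) := by
  rw [Matrix.eta_fin_two A, trace_fin_two, det_fin_two, one_fin_two, mul_fin_two]
  ext i j
  fin_cases i <;> fin_cases j <;> simp <;> ring

theorem nil_facts {X : M2 r} (h : IsNilpotent X) : X.trace = 0 ∧ X.det = 0 := by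
  obtain ⟨k, hk⟩ := h
  have h' : IsNilpotent X.det := ⟨k + 1, by
    rw [← det_pow, pow_succ, hk, zero_mul, det_zero]⟩
  exact ⟨(Matrix.isNilpotent_trace_of_isNilpotent ⟨k, hk⟩).eq_zero, h'.eq_zero⟩

theorem unip_iff (A : M2 r) : Unip A ↔ A.det = 1 ∧ A.trace = 2 := by
  constructor
  · intro h
    obtain ⟨ht, hd⟩ := nil_facts (X := A - 1) ⟨2, by rw [pow_two]; exact h⟩
    rw [trace_fin_two] at ht ⊢
    rw [det_fin_two] at hd ⊢
    simp only [Matrix.sub_apply, Matrix.one_apply_eq, Matrix.one_apply_ne (show (0 : Fin 2) ≠ 1 by decide),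
      Matrix.one_apply_ne (show (1 : Fin 2) ≠ 0 by decide), sub_zero] at ht hd
    constructor
    · linear_combination hd + ht
    · linear_combination ht
  · rintro ⟨h1, h2⟩
    have hm : (A - 1) * (A - 1) = (A.trace - 2) • A + (1 - A.det) • (1 : M2 r) := by
      rw [sub_mul, mul_sub, mul_sub, one_mul, mul_one, mul_one, cayley, sub_smul, sub_smul, one_smul, two_smul]
      abel
    rw [Unip, hm, h1, h2, sub_self, sub_self, zero_smul, zero_smul, add_zero]

theorem Unip.pow_eq_one {A : M2 r} (h : Unip A) : A ^ r = 1 := by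
  have h1 : A = (A - 1) + 1 := by simp
  have h0 : (A - 1) ^ r = 0 := pow_eq_zero_of_le hr.out.two_le (by rw [pow_two]; exact h)
  rw [h1, add_pow_char_of_commute (p := r) (Commute.one_right _), h0, zero_add, one_pow]

theorem unip_of_pow {A : M2 r} {k : ℕ} (h : A ^ r ^ k = 1) : Unip A := by
  have hn : (A - 1) ^ r ^ k = 0 := by
    rw [sub_pow_char_pow_of_commute (p := r) k (Commute.one_right _), h, one_pow, sub_self]
  obtain ⟨ht0, hd⟩ := nil_facts ⟨_, hn⟩
  show (A - 1) * (A - 1) = 0
  rw [cayley, ht0, hd, zero_smul, zero_smul, sub_zero]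

/-- A product of unipotent matrices is unipotent, or a power-word is minus the identity. -/
theorem unip_mul_or {A B : M2 r} (hA : Unip A) (hB : Unip B) :
    Unip (A * B) ∨ ∃ i : ℕ, (A ^ i * B * A ^ i) * (A ^ i * B * A ^ i) = -1 := by
  set n := A - 1 with hn
  set m := B - 1 with hm
  have hA1 : A = 1 + n := by simp [hn]
  have hB1 : B = 1 + m := by simp [hm]
  obtain ⟨dA, tA⟩ := (unip_iff A).1 hA
  obtain ⟨dB, tB⟩ := (unip_iff B).1 hB
  have tn : n.trace = 0 := by rw [hn, trace_sub, tA, trace_one]; simp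
  have tm : m.trace = 0 := by rw [hm, trace_sub, tB, trace_one]; simp
  have dnm : (n + m) * (n + m) = (n * m + m * n) := by
    rw [add_mul, mul_add, mul_add, show n * n = 0 from hA, show m * m = 0 from hB]
    abel
  have key : n * m + m * n = (n * m).trace • (1 : M2 r) := by
    have e : ∀ P R : M2 r, P.trace = 0 → R.trace = 0 → P * R + R * P = (P * R).trace • (1 : M2 r) := by
      intro P R hP hR
      rw [Matrix.eta_fin_two P, Matrix.eta_fin_two R, one_fin_two, mul_fin_two, mul_fin_two, trace_fin_two_of]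
      rw [trace_fin_two] at hP hR
      ext i j
      fin_cases i <;> fin_cases j <;> simp
      · linear_combination P 0 0 * hR - R 1 1 * hP
      · linear_combination P 0 1 * hR + R 0 1 * hP
      · linear_combination P 1 0 * hR + R 1 0 * hP
      · linear_combination P 1 1 * hR - R 0 0 * hP
    exact e n m tn tm
  by_cases hτ : (n * m).trace = 0
  · left
    refine (unip_iff _).2 ⟨by rw [det_mul, dA, dB, one_mul], ?_⟩
    rw [hA1, hB1, add_mul, mul_add, mul_add, one_mul, one_mul, mul_one]
    simp only [trace_add, trace_one, tn, tm, hτ]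
    simp
  · right
    set τ := (n * m).trace with hτd
    obtain ⟨c, hcτ⟩ : ∃ c : ZMod r, c * τ = -1 := ⟨-τ⁻¹, by rw [neg_mul, inv_mul_cancel₀ hτ]⟩
    refine ⟨c.val, ?_⟩
    have hpow : ∀ i : ℕ, A ^ i = 1 + (i : ZMod r) • n := by
      intro i
      induction i with
      | zero => simp
      | succ i ih =>
        rw [pow_succ, ih, hA1, mul_add, mul_one, add_mul, one_mul, smul_mul_assoc, show n * n = 0 from hA, smul_zero,
          add_zero, Nat.cast_succ, add_smul, one_smul]
        abel
    rw [hpow, ZMod.natCast_zmod_val, hB1]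
    have hnmn : n * m * n = τ • n := by
      have := congrArg (· * n) key
      rw [add_mul, mul_assoc m, show n * n = 0 from hA, mul_zero, add_zero, smul_mul_assoc, one_mul] at this
      exact this
    have e1 : (1 + c • n) * (1 + m) * (1 + c • n) = c • n + m := by
      have : (1 + c • n) * (1 + m) * (1 + c • n) =
          1 + m + c • n + c • n + c • (n * m + m * n) + (c * c) • (n * n) + (c * c) • (n * m * n) := by
        simp only [add_mul, mul_add, one_mul, mul_one, smul_mul_assoc, mul_smul_comm, smul_add, smul_smul]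
        abel
      rw [this, key, show n * n = 0 from hA, hnmn, smul_zero, add_zero, smul_smul, smul_smul, hcτ, mul_assoc, hcτ,
        mul_neg_one, neg_smul, neg_smul, one_smul]
      abel
    rw [e1, add_mul, mul_add, mul_add, smul_mul_smul_comm, show n * n = 0 from hA, show m * m = 0 from hB, smul_zero,
      zero_add, add_zero, mul_smul_comm, smul_mul_assoc, ← smul_add, key, smul_smul, hcτ, neg_smul, one_smul]

set_option maxHeartbeats 1000000 in
/-- The first basis vector is fixed. -/
theorem fixes_first (hr2 : r ≠ 2) (S : Subgroup (M2 r)ˣ) (hS : ¬ r ∣ Nat.card S) {w : (M2 r)ˣ} (hw : w ∈ S)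
    (w0 : (w : M2 r) 0 0 = 1) (w1 : (w : M2 r) 1 0 = 0) (w2 : (w : M2 r) 1 1 ^ 2 ≠ 1)
    (hone : ∀ g ∈ S, (g : M2 r) 1 0 = 0 → (g : M2 r) 0 0 = 1) :
    ∀ g ∈ S, (g : M2 r) 1 0 = 0 ∧ (g : M2 r) 0 0 = 1 := by
  have h2 : (2 : ZMod r) ≠ 0 := fun h => hr2 (by
    have := (ZMod.natCast_eq_zero_iff 2 r).1 (by exact_mod_cast h) |> fun d => (Nat.prime_dvd_prime_iff_eq hr.out Nat.prime_two).1 d
    exact this)
  -- conjugate to make `w` diagonal
  set β := (w : M2 r) 1 1 with hβ
  have hβ1 : β ≠ 1 := fun e => w2 (by rw [e, one_pow])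
  set c := (w : M2 r) 0 1 / (β - 1) with hc
  let C : (M2 r)ˣ := ⟨!![1, c; 0, 1], !![1, -c; 0, 1], by simp [Matrix.one_fin_two], by simp [Matrix.one_fin_two]⟩
  let S' : Subgroup (M2 r)ˣ := S.map (MulAut.conj C⁻¹).toMonoidHom
  have hconj : ∀ g : (M2 r)ˣ, (((MulAut.conj C⁻¹).toMonoidHom g : (M2 r)ˣ) : M2 r) =
      !![(g : M2 r) 0 0 - c * (g : M2 r) 1 0,
        ((g : M2 r) 0 0 - c * (g : M2 r) 1 0) * c + ((g : M2 r) 0 1 - c * (g : M2 r) 1 1);
        (g : M2 r) 1 0, (g : M2 r) 1 0 * c + (g : M2 r) 1 1] := by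
    intro g
    show ((C⁻¹ * g * C⁻¹⁻¹ : (M2 r)ˣ) : M2 r) = _
    rw [inv_inv, Units.val_mul, Units.val_mul, show ((C⁻¹ : (M2 r)ˣ) : M2 r) = !![1, -c; 0, 1] from rfl,
      show (C : M2 r) = !![1, c; 0, 1] from rfl, Matrix.eta_fin_two (g : M2 r)]
    ext i j
    fin_cases i <;> fin_cases j <;> simp <;> ring
  suffices h : ∀ g ∈ S', (g : M2 r) 1 0 = 0 by
    intro g hg
    have h' := h _ (Subgroup.mem_map_of_mem _ hg)
    have e : (g : M2 r) 1 0 = 0 := by
      rw [← h', hconj]
      simp
    exact ⟨e, hone g hg e⟩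
  have hone' : ∀ g ∈ S', (g : M2 r) 1 0 = 0 → (g : M2 r) 0 0 = 1 := by
    rintro _ ⟨g, hg, rfl⟩ h
    have e : (g : M2 r) 1 0 = 0 := by
      rw [← h, hconj]
      simp
    have h0 := hone g hg e
    rw [hconj]
    simp [e, h0]
  set d : (M2 r)ˣ := (MulAut.conj C⁻¹).toMonoidHom w with hd
  have hdS : d ∈ S' := Subgroup.mem_map_of_mem _ hw
  have hdm : (d : M2 r) = !![1, 0; 0, β] := by
    have hc' : c * (β - 1) = (w : M2 r) 0 1 := div_mul_cancel₀ _ (sub_ne_zero.2 hβ1)
    rw [hd, hconj]
    ext i j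
    fin_cases i <;> fin_cases j <;> simp [w0, w1, ← hβ]
    linear_combination -hc'
  have hS' : ¬ r ∣ Nat.card S' := by
    rwa [Subgroup.card_map_of_injective (MulAut.conj C⁻¹).injective]
  have hord : ∀ g ∈ S', ¬ r ∣ orderOf g := fun g hg h =>
    hS' (h.trans (by rw [← Subgroup.orderOf_mk g hg]; exact orderOf_dvd_natCard _))
  have hneg : ∀ g ∈ S', (g : M2 r) ≠ -1 := fun g hg h => by
    have := hone' g hg (by simp [h])
    rw [h] at this
    simp at this
    exact h2 (by linear_combination -this)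
  have hunip : ∀ g ∈ S', Unip (g : M2 r) → g = 1 := fun g hg h => by
    have : orderOf g ∣ r := orderOf_dvd_of_pow_eq_one (Units.ext (by push_cast; exact h.pow_eq_one))
    rcases (Nat.dvd_prime hr.out).1 this with e | e
    · exact orderOf_eq_one_iff.1 e
    · exact absurd e.symm.dvd (hord g hg)
  -- the determinant is injective on `S'`
  let N : Subgroup (M2 r)ˣ := S' ⊓ (detU (r := r)).ker
  have hNdet : ∀ g ∈ N, (g : M2 r).det = 1 := fun g hg => by
    have := congrArg Units.val (MonoidHom.mem_ker.1 hg.2)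
    simpa [detU] using this
  have hN : N = ⊥ := by
    have hodd : Odd (Nat.card N) := by
      by_contra he
      haveI : Fact (Nat.Prime 2) := ⟨Nat.prime_two⟩
      obtain ⟨⟨g, hg⟩, hg2⟩ := exists_prime_orderOf_dvd_card' (G := N) 2 (Nat.not_odd_iff_even.1 he).two_dvd
      rw [Subgroup.orderOf_mk] at hg2
      refine hneg g hg.1 ?_
      have hsq : (g : M2 r) * g = 1 := by
        have h : g ^ 2 = 1 := orderOf_dvd_iff_pow_eq_one.1 (dvd_of_eq hg2)
        rw [pow_two] at h
        rw [← Units.val_mul, h, Units.val_one]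
      have hcy := cayley (g : M2 r)
      rw [hsq, hNdet g hg, one_smul, eq_sub_iff_add_eq, ← two_smul (ZMod r) (1 : M2 r)] at hcy
      rcases eq_or_ne (g : M2 r).trace 0 with e | e
      · rw [e, zero_smul] at hcy
        exact absurd (congrFun (congrFun hcy 0) 0) (by simpa using h2)
      · have hg1 : (g : M2 r) = (2 / (g : M2 r).trace) • (1 : M2 r) := by
          rw [div_eq_inv_mul, ← smul_smul, hcy, smul_smul, inv_mul_cancel₀ e, one_smul]
        set l := 2 / (g : M2 r).trace
        have hl : l * l = 1 := by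
          have := hsq
          rw [hg1, smul_mul_smul_comm, one_mul] at this
          simpa using congrFun (congrFun this 0) 0
        rcases mul_self_eq_one_iff.1 hl with e' | e'
        · exfalso
          rw [e', one_smul, Units.val_eq_one] at hg1
          rw [hg1, orderOf_one] at hg2
          omega
        · rw [hg1, e', neg_smul, one_smul]
    haveI hsol : Group.IsSolvable N := Cfsg.Agent.PF.isSolvable_of_odd _ hodd
    by_contra hne
    obtain ⟨n, hn⟩ := hsol.solvable
    classical
    have hex : ∃ n, derivedSeries N n = ⊥ := ⟨n, hn⟩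
    obtain ⟨k, hk⟩ : ∃ k, Nat.find hex = k + 1 := Nat.exists_eq_succ_of_ne_zero fun e => by
      have h := Nat.find_spec hex
      rw [e, derivedSeries_zero] at h
      exact hne (Subgroup.eq_bot_iff_forall _ |>.2 fun x hx => congrArg Subtype.val
        ((Subgroup.eq_bot_iff_forall _).1 h ⟨x, hx⟩ (Subgroup.mem_top _)))
    have hlast := Nat.find_spec hex
    rw [hk, derivedSeries_succ] at hlast
    have hA : derivedSeries N k ≠ ⊥ := Nat.find_min hex (by omega)
    obtain ⟨⟨a, haN⟩, haA, ha1⟩ := (Subgroup.ne_bot_iff_exists_ne_one).1 hA |> fun ⟨x, hx⟩ =>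
      (⟨(x : N), x.2, fun e => hx (Subtype.ext e)⟩ : ∃ a : N, a ∈ derivedSeries N k ∧ a ≠ 1)
    refine ha1 (Subtype.ext ?_)
    have hnorm : ∀ y ∈ S', ∀ x ∈ N, y * x * y⁻¹ ∈ N := fun y hy x hx => Subgroup.mem_inf.2
      ⟨mul_mem (mul_mem hy hx.1) (inv_mem hy), MonoidHom.mem_ker.2 (by
        rw [map_mul, map_mul, MonoidHom.mem_ker.1 hx.2, mul_one, map_inv, mul_inv_cancel])⟩
    let α : MulAut N :=
      { toFun := fun x => ⟨d * x * d⁻¹, hnorm d hdS x x.2⟩
        invFun := fun x => ⟨d⁻¹ * x * d⁻¹⁻¹, hnorm d⁻¹ (inv_mem hdS) x x.2⟩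
        left_inv := fun x => Subtype.ext (by show d⁻¹ * (d * x * d⁻¹) * d⁻¹⁻¹ = _; group)
        right_inv := fun x => Subtype.ext (by show d * (d⁻¹ * x * d⁻¹⁻¹) * d⁻¹ = _; group)
        map_mul' := fun x y => Subtype.ext (by show d * (x * y) * d⁻¹ = d * x * d⁻¹ * (d * y * d⁻¹); group) }
    have hconjA : α ⟨a, haN⟩ ∈ derivedSeries N k := by
      have := Subgroup.characteristic_iff_map_le.1 (derivedSeries_characteristic N k) α
      exact this (Subgroup.mem_map_of_mem _ haA)
    have hcomm : Commute a (d * a * d⁻¹) := by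
      have := Subgroup.commutator_eq_bot_iff_le_centralizer.1 hlast haA _ hconjA
      exact (congrArg Subtype.val this).symm
    have hda : ((d * a * d⁻¹ : (M2 r)ˣ) : M2 r) = !![(a : M2 r) 0 0, (a : M2 r) 0 1 / β; β * (a : M2 r) 1 0, (a : M2 r) 1 1] := by
      have hβ0 : β ≠ 0 := fun e => by
        have h := congrArg Matrix.det (show (d : M2 r) * (d⁻¹ : (M2 r)ˣ) = 1 by simp)
        rw [det_mul, hdm, det_fin_two_of, e] at h
        simp at h
      have hi : ((d⁻¹ : (M2 r)ˣ) : M2 r) = !![1, 0; 0, β⁻¹] := Units.inv_eq_of_mul_eq_one_right (by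
        rw [hdm]; simp [hβ0, Matrix.one_fin_two])
      rw [Units.val_mul, Units.val_mul, hdm, hi, Matrix.eta_fin_two (a : M2 r)]
      ext i j
      fin_cases i <;> fin_cases j <;> simp [div_eq_mul_inv]
      field_simp
    have hc : (a : M2 r) * ((d * a * d⁻¹ : (M2 r)ˣ) : M2 r) = ((d * a * d⁻¹ : (M2 r)ˣ) : M2 r) * (a : M2 r) := by
      have := congrArg Units.val hcomm.eq
      simpa only [Units.val_mul] using this
    rw [hda] at hc
    obtain ⟨p, q, s, t, hpq⟩ : ∃ p q s t, (a : M2 r) = !![p, q; s, t] := ⟨_, _, _, _, Matrix.eta_fin_two _⟩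
    rw [hpq] at hc
    have hβ0 : β ≠ 0 := fun e => by
      have h := congrArg Matrix.det (show (d : M2 r) * (d⁻¹ : (M2 r)ˣ) = 1 by simp)
      rw [det_mul, hdm, det_fin_two_of, e] at h
      simp at h
    have e00 := congrFun (congrFun hc 0) 0
    have e10 := congrFun (congrFun hc 1) 0
    simp [Matrix.mul_apply, Fin.sum_univ_two] at e00 e10
    have hdet : p * t - q * s = 1 := by
      have := hNdet a haN
      rwa [hpq, det_fin_two_of] at this
    have hqs : q * s = 0 := by
      have : q * s * (β ^ 2 - 1) = 0 := by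
        field_simp at e00
        linear_combination e00
      exact (mul_eq_zero.1 this).resolve_right (sub_ne_zero.2 w2)
    rcases eq_or_ne s 0 with hs | hs
    · have hp : p = 1 := by
        have := hone' a haN.1 (by rw [hpq]; simpa using hs)
        rw [hpq] at this
        simpa using this
      refine hunip a haN.1 ((unip_iff _).2 ⟨hNdet a haN, ?_⟩)
      rw [hpq, trace_fin_two_of, hp]
      linear_combination hdet + q * hs - t * hp
    · exfalso
      have hq : q = 0 := (mul_eq_zero.1 hqs).resolve_right hs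
      have hpt : p = t := by
        have : s * (p - t) * (1 - β) = 0 := by linear_combination e10
        rcases mul_eq_zero.1 this with h | h
        · exact sub_eq_zero.1 ((mul_eq_zero.1 h).resolve_left hs)
        · exact absurd (sub_eq_zero.1 h).symm hβ1
      have hp : p * p = 1 := by linear_combination hdet + q * 0 + s * hq + p * hpt
      rcases mul_self_eq_one_iff.1 hp with e | e
      · have hu : Unip (a : M2 r) := (unip_iff _).2 ⟨hNdet a haN, by rw [hpq, trace_fin_two_of, ← hpt, e]; norm_num⟩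
        have := hunip a haN.1 hu
        rw [this] at hpq
        exact hs (by simpa using (congrFun (congrFun hpq 1) 0).symm)
      · have hu : Unip (-(a : M2 r)) := (unip_iff _).2 ⟨by rw [det_neg, hNdet a haN]; simp, by
          rw [trace_neg, hpq, trace_fin_two_of, ← hpt, e]; ring⟩
        have := hu.pow_eq_one
        rw [(hr.out.odd_of_ne_two hr2).neg_pow] at this
        exact hneg (a ^ r) (pow_mem haN.1 r) (by rw [Units.val_pow_eq_pow_val, ← this, neg_neg])
  intro g hg
  have hgd : g * d * g⁻¹ * d⁻¹ ∈ N := Subgroup.mem_inf.2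
    ⟨mul_mem (mul_mem (mul_mem hg hdS) (inv_mem hg)) (inv_mem hdS), MonoidHom.mem_ker.2 (by
      simp only [map_mul, map_inv]
      exact mul_inv_eq_one.2 (mul_inv_eq_iff_eq_mul.2 (mul_comm _ _)))⟩
  rw [hN, Subgroup.mem_bot, mul_inv_eq_one, mul_inv_eq_iff_eq_mul] at hgd
  have he := congrArg (fun A : (M2 r)ˣ => (A : M2 r) 1 0) hgd
  simp [Matrix.mul_apply, Fin.sum_univ_two, hdm] at he
  have : (g : M2 r) 1 0 * (1 - β) = 0 := by linear_combination he
  exact (mul_eq_zero.1 this).resolve_right (sub_ne_zero.2 (Ne.symm hβ1))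

end Cfsg.Lib.Ree.Transfer
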