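import Cfsg.Agent.Ree.Transfer.Frame
import Cfsg.Agent.AbCentMax.Final

/-!
The centralizers of the field automorphisms in `E`, and their fusion: `N(T)` centralizes `Phi` and
`N⟨φ⟩ = C(φ)`.
-/

set_option autoImplicit false
set_option linter.unusedSectionVars false
set_option linter.style.haveILetI false

namespace Cfsg.Lib.Ree.Twist

open Subgroup Cfsg.Lib.TwoTimesPSL Cfsg.Lib.Known.AutPSLn
open scoped Pointwise

universe u v

variable {G : Type u} [Group G] [Finite G] {t : G} {E E₀ : Subgroup G} {F : Type v} [Field F] [Fintype F]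
  (S : Setting t E E₀ F) {T : Sylow 2 G} {a b n : G} (hy : AbCentMax.Sys t E₀ T a b n)
include S hy

theorem Setting.fp_order {x : G} (hx : x ∈ S.Phi hy) :
    orderOf (S.fp ⟨x, S.Phi_le hy hx⟩) = orderOf x := by
  have hinj : Function.Injective (S.fp.comp (Subgroup.inclusion (S.Phi_le hy))) := fun y z h =>
    Subtype.ext (congrArg (Subtype.val : E → G) (S.fp_Phi_inj hy y.2 z.2 h))
  rw [← Subgroup.orderOf_mk x hx, ← orderOf_injective _ hinj ⟨x, hx⟩]
  rfl

/-- The centralizer of a field automorphism in `E₀`. -/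
theorem Setting.fixed {x : G} (hx : x ∈ S.Phi hy) :
    ∃ (L : Type v) (_ : Field L) (_ : Fintype L), Fintype.card L ^ orderOf x = Fintype.card F ∧
      Nonempty (↥(E₀ ⊓ centralizer ({x} : Set G)) ≃* Matrix.ProjectiveSpecialLinearGroup (Fin 2) L) := by
  classical
  set xE : E := ⟨x, S.Phi_le hy hx⟩ with hxE
  set β := MulAut.congr S.iso (S.actE xE) with hβ
  obtain ⟨g, hg⟩ := fieldPart_spec β
  have hk : Odd (orderOf x) := ((S.mem_Phi hy).1 hx).2.2.2
  have hord : orderOf (fieldPart β) = orderOf x := S.fp_order hy hx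
  obtain ⟨h, hh⟩ := Transfer.field_conj (σ := fieldPart β) hk.pos hord (g := g) (by
    rw [← hg, hβ, ← map_pow, ← map_pow, show orderOf x = orderOf xE from (Subgroup.orderOf_mk x _).symm,
      pow_orderOf_eq_one, map_one, map_one])
  obtain ⟨L, iL, iLt, hcard, j, hj, hfix⟩ := Transfer.field_fixed (σ := fieldPart β) hk hord h
  refine ⟨L, iL, iLt, hcard, ⟨?_⟩⟩
  have hcx : ∀ z : E₀, Commute (z : G) x ↔ S.iso z ∈ j.range := by
    intro z
    rw [hfix, ← hh, ← hg]
    show _ ↔ S.iso ⟨x * ((S.iso.symm (S.iso z) : E₀) : G) * x⁻¹, _⟩ = S.iso z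
    rw [EmbeddingLike.apply_eq_iff_eq, Subtype.ext_iff]
    show _ ↔ x * ((S.iso.symm (S.iso z) : E₀) : G) * x⁻¹ = (z : G)
    rw [MulEquiv.symm_apply_apply]
    exact ⟨fun hc => by rw [← hc.eq, mul_inv_cancel_right], fun hc => (mul_inv_eq_iff_eq_mul.1 hc).symm⟩
  let e : ↥(E₀ ⊓ centralizer ({x} : Set G)) ≃* ↥j.range :=
    { toFun := fun z => ⟨S.iso ⟨z, z.2.1⟩, (hcx _).1 (mem_centralizer_singleton_iff.1 z.2.2)⟩
      invFun := fun w => ⟨(S.iso.symm (w : _) : E₀), (S.iso.symm (w : _)).2, mem_centralizer_singleton_iff.2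
        ((hcx (S.iso.symm (w : _))).2 (by rw [MulEquiv.apply_symm_apply]; exact w.2)).eq⟩
      left_inv := fun z => Subtype.ext (by simp)
      right_inv := fun w => Subtype.ext (by simp)
      map_mul' := fun z w => Subtype.ext ((congrArg S.iso (Subtype.ext rfl :
        (⟨((z * w : ↥(E₀ ⊓ centralizer ({x} : Set G))) : G), (z * w).2.1⟩ : E₀) = ⟨z, z.2.1⟩ * ⟨w, w.2.1⟩)).trans (map_mul S.iso _ _)) }
  exact e.trans (MonoidHom.ofInjective hj).symm

/-- `C_E(x) = C_{E₀}(x) Phi`. -/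
theorem Setting.card_cent {x : G} (hx : x ∈ S.Phi hy) :
    Nat.card ↥(E ⊓ centralizer ({x} : Set G)) =
      Nat.card ↥(E₀ ⊓ centralizer ({x} : Set G)) * E₀.relIndex E := by
  rw [← S.card_Phi hy, ← Nat.card_prod]
  have hxc : ∀ p : G, p ∈ S.Phi hy → Commute p x := fun p hp => S.Phi_comm hy p hp x hx
  refine (Nat.card_congr (Equiv.ofBijective (fun w : ↥(E₀ ⊓ centralizer ({x} : Set G)) × S.Phi hy =>
    (⟨(w.1 : G) * (w.2 : G), mul_mem (S.hyp.le w.1.2.1) (S.Phi_le hy w.2.2), mem_centralizer_singleton_iff.2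
      ((show Commute (w.1 : G) x from mem_centralizer_singleton_iff.1 w.1.2.2).mul_left (hxc _ w.2.2)).eq⟩ :
      ↥(E ⊓ centralizer ({x} : Set G)))) ⟨?_, ?_⟩)).symm
  · rintro ⟨p, q⟩ ⟨p', q'⟩ h
    have h' : (p : G) * q = p' * q' := congrArg (fun z : ↥(E ⊓ centralizer ({x} : Set G)) => (z : G)) h
    have e : (p' : G)⁻¹ * p = (q' : G) * (q : G)⁻¹ := by
      rw [eq_mul_inv_iff_mul_eq, mul_assoc, h', inv_mul_cancel_left]
    have e1 : (q' : G) * (q : G)⁻¹ = 1 :=
      S.Phi_inter hy (mul_mem q'.2 (inv_mem q.2)) (e ▸ mul_mem (inv_mem p'.2.1) p.2.1)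
    rw [e1, inv_mul_eq_one] at e
    rw [mul_inv_eq_one] at e1
    exact Prod.ext (Subtype.ext e.symm) (Subtype.ext e1.symm)
  · rintro ⟨z, hzE, hzc⟩
    obtain ⟨g, hg, p, hp, rfl⟩ := S.exists_mul hy hzE
    refine ⟨(⟨g, hg, mem_centralizer_singleton_iff.2 ?_⟩, ⟨p, hp⟩), rfl⟩
    have h1 : Commute (g * p) x := mem_centralizer_singleton_iff.1 hzc
    simpa using (h1.mul_left ((hxc p hp).inv_left)).eq

theorem Setting.n_comm {x : G} (hx : x ∈ S.Phi hy) : Commute n x := by
  obtain ⟨hxE, hxa, hxb, hxo⟩ := (S.mem_Phi hy).1 hx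
  have hxn : n * x * n⁻¹ ∈ S.Phi hy := by
    refine (S.mem_Phi hy).2 ⟨mul_mem (mul_mem (S.hyp.le hy.nE) hxE) (inv_mem (S.hyp.le hy.nE)), ?_, ?_, ?_⟩
    · have h := (Commute.conj_iff n).2 (hxa.mul_right hxb)
      have e2 : b * (a * b) = a := by
        rw [← mul_assoc, (hy.tcomm b hy.bT a hy.aT).eq, mul_assoc, AbCentMax.bb S.hyp hy, mul_one]
      rwa [← conj_mul, hy.na, hy.nb, e2] at h
    · have h := (Commute.conj_iff n).2 hxa
      rwa [hy.na] at h
    · rw [← MulAut.conj_apply, MulEquiv.orderOf_eq]; exact hxo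
  have h0 : n * x * n⁻¹ * x⁻¹ ∈ E₀ := by
    rw [show n * x * n⁻¹ * x⁻¹ = n * (x * n⁻¹ * x⁻¹) by group]
    exact mul_mem hy.nE (S.hyp.norm x hxE _ (inv_mem hy.nE))
  exact mul_inv_eq_iff_eq_mul.1 (mul_inv_eq_one.1 (S.Phi_inter hy (mul_mem hxn (inv_mem hx)) h0))

/-- The elements of odd order centralizing `T` are the field automorphisms. -/
theorem Setting.mem_Phi_of_cent {x : G} (ho : Odd (orderOf x)) (hc : ∀ y ∈ T, Commute x y) : x ∈ S.Phi hy :=
  (S.mem_Phi hy).2 ⟨S.hyp.odd_mem_E ho (hc t hy.tT), hc a hy.aT, hc b hy.bT, ho⟩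

/-- The transitivity of the normalizer of `T`. -/
theorem Setting.trans {y : G} (hyT : y ∈ T) (hy1 : y ≠ 1) :
    ∃ g ∈ normalizer ((T : Subgroup G) : Set G), g * t * g⁻¹ = y := by
  haveI : Fact (Nat.Prime 2) := ⟨Nat.prime_two⟩
  have hyo : orderOf y = 2 := by
    have hyy : y * y = 1 := by
      obtain ⟨v, hv, hyv⟩ := hy.cases y hyT
      have hvv : v * v = 1 ∧ Commute t v := by
        rcases hv with rfl | rfl | rfl | rfl
        · exact ⟨one_mul 1, Commute.one_right t⟩
        · exact ⟨AbCentMax.aa S.hyp hy, hy.tcomm t hy.tT _ hy.aT⟩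
        · exact ⟨AbCentMax.bb S.hyp hy, hy.tcomm t hy.tT _ hy.bT⟩
        · exact ⟨GenDihedral.mul_self_of_two (AbCentMax.ab_order S.hyp hy),
            hy.tcomm t hy.tT _ (mul_mem hy.aT hy.bT)⟩
      rcases hyv with rfl | rfl
      · exact hvv.1
      · rw [hvv.2.symm.mul_mul_mul_comm, S.tt, hvv.1, one_mul]
    exact orderOf_eq_prime (by rw [pow_two, hyy]) hy1
  obtain ⟨k, hk⟩ := isConj_iff.1 (S.conj_all hyo)
  haveI : IsMulCommutative (T : Subgroup G) := S.ab T
  obtain ⟨m, hm, hme⟩ := T.conj_eq_normalizer_conj_of_mem t k⁻¹ hy.tT (by rw [inv_inv, hk]; exact hyT)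
  refine ⟨m⁻¹, inv_mem hm, ?_⟩
  rw [inv_inv, ← hme, inv_inv, hk]

/-- `N(T)` centralizes the field automorphisms. -/
theorem Setting.normalizer_comm {g x : G} (hg : g ∈ normalizer ((T : Subgroup G) : Set G)) (hx : x ∈ S.Phi hy) :
    Commute g x := by
  classical
  set N := normalizer ((T : Subgroup G) : Set G)
  set P := S.Phi hy
  have hnP : ∀ h ∈ N, ∀ p ∈ P, h * p * h⁻¹ ∈ P := by
    intro h hh p hp
    obtain ⟨hpE, hpa, hpb, hpo⟩ := (S.mem_Phi hy).1 hp
    refine S.mem_Phi_of_cent hy (by rw [← MulAut.conj_apply, MulEquiv.orderOf_eq]; exact hpo) fun z hz => ?_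
    have hz' : h⁻¹ * z * h ∈ (T : Subgroup G) := by
      have := (mem_normalizer_iff.1 (inv_mem hh) z).1 hz
      simpa using this
    have hc : Commute p (h⁻¹ * z * h) := by
      obtain ⟨v, hv, e | e⟩ := hy.cases _ hz' <;> rw [e]
      · rcases hv with rfl | rfl | rfl | rfl
        exacts [Commute.one_right p, hpa, hpb, hpa.mul_right hpb]
      · refine Commute.mul_right (S.hyp.comm p hpE).symm ?_
        rcases hv with rfl | rfl | rfl | rfl
        exacts [Commute.one_right p, hpa, hpb, hpa.mul_right hpb]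
    have := (Commute.conj_iff h).2 hc
    simpa [mul_assoc] using this
  -- `N(T) ∩ C(t)` centralizes `P`
  have hNt : ∀ h ∈ N, Commute h t → ∀ p ∈ P, Commute h p := by
    intro h hh hht p hp
    have hE : ∀ e ∈ E, e ∈ N → Commute e p := by
      intro e he hen
      obtain ⟨g₀, hg₀, q, hq, hgq⟩ := S.exists_mul hy he
      have hqn : q ∈ N := by
        refine Cfsg.Lib.ZStarApps.mem_normalizer_of_maps fun z hz => ?_
        obtain ⟨hqE, hqa, hqb, -⟩ := (S.mem_Phi hy).1 hq
        have hc : Commute q z := by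
          obtain ⟨v, hv, e' | e'⟩ := hy.cases _ hz <;> rw [e']
          · rcases hv with rfl | rfl | rfl | rfl
            exacts [Commute.one_right q, hqa, hqb, hqa.mul_right hqb]
          · refine Commute.mul_right (S.hyp.comm q hqE).symm ?_
            rcases hv with rfl | rfl | rfl | rfl
            exacts [Commute.one_right q, hqa, hqb, hqa.mul_right hqb]
        rwa [hc.eq, mul_inv_cancel_right]
      have hg₀N : g₀ ∈ N := by
        have : g₀ = e * q⁻¹ := by rw [hgq, mul_inv_cancel_right]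
        rw [this]; exact mul_mem hen (inv_mem hqn)
      have hga : g₀ * a * g₀⁻¹ ∈ (T : Subgroup G) := (mem_normalizer_iff.1 hg₀N a).1 hy.aT
      have hgb : g₀ * b * g₀⁻¹ ∈ (T : Subgroup G) := (mem_normalizer_iff.1 hg₀N b).1 hy.bT
      have hgaE : g₀ * a * g₀⁻¹ ∈ E :=
        mul_mem (mul_mem (S.hyp.le hg₀) (S.hyp.le hy.aE)) (inv_mem (S.hyp.le hg₀))
      -- a power of `n` brings `a` back
      obtain ⟨i, hi⟩ : ∃ i : ℕ, n ^ i * a * (n ^ i)⁻¹ = g₀ * a * g₀⁻¹ := by
        rcases S.cases_E hy hga hgaE with e' | e' | e' | e'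
        · exfalso; rw [conj_eq_one_iff] at e'; have := hy.ao; rw [e', orderOf_one] at this; omega
        · exact ⟨0, by rw [e']; simp⟩
        · exact ⟨1, by rw [e', pow_one, hy.na]⟩
        · refine ⟨2, ?_⟩
          rw [e', pow_two, show n * n * a * (n * n)⁻¹ = n * (n * a * n⁻¹) * n⁻¹ by group, hy.na, hy.nb]
      set g₁ := (n ^ i)⁻¹ * g₀ with hg₁
      have hg₁0 : g₁ ∈ E₀ := mul_mem (inv_mem (pow_mem hy.nE i)) hg₀
      have hg₁N : g₁ ∈ N := mul_mem (inv_mem (pow_mem (AbCentMax.n_mem_normalizer S.hyp hy) i)) hg₀N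
      have hg₁a : Commute g₁ a := by
        refine mul_inv_eq_iff_eq_mul.1 ?_
        rw [hg₁, show (n ^ i)⁻¹ * g₀ * a * ((n ^ i)⁻¹ * g₀)⁻¹ = (n ^ i)⁻¹ * (g₀ * a * g₀⁻¹) * n ^ i by group, ← hi]
        group
      -- its odd part centralizes `b`, its two part lies in `T`
      obtain ⟨u, s, hu, hs, hus, hes, hug, hsg⟩ := exists_split g₁
      have hz : ∀ z ∈ zpowers g₁, z ∈ E₀ ∧ z ∈ N ∧ Commute z a := by
        rintro _ ⟨j, rfl⟩
        exact ⟨zpow_mem hg₁0 j, zpow_mem hg₁N j, hg₁a.zpow_left j⟩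
      obtain ⟨huE, huN, hua⟩ := hz u hug
      obtain ⟨hsE, hsN, hsa⟩ := hz s hsg
      have huT : u ∈ T := S.two_mem hy hu (S.hyp.le huE) fun z hz' _ => (mem_normalizer_iff.1 huN z).1 hz'
      have hsb : Commute s b := by
        rcases S.cases_E hy ((mem_normalizer_iff.1 hsN b).1 hy.bT)
          (mul_mem (mul_mem (S.hyp.le hsE) (S.hyp.le hy.bE)) (inv_mem (S.hyp.le hsE))) with e' | e' | e' | e'
        · exfalso; rw [conj_eq_one_iff] at e'; have := hy.bo; rw [e', orderOf_one] at this; omega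
        · exfalso; exact hy.ne (mul_left_cancel (mul_right_cancel (show s * a * s⁻¹ = s * b * s⁻¹ by
            rw [hsa.eq, mul_inv_cancel_right, e'])))
        · exact mul_inv_eq_iff_eq_mul.1 e'
        · exfalso
          have h2 : Commute (s * s) b := mul_inv_eq_iff_eq_mul.1 (by
            rw [show s * s * b * (s * s)⁻¹ = s * (s * b * s⁻¹) * s⁻¹ by group, e', ← conj_mul, hsa.eq,
              mul_inv_cancel_right, e', ← mul_assoc, AbCentMax.aa S.hyp hy, one_mul])
          obtain ⟨j, hj⟩ := AbCentMax.eq_sq_pow hs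
          have h3 : Commute s b := hj ▸ h2.pow_left j
          rw [h3.eq, mul_inv_cancel_right] at e'
          have := hy.ao
          rw [show a = 1 from right_eq_mul.1 e', orderOf_one] at this
          omega
      have hs1 : s = 1 := S.hyp.eq_one_of_comm hy.aE hy.ao hy.bE hy.bo hy.ne (hy.tcomm a hy.aT b hy.bT) hsE hs hsa hsb
      have hup : Commute u p := by
        obtain ⟨-, hpa, hpb, -⟩ := (S.mem_Phi hy).1 hp
        rcases S.cases_E hy huT (S.hyp.le huE) with rfl | rfl | rfl | rfl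
        exacts [Commute.one_left p, hpa.symm, hpb.symm, hpa.symm.mul_left hpb.symm]
      have hg0 : g₀ = n ^ i * u := by
        rw [← mul_inv_cancel_left (n ^ i) g₀, ← hg₁, ← hes, hs1, mul_one]
      rw [hgq, hg0]
      exact ((((S.n_comm hy hp).pow_left i).mul_left hup).mul_left (S.Phi_comm hy q hq p hp))
    obtain ⟨e, he, rfl | rfl⟩ := S.hyp.split h hht
    · exact hE _ he hh
    · refine Commute.mul_left (S.hyp.comm p (S.Phi_le hy hp)) (hE e he ?_)
      have : e = t * (t * e) := by rw [← mul_assoc, S.tt, one_mul]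
      rw [this]; exact mul_mem (le_normalizer hy.tT) hh
  -- the action on the abelian group `P`
  by_contra hne
  haveI := S.Phi_cyclic hy
  let α : N →* MulAut P :=
    { toFun := fun h =>
        { toFun := fun p => ⟨(h : G) * p * (h : G)⁻¹, hnP h h.2 p p.2⟩
          invFun := fun p => ⟨(h : G)⁻¹ * p * (h : G)⁻¹⁻¹, hnP _ (inv_mem h.2) p p.2⟩
          left_inv := fun p => Subtype.ext (by show (h : G)⁻¹ * ((h : G) * p * (h : G)⁻¹) * (h : G)⁻¹⁻¹ = _; group)
          right_inv := fun p => Subtype.ext (by show (h : G) * ((h : G)⁻¹ * p * (h : G)⁻¹⁻¹) * (h : G)⁻¹ = _; group)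
          map_mul' := fun p q => Subtype.ext (by
            show (h : G) * ((p : G) * q) * (h : G)⁻¹ = (h : G) * p * (h : G)⁻¹ * ((h : G) * q * (h : G)⁻¹); group) }
      map_one' := MulEquiv.ext fun p => Subtype.ext (by show (1 : G) * p * (1 : G)⁻¹ = (p : G); group)
      map_mul' := fun h k => MulEquiv.ext fun p => Subtype.ext (by
        show ((h : G) * k) * p * ((h : G) * k)⁻¹ = (h : G) * ((k : G) * p * (k : G)⁻¹) * (h : G)⁻¹; group) }
  have hker : ∀ h : N, h ∈ α.ker ↔ ∀ p ∈ P, Commute (h : G) p := by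
    intro h
    constructor
    · intro hh p hp
      exact mul_inv_eq_iff_eq_mul.1 (congrArg Subtype.val (DFunLike.congr_fun (MonoidHom.mem_ker.1 hh) (⟨p, hp⟩ : P)))
    · intro hh
      refine MonoidHom.mem_ker.2 (MulEquiv.ext fun p => Subtype.ext ?_)
      show (h : G) * p * (h : G)⁻¹ = p
      rw [(hh p p.2).eq, mul_inv_cancel_right]
  set K := α.ker
  have hgK : (⟨g, hg⟩ : N) ∉ K := fun h => hne ((hker _).1 h x hx)
  -- the kernel is normal with commutative quotient and contains the stabilizer of `t`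
  set St : Subgroup N := (centralizer ({t} : Set G)).subgroupOf N
  have hStK : St ≤ K := fun h hh => (hker h).2 fun p hp =>
    hNt h h.2 (mem_centralizer_singleton_iff.1 (mem_subgroupOf.1 hh)) p hp
  have hcomm : ∀ p q : N, p * q * p⁻¹ * q⁻¹ ∈ K := fun p q => MonoidHom.mem_ker.2 (by
    haveI : IsMulCommutative (MulAut P) := ⟨⟨fun u v => by
      obtain ⟨w, hw⟩ := IsCyclic.exists_generator (α := P)
      refine MulEquiv.ext fun z => ?_
      obtain ⟨i, rfl⟩ := Subgroup.mem_zpowers_iff.1 (hw z)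
      obtain ⟨j, hj⟩ := Subgroup.mem_zpowers_iff.1 (hw (u w))
      obtain ⟨l, hl⟩ := Subgroup.mem_zpowers_iff.1 (hw (v w))
      show u (v (w ^ i)) = v (u (w ^ i))
      rw [map_zpow, map_zpow, map_zpow, map_zpow, ← hj, ← hl, map_zpow, map_zpow, ← hj, ← hl]
      simp only [← zpow_mul]
      congr 1; ring⟩⟩
    simp only [map_mul, map_inv]
    rw [mul_comm' (α p) (α q), mul_inv_cancel_right, mul_inv_cancel])
  -- index seven
  have hT8 : Nat.card (T : Subgroup G) = 8 := (AbCentMax.three_dvd S.hyp hy).2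
  have hindex : St.index ∣ 7 := by
    have : St.index = Nat.card {y : G // y ∈ T ∧ y ≠ 1} := by
      rw [Subgroup.index_eq_card]
      refine Nat.card_congr (Equiv.ofBijective (Quotient.lift (fun h : N =>
        (⟨(h : G) * t * (h : G)⁻¹, (mem_normalizer_iff.1 h.2 t).1 hy.tT, fun e => S.hyp.t_ne (conj_eq_one_iff.1 e)⟩ :
          {y : G // y ∈ T ∧ y ≠ 1})) ?_) ⟨?_, ?_⟩)
      · intro h k hhk
        have hc := mem_centralizer_singleton_iff.1 (mem_subgroupOf.1 (QuotientGroup.leftRel_apply.1 hhk))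
        push_cast at hc
        refine Subtype.ext ?_
        show (h : G) * t * (h : G)⁻¹ = (k : G) * t * (k : G)⁻¹
        calc (h : G) * t * (h : G)⁻¹ = (h : G) * (t * ((h : G)⁻¹ * k)) * (k : G)⁻¹ := by group
          _ = (k : G) * t * (k : G)⁻¹ := by rw [← hc]; group
      · intro u v
        induction u using Quotient.inductionOn with | h h => ?_
        induction v using Quotient.inductionOn with | h k => ?_
        intro e
        have e' : (h : G) * t * (h : G)⁻¹ = (k : G) * t * (k : G)⁻¹ := congrArg Subtype.val e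
        refine Quotient.sound (QuotientGroup.leftRel_apply.2 (mem_subgroupOf.2 (mem_centralizer_singleton_iff.2 ?_)))
        push_cast
        calc (h : G)⁻¹ * k * t = (h : G)⁻¹ * ((k : G) * t * (k : G)⁻¹) * k := by group
          _ = t * ((h : G)⁻¹ * k) := by rw [← e']; group
      · rintro ⟨y, hyT, hy1⟩
        obtain ⟨k, hk, hkt⟩ := S.trans hy hyT hy1
        exact ⟨Quotient.mk'' ⟨k, hk⟩, Subtype.ext hkt⟩
    rw [this]
    haveI := Fintype.ofFinite (T : Subgroup G)
    have e : Nat.card {y : G // y ∈ T ∧ y ≠ 1} = Nat.card {y : (T : Subgroup G) // y ≠ 1} :=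
      Nat.card_congr
        { toFun := fun y => ⟨⟨y.1, y.2.1⟩, fun h => y.2.2 (congrArg Subtype.val h)⟩
          invFun := fun y => ⟨y.1.1, y.1.2, fun h => y.2 (Subtype.ext h)⟩
          left_inv := fun y => rfl
          right_inv := fun y => rfl }
    rw [e, Nat.card_eq_fintype_card, Fintype.card_subtype_compl, Fintype.card_subtype_eq, ← Nat.card_eq_fintype_card, hT8]
  have hKeq : St = K := by
    refine le_antisymm hStK ?_
    rcases (Nat.dvd_prime (by norm_num)).1 hindex with h1 | h7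
    · rw [Subgroup.index_eq_one.1 h1]; exact le_top
    · rcases (Nat.dvd_prime (by norm_num)).1 (h7 ▸ index_dvd_of_le hStK : K.index ∣ 7) with k1 | k7
      · exact absurd (Subgroup.index_eq_one.1 k1 ▸ mem_top _) hgK
      · refine le_of_eq (Subgroup.eq_of_le_of_card_ge hStK ?_).symm
        have e1 := St.card_mul_index
        have e2 := K.card_mul_index
        rw [h7] at e1
        rw [k7] at e2
        omega
  -- then `St` fixes all of `T`
  have hnN : n ∈ N := AbCentMax.n_mem_normalizer S.hyp hy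
  have hnSt : (⟨n, hnN⟩ : N) ∈ St :=
    mem_subgroupOf.2 (mem_centralizer_singleton_iff.2 (S.hyp.comm n (S.hyp.le hy.nE)).symm.eq)
  have hfix : n * a * n⁻¹ = a := by
    obtain ⟨k, hk, hka⟩ := S.trans hy hy.aT (fun e => by have := hy.ao; rw [e, orderOf_one] at this; omega)
    haveI : K.Normal := α.normal_ker
    have h1 : (⟨k, hk⟩ : N)⁻¹ * ⟨n, hnN⟩ * ⟨k, hk⟩ ∈ St := by
      rw [hKeq]
      have := Subgroup.Normal.conj_mem (inferInstance : K.Normal) _ (hKeq ▸ hnSt) (⟨k, hk⟩ : N)⁻¹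
      simpa using this
    have h2 := mem_centralizer_singleton_iff.1 (mem_subgroupOf.1 h1)
    push_cast at h2
    rw [← hka]
    calc n * (k * t * k⁻¹) * n⁻¹ = k * ((k⁻¹ * n * k) * t) * (k⁻¹ * n⁻¹) := by group
      _ = k * (t * (k⁻¹ * n * k)) * (k⁻¹ * n⁻¹) := by rw [h2]
      _ = k * t * k⁻¹ := by group
  exact hy.ne (hfix.symm.trans hy.na)

/-- An element of the normalizer of a cyclic subgroup of `Phi` centralizes it. -/
theorem Setting.norm_zpowers {x : G} (hx : x ∈ S.Phi hy) {g : G} (hg : g * x * g⁻¹ ∈ zpowers x) :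
    g * x * g⁻¹ = x := by
  haveI : Fact (Nat.Prime 2) := ⟨Nat.prime_two⟩
  obtain ⟨hxE, hxa, hxb, hxo⟩ := (S.mem_Phi hy).1 hx
  set C := centralizer ({x} : Set G) with hC
  have hTC : ∀ z ∈ T, z ∈ C := by
    intro z hz
    refine mem_centralizer_singleton_iff.2 ?_
    obtain ⟨v, hv, e | e⟩ := hy.cases z hz <;> rw [e]
    · rcases hv with rfl | rfl | rfl | rfl
      exacts [by simp, hxa.symm.eq, hxb.symm.eq, (hxa.symm.mul_left hxb.symm).eq]
    · refine ((S.hyp.comm x hxE).mul_left ?_).eq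
      rcases hv with rfl | rfl | rfl | rfl
      exacts [Commute.one_left _, hxa.symm, hxb.symm, hxa.symm.mul_left hxb.symm]
  have hgT : ∀ z ∈ (g • T : Sylow 2 G), z ∈ C := by
    intro z hz
    obtain ⟨w, hw, rfl⟩ := hz
    refine mem_centralizer_singleton_iff.2 ?_
    show g * w * g⁻¹ * x = x * (g * w * g⁻¹)
    have hwx : Commute w x := mem_centralizer_singleton_iff.1 (hTC w hw)
    obtain ⟨i, hi⟩ := hg
    have hgx : Commute (g * w * g⁻¹) (g * x * g⁻¹) := (Commute.conj_iff g).2 hwx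
    have hmem : x ∈ zpowers (g * x * g⁻¹) := by
      have hle : zpowers (g * x * g⁻¹) ≤ zpowers x := zpowers_le.2 ⟨i, hi⟩
      rw [Subgroup.eq_of_le_of_card_ge hle (by rw [Nat.card_zpowers, Nat.card_zpowers, ← MulAut.conj_apply, MulEquiv.orderOf_eq])]
      exact mem_zpowers x
    obtain ⟨j, hj⟩ := hmem
    rw [← hj]
    exact (hgx.zpow_right j).eq
  let T₀ : Sylow 2 C := T.subtype hTC
  let T₁ : Sylow 2 C := (g • T : Sylow 2 G).subtype hgT
  obtain ⟨k, hk⟩ := MulAction.exists_smul_eq C T₁ T₀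
  have hnorm : (k : G) * g ∈ normalizer ((T : Subgroup G) : Set G) := by
    refine Cfsg.Lib.ZStarApps.mem_normalizer_of_maps fun z hz => ?_
    have hz1 : (⟨g * z * g⁻¹, hgT _ ⟨z, hz, rfl⟩⟩ : C) ∈ (T₁ : Subgroup C) := ⟨z, hz, rfl⟩
    have hz2 : k * ⟨g * z * g⁻¹, hgT _ ⟨z, hz, rfl⟩⟩ * k⁻¹ ∈ (T₀ : Subgroup C) := by
      rw [← hk]; exact ⟨_, hz1, rfl⟩
    have hz3 : (k : G) * (g * z * g⁻¹) * (k : G)⁻¹ ∈ (T : Subgroup G) := hz2
    simpa [mul_assoc] using hz3
  have hc := (S.normalizer_comm hy hnorm hx).eq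
  have hkx : Commute (k : G) x := mem_centralizer_singleton_iff.1 k.2
  calc g * x * g⁻¹ = (k : G)⁻¹ * ((k : G) * g * x) * ((k : G) * g)⁻¹ * k := by group
    _ = (k : G)⁻¹ * (x * ((k : G) * g)) * ((k : G) * g)⁻¹ * k := by rw [hc]
    _ = (k : G)⁻¹ * x * k := by group
    _ = x := by rw [mul_assoc, ← hkx.eq, inv_mul_cancel_left]

end Cfsg.Lib.Ree.Twist
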