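import Cfsg.Agent.Ree.Transfer.Plane
import Cfsg.Agent.Transfer.Frobenius

/-!
The Sylow `r`-subgroups containing `R = ⟨φ, y⟩` are conjugate under the centralizer of `R`.
-/

set_option autoImplicit false
set_option linter.unusedSectionVars false

namespace Cfsg.Lib.Ree.Transfer

open Subgroup
open scoped Pointwise

universe u

variable {G : Type u} [Group G] [Finite G] {r : ℕ} [hr : Fact r.Prime] {φ y : G}

theorem eq_of_pow_eq {a b : G} (ha : a ^ r = 1) (hb : b ^ r = 1) {k : ℕ} (hk : k.Coprime r)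
    (h : a ^ k = b ^ k) : a = b := by
  obtain ⟨l, hl⟩ : ∃ l : ℕ, k * l % r = 1 := ⟨_, (Nat.exists_mul_mod_eq_one_of_coprime hk hr.out.one_lt).choose_spec.2⟩
  have e : ∀ c : G, c ^ r = 1 → (c ^ k) ^ l = c := fun c hc => by
    rw [← pow_mul, pow_eq_pow_mod _ hc, hl, pow_one]
  rw [← e a ha, h, e b hb]

variable {X : Subgroup G}

/-- A conjugate of `φ` in `X` with the coordinates of a multiple of `φ` has those of `φ`. -/
theorem Pair.first_entry (h : Pair r φ y) (hX : IsPGroup r X) (hR : rSub φ y ≤ X) (c : Chart r φ X)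
    (g : normalizer (X : Set G)) (h10 : c.rho g 1 0 = 0) : c.rho g 0 0 = 1 := by
  have hdet : (c.rho g).det ≠ 0 := fun e => by
    have := congrArg Matrix.det (c.rho.map_mul g g⁻¹)
    rw [mul_inv_cancel, map_one, Matrix.det_one, Matrix.det_mul, e, zero_mul] at this
    exact one_ne_zero this
  set a := c.rho g 0 0 with ha
  have ha0 : a ≠ 0 := fun e => hdet (by rw [Matrix.det_fin_two, ← ha, e, h10]; simp)
  set k := a.val with hk
  have hkr : k.Coprime r := (ZMod.isUnit_iff_coprime k r).1 (by rw [hk, ZMod.natCast_zmod_val]; exact ha0.isUnit)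
  set f : X := ⟨φ, c.mem⟩ with hf
  set z : X := Chart.conjX g f with hz
  have hfo : φ ^ r = 1 := by rw [← h.φo, pow_orderOf_eq_one]
  have hzr : (z : G) ^ r = 1 := by
    show ((g : G) * φ * (g : G)⁻¹) ^ r = 1
    rw [conj_pow, hfo]; group
  obtain ⟨l, hl⟩ : ∃ l : ℕ, k * l % r = 1 := ⟨_, (Nat.exists_mul_mod_eq_one_of_coprime hkr hr.out.one_lt).choose_spec.2⟩
  have hpow : ∀ (w : X) (n : ℕ), c.vec (w ^ n) = n • c.vec w := fun w n => by simp [Chart.vec]
  have hzv : c.vec (z ^ l) = c.vec f := by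
    have hzc : c.vec z = a • Pi.single 0 1 := by
      funext i
      rw [hz, c.rho_col]
      fin_cases i
      · simp [← ha]
      · simpa using h10
    rw [hpow, hzc, c.vec_φ]
    funext i
    fin_cases i
    · have : ((k * l % r : ℕ) : ZMod r) = 1 := by rw [hl, Nat.cast_one]
      rw [ZMod.natCast_mod, Nat.cast_mul, hk, ZMod.natCast_zmod_val] at this
      simpa [mul_comm] using this
    · simp
  obtain ⟨x, hx⟩ := (h.class_coset hX hR).2.2 (z ^ l) (c.vec_eq.1 hzv)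
  have hx' : (x : G) * φ * (x : G)⁻¹ = (z : G) ^ l := by
    have := congrArg Subtype.val hx
    simpa using this
  have hzk : (z : G) = (x : G) * φ ^ k * (x : G)⁻¹ := by
    rw [← conj_pow, hx', ← pow_mul, mul_comm, pow_eq_pow_mod _ hzr, hl, pow_one]
  have hconj : ((x : G)⁻¹ * g) * φ * ((x : G)⁻¹ * g)⁻¹ = φ ^ k := by
    rw [show ((x : G)⁻¹ * g) * φ * ((x : G)⁻¹ * g)⁻¹ = (x : G)⁻¹ * ((g : G) * φ * (g : G)⁻¹) * x by group,
      show (g : G) * φ * (g : G)⁻¹ = (z : G) from rfl, hzk]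
    group
  have hfix := h.norm _ (hconj ▸ pow_mem (mem_zpowers φ) k)
  rw [hconj] at hfix
  have hk1 : (k : ZMod r) = ((1 : ℕ) : ZMod r) := by
    rw [ZMod.natCast_eq_natCast_iff]
    have := (pow_inj_mod (x := φ) (n := k) (m := 1)).1 (by rw [hfix, pow_one])
    rwa [h.φo] at this
  rwa [hk, ZMod.natCast_zmod_val, Nat.cast_one] at hk1

theorem Pair.rho_ne_neg (h : Pair r φ y) (hX : IsPGroup r X) (hR : rSub φ y ≤ X) (c : Chart r φ X)
    (g : normalizer (X : Set G)) : c.rho g ≠ -1 := fun e => by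
  have h1 := h.first_entry hX hR c g (by rw [e]; simp)
  rw [e] at h1
  simp at h1
  have : (2 : ZMod r) = 0 := by linear_combination -h1
  exact h.odd ((Nat.prime_dvd_prime_iff_eq hr.out Nat.prime_two).1
    ((ZMod.natCast_eq_zero_iff 2 r).1 (by exact_mod_cast this)))

/-- The elements of the normalizer acting unipotently. -/
def Pair.unipGroup (h : Pair r φ y) (hX : IsPGroup r X) (hR : rSub φ y ≤ X) (c : Chart r φ X) :
    Subgroup (normalizer (X : Set G)) where
  carrier := {g | Unip (c.rho g)}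
  one_mem' := by show Unip (c.rho 1); rw [map_one]; simp [Unip]
  mul_mem' {a b} ha hb := by
    show Unip (c.rho (a * b))
    rw [map_mul]
    refine (unip_mul_or ha hb).resolve_right ?_
    rintro ⟨i, hi⟩
    refine h.rho_ne_neg hX hR c ((a ^ i * b * a ^ i) * (a ^ i * b * a ^ i)) ?_
    rw [← hi]
    simp only [map_mul, map_pow]
  inv_mem' {a} ha := by
    show Unip (c.rho a⁻¹)
    obtain ⟨h1, h2⟩ := (unip_iff _).1 ha
    have h1' : c.rho a⁻¹ = (c.rho a).adjugate := by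
      have e : c.rho a⁻¹ * c.rho a = 1 := by rw [← map_mul, inv_mul_cancel, map_one]
      have e' : c.rho a * (c.rho a).adjugate = 1 := by rw [Matrix.mul_adjugate, h1, one_smul]
      exact left_inv_eq_right_inv e e'
    refine (unip_iff _).2 ⟨?_, ?_⟩
    · rw [h1', Matrix.det_adjugate, h1, one_pow]
    · rw [h1', Matrix.adjugate_fin_two, Matrix.trace_fin_two_of, ← h2, Matrix.trace_fin_two, add_comm]

/-- Elements acting unipotently have `r`-power order modulo the centralizer. -/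
theorem Pair.pow_centralizes (h : Pair r φ y) (hX : IsPGroup r X) (hR : rSub φ y ≤ X) (c : Chart r φ X)
    {g : normalizer (X : Set G)} (hg : Unip (c.rho g)) :
    ∃ m : ℕ, ((g : G) ^ r ^ m) ∈ centralizer (X : Set G) := by
  obtain ⟨n, hn⟩ := hX.exists_card_eq
  set A : Subgroup (MulAut X) := c.rho.ker.map (Subgroup.normalizerMonoidHom X) with hA
  have hAd : Nat.card A ∣ r ^ (2 * (n - 2)) := by
    refine Cfsg.Lib.PGroups.card_stabilizing_dvd hn (h.class_coset hX hR).1 A ?_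
    rintro _ ⟨g', hg', rfl⟩ x
    have e : c.vec (Chart.conjX g' x) = c.vec x := by
      rw [← c.rho_vec, MonoidHom.mem_ker.1 hg', Matrix.one_mulVec]
    have h1 := QuotientGroup.eq.1 (c.vec_eq.1 e.symm)
    have h2 := Subgroup.Normal.conj_mem inferInstance _ h1 x
    convert h2 using 1
    rw [mul_inv_cancel_left]
    rfl
  obtain ⟨j, -, hj⟩ := (Nat.dvd_prime_pow hr.out).1 hAd
  refine ⟨j + 1, ?_⟩
  have hgr : g ^ r ∈ c.rho.ker := by rw [MonoidHom.mem_ker, map_pow, hg.pow_eq_one]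
  have h1 : (⟨_, mem_map_of_mem (Subgroup.normalizerMonoidHom X) hgr⟩ : A) ^ Nat.card A = 1 := pow_card_eq_one'
  have h2 : Subgroup.normalizerMonoidHom X ((g ^ r) ^ r ^ j) = 1 := by
    rw [map_pow, ← hj]
    exact congrArg Subtype.val h1
  rw [← pow_mul, ← pow_succ'] at h2
  set w := g ^ r ^ (j + 1) with hw
  refine mem_centralizer_iff.2 fun x hx => ?_
  have h3 := congrArg Subtype.val (DFunLike.congr_fun h2 ⟨x, hx⟩)
  have h4 : ((g : G) ^ r ^ (j + 1)) * x * ((g : G) ^ r ^ (j + 1))⁻¹ = x := by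
    rw [← SubmonoidClass.coe_pow, ← hw]
    exact h3
  exact (mul_inv_eq_iff_eq_mul.1 h4).symm

/-- Two `r`-subgroups of the normalizer generate an `r`-group after conjugation by the centralizer. -/
theorem Pair.conj_into (h : Pair r φ y) (hX : IsPGroup r X) (hR : rSub φ y ≤ X) (U₁ U₂ : Subgroup G)
    (h1 : IsPGroup r U₁) (h2 : IsPGroup r U₂) (n1 : U₁ ≤ normalizer (X : Set G)) (n2 : U₂ ≤ normalizer (X : Set G)) :
    ∃ z ∈ centralizer (X : Set G), ∃ S : Subgroup G, IsPGroup r S ∧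
      U₁.map (MulAut.conj z).toMonoidHom ≤ S ∧ U₂ ≤ S := by
  classical
  obtain ⟨c⟩ := h.exists_chart hX hR
  set N := normalizer (X : Set G)
  set L := h.unipGroup hX hR c
  have hmem : ∀ (U : Subgroup G), IsPGroup r U → U ≤ N → U.subgroupOf N ≤ L := by
    intro U hU _ g hg
    obtain ⟨k, hk⟩ := hU ⟨(g : G), hg⟩
    have hk' : g ^ r ^ k = 1 := Subtype.ext (by simpa using congrArg Subtype.val hk)
    exact unip_of_pow (by rw [← map_pow, hk', map_one])
  set C : Subgroup L := ((centralizer (X : Set G)).subgroupOf N).subgroupOf L with hC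
  haveI : ((centralizer (X : Set G)).subgroupOf N).Normal := by
    rw [← Subgroup.normalizerMonoidHom_ker]; infer_instance
  haveI : C.Normal := Subgroup.Normal.subgroupOf inferInstance L
  have hCq : IsPGroup r (L ⧸ C) := fun q => by
    obtain ⟨g, rfl⟩ := QuotientGroup.mk_surjective q
    obtain ⟨m, hm⟩ := h.pow_centralizes hX hR c g.2
    refine ⟨m, ?_⟩
    rw [← QuotientGroup.mk_pow, QuotientGroup.eq_one_iff]
    show ((g ^ r ^ m : L) : N).1 ∈ centralizer (X : Set G)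
    simpa using hm
  have hp : ∀ (U : Subgroup G), IsPGroup r U → U ≤ N → IsPGroup r ((U.subgroupOf N).subgroupOf L) := fun U hU _ =>
    (hU.comap_of_injective N.subtype N.subtype_injective).comap_of_injective L.subtype L.subtype_injective
  obtain ⟨S₁, hS₁⟩ := (hp U₁ h1 n1).exists_le_sylow
  obtain ⟨S₂, hS₂⟩ := (hp U₂ h2 n2).exists_le_sylow
  obtain ⟨k, hk⟩ := MulAction.exists_smul_eq L S₁ S₂
  have htop : C ⊔ (S₁ : Subgroup L) = ⊤ := by
    rw [← Subgroup.index_eq_one]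
    obtain ⟨i, hi⟩ := hCq.index ((C ⊔ (S₁ : Subgroup L)).map (QuotientGroup.mk' C))
    rw [Subgroup.index_map_eq _ (QuotientGroup.mk'_surjective C) (by rw [QuotientGroup.ker_mk']; exact le_sup_left)] at hi
    rw [hi]
    rcases Nat.eq_zero_or_pos i with rfl | hpos
    · rfl
    · exfalso
      refine S₁.not_dvd_index ((dvd_pow_self r hpos.ne').trans ?_)
      rw [← hi]
      exact index_dvd_of_le le_sup_right
  obtain ⟨z, hz, p, hp', hzp⟩ := Subgroup.mem_sup_of_normal_left.1 (htop.symm ▸ mem_top k : k ∈ C ⊔ (S₁ : Subgroup L))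
  refine ⟨((z : N) : G), hz, ((S₂ : Subgroup L).map L.subtype).map N.subtype, (S₂.2.map _).map _, ?_, ?_⟩
  · rintro _ ⟨u, hu, rfl⟩
    have huN : u ∈ N := n1 hu
    have huL : (⟨u, huN⟩ : N) ∈ L := hmem U₁ h1 n1 hu
    have hu1 : (⟨⟨u, huN⟩, huL⟩ : L) ∈ (S₁ : Subgroup L) := hS₁ hu
    have hz2 : z * ⟨⟨u, huN⟩, huL⟩ * z⁻¹ ∈ (S₂ : Subgroup L) := by
      have e : z * ⟨⟨u, huN⟩, huL⟩ * z⁻¹ = k * (p⁻¹ * ⟨⟨u, huN⟩, huL⟩ * p) * k⁻¹ := by rw [← hzp]; group
      rw [← hk, e]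
      exact Cfsg.Lib.Transfer.mem_conj_sylow_iff.2 (mul_mem (mul_mem (inv_mem hp') hu1) hp')
    exact ⟨_, ⟨_, hz2, rfl⟩, rfl⟩
  · intro u hu
    exact ⟨⟨u, n2 hu⟩, ⟨⟨⟨u, n2 hu⟩, hmem U₂ h2 n2 hu⟩, hS₂ hu, rfl⟩, rfl⟩

/-- The Sylow subgroups containing `R` are conjugate under its centralizer. -/
theorem Pair.sylow_conj (h : Pair r φ y) (P P' : Sylow r G) (hP : rSub φ y ≤ (P : Subgroup G))
    (hP' : rSub φ y ≤ (P' : Subgroup G)) :
    ∃ z ∈ centralizer (rSub φ y : Set G), z • P = P' := by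
  suffices H : ∀ D : Subgroup G, ∀ P P' : Sylow r G, D = (P : Subgroup G) ⊓ P' →
      rSub φ y ≤ (P : Subgroup G) → rSub φ y ≤ (P' : Subgroup G) →
      ∃ z ∈ centralizer (rSub φ y : Set G), z • P = P' from H _ P P' rfl hP hP'
  intro D
  induction D using IsWellFounded.induction (· > · : Subgroup G → Subgroup G → Prop) with
  | ind D ih =>
  intro P P' hD hP hP'
  by_cases hPP : P = P'
  · exact ⟨1, one_mem _, by rw [hPP, one_smul]⟩
  have hlt : D < (P : Subgroup G) := by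
    refine lt_of_le_of_ne (hD ▸ inf_le_left) fun e => hPP (Sylow.ext ?_)
    exact (P.is_maximal' P'.2 (inf_eq_left.1 (hD.symm.trans e))).symm
  have hlt' : D < (P' : Subgroup G) := by
    refine lt_of_le_of_ne (hD ▸ inf_le_right) fun e => hPP (Sylow.ext ?_)
    exact P'.is_maximal' P.2 (inf_eq_right.1 (hD.symm.trans e))
  have hRD : rSub φ y ≤ D := hD ▸ le_inf hP hP'
  have hDp : IsPGroup r D := P.2.to_le hlt.le
  have e1 := Cfsg.Lib.Transfer.lt_inf_normalizer_of_lt P hlt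
  have e2 := Cfsg.Lib.Transfer.lt_inf_normalizer_of_lt P' hlt'
  obtain ⟨z, hz, S, hS, hzS, hS2⟩ := h.conj_into hDp hRD _ _ (P.2.to_le inf_le_left) (P'.2.to_le inf_le_left)
    inf_le_right inf_le_right
  obtain ⟨P'', hSP⟩ := hS.exists_le_sylow
  have hzR : z ∈ centralizer (rSub φ y : Set G) := Subgroup.centralizer_le hRD hz
  have hzfix : ∀ x ∈ D, z * x * z⁻¹ = x := fun x hx => by
    rw [← mem_centralizer_iff.1 hz x hx, mul_inv_cancel_right]
  have hD1 : ((P : Subgroup G) ⊓ normalizer (D : Set G)).map (MulAut.conj z).toMonoidHom ≤ ((z • P : Sylow r G) : Subgroup G) := by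
    rintro _ ⟨x, hx, rfl⟩
    exact Cfsg.Lib.Transfer.mem_conj_sylow_iff.2 hx.1
  have hgt1 : D < ((z • P : Sylow r G) : Subgroup G) ⊓ (P'' : Subgroup G) := by
    have hle : ((P : Subgroup G) ⊓ normalizer (D : Set G)).map (MulAut.conj z).toMonoidHom ≤
        ((z • P : Sylow r G) : Subgroup G) ⊓ (P'' : Subgroup G) := le_inf hD1 (hzS.trans hSP)
    refine lt_of_lt_of_le ?_ hle
    refine lt_of_le_of_ne (fun x hx => ⟨x, e1.le hx, hzfix x hx⟩) fun e => ?_
    obtain ⟨x, hx, hxD⟩ := SetLike.exists_of_lt e1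
    have hm : z * x * z⁻¹ ∈ D := by rw [e]; exact ⟨x, hx, rfl⟩
    refine hxD ?_
    have hh := hzfix _ hm
    have : z * x * z⁻¹ = x := mul_left_cancel (mul_right_cancel hh)
    rwa [this] at hm
  have hgt2 : D < (P'' : Subgroup G) ⊓ (P' : Subgroup G) :=
    lt_of_lt_of_le e2 (le_inf (hS2.trans hSP) inf_le_left)
  obtain ⟨w₁, hw₁, ew₁⟩ := ih _ hgt1 (z • P) P'' rfl (hRD.trans (hgt1.le.trans inf_le_left))
    (hRD.trans (hgt1.le.trans inf_le_right))
  obtain ⟨w₂, hw₂, ew₂⟩ := ih _ hgt2 P'' P' rfl (hRD.trans (hgt2.le.trans inf_le_left)) hP'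
  exact ⟨w₂ * (w₁ * z), mul_mem hw₂ (mul_mem hw₁ hzR), by rw [mul_smul, mul_smul, ew₁, ew₂]⟩

end Cfsg.Lib.Ree.Transfer
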