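import Cfsg.Agent.Ree.Transfer.Weight
import Cfsg.Agent.JankoOne.Main

/-!
In a simple group with involution centralizer `2 × A₅` a subgroup of order 11 or 19 is normalized with a weight `b`,
`b² ≠ 1`.
-/

set_option autoImplicit false

namespace Cfsg.Lib.Ree.Transfer

open Subgroup

universe u

theorem jone_check_eleven : ∀ k ∈ Nat.divisors 133, 175560 / (2 * 11 * k) % 11 ≠ 1 := by decide +kernel

theorem jone_check_nineteen : ∀ k ∈ Nat.divisors 77, 175560 / (2 * 19 * k) % 19 ≠ 1 := by decide +kernel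

theorem jone_weight {M : Type u} [Group M] [Finite M] [IsSimpleGroup M] (hnab : ¬ IsMulCommutative M) (t : M)
    (ht : Cfsg.IsTwoCentralInvolution t) (e : centralizer ({t} : Set M) ≃* JankoOne.K) {r : ℕ} [Fact r.Prime]
    (hr : r = 11 ∨ r = 19) :
    ∃ y c : M, ∃ b : ℕ, orderOf y = r ∧ c * y * c⁻¹ = y ^ b ∧ (b : ZMod r) ^ 2 ≠ 1 := by
  classical
  haveI := Fintype.ofFinite M
  have hM : Nat.card M = 175560 := JankoOne.isJOne t ht e
  obtain ⟨S, -⟩ := JankoOne.exists_setup t ht e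
  obtain ⟨y, hy, hcase⟩ := weight_or_count hnab (r := r)
    (by rw [hM]; rcases hr with rfl | rfl <;> norm_num) (by rw [hM]; rcases hr with rfl | rfl <;> norm_num)
  rcases hcase with ⟨c, b, h1, h2⟩ | ⟨k, hk, hmod, hrk, hcent⟩
  · exact ⟨y, c, b, hy, h1, h2⟩
  exfalso
  rw [hM] at hk hmod
  obtain ⟨o3, o3', o5, o5'⟩ := JankoOne.rep_orders
  have hnot : ∀ (p : ℕ) (a : Fin 4), p.Prime → a ≠ 0 → JankoOne.rep a ^ p = 1 → JankoOne.rep a ≠ 1 →
      ¬ p * p ∣ 175560 → ¬ p ∣ k := by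
    intro p a hp ha hap ha1 hpp hpk
    haveI : Fact p.Prime := ⟨hp⟩
    obtain ⟨x, hx, hxy⟩ := hcent p hp hpk
    set w := S.φ (1, JankoOne.rep a) with hw
    have hwo : orderOf w = p := by
      rw [hw, orderOf_injective S.φ S.inj]
      exact orderOf_eq_prime (Prod.ext (one_pow p) hap) fun e => ha1 (congrArg Prod.snd e)
    obtain ⟨P, hP⟩ := (IsPGroup.of_card (n := 1) (by rw [Nat.card_zpowers, hwo, pow_one]) :
      IsPGroup p (zpowers w)).exists_le_sylow
    obtain ⟨P', hP'⟩ := (IsPGroup.of_card (n := 1) (by rw [Nat.card_zpowers, hx, pow_one]) :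
      IsPGroup p (zpowers x)).exists_le_sylow
    obtain ⟨g, hg⟩ := MulAction.exists_smul_eq M P P'
    have hPeq : zpowers w = (P : Subgroup M) := Subgroup.eq_of_le_of_card_ge hP (by
      rw [Nat.card_zpowers, hwo]
      obtain ⟨n, hn⟩ := P.2.exists_card_eq
      rw [hn]
      calc p ^ n ≤ p ^ 1 := Nat.pow_le_pow_right hp.pos (by
            by_contra hc
            refine hpp (hM ▸ ?_)
            rw [← pow_two]
            exact (pow_dvd_pow p (show 2 ≤ n by omega)).trans (hn ▸ card_subgroup_dvd_card _))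
        _ = p := pow_one p)
    have hxg : g⁻¹ * x * g ∈ zpowers w := by
      have hxP : x ∈ ((g • P : Sylow p M) : Subgroup M) := hg ▸ hP' (mem_zpowers x)
      rw [Sylow.coe_subgroup_smul, ← hPeq] at hxP
      obtain ⟨v, hv, hve⟩ := hxP
      rw [← hve]
      simpa [mul_assoc] using hv
    have hz : zpowers (g⁻¹ * x * g) = zpowers w := Subgroup.eq_of_le_of_card_ge (zpowers_le.2 hxg) (by
      rw [Nat.card_zpowers, Nat.card_zpowers, hwo, show g⁻¹ * x * g = (MulAut.conj g⁻¹).toMonoidHom x by simp,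
        orderOf_injective (MulAut.conj g⁻¹).toMonoidHom (MulAut.conj g⁻¹).injective, hx])
    have hm : g⁻¹ * y * g ∈ centralizer ({w} : Set M) := by
      refine mem_centralizer_singleton_iff.2 ?_
      obtain ⟨i, hi⟩ : w ∈ zpowers (g⁻¹ * x * g) := hz ▸ mem_zpowers w
      rw [← hi]
      refine (Commute.zpow_right ?_ i).eq
      show g⁻¹ * y * g * (g⁻¹ * x * g) = g⁻¹ * x * g * (g⁻¹ * y * g)
      calc g⁻¹ * y * g * (g⁻¹ * x * g) = g⁻¹ * (y * x) * g := by group
        _ = g⁻¹ * x * g * (g⁻¹ * y * g) := by rw [← hxy.eq]; group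
    refine S.prime_not (Fact.out : r.Prime) (by rcases hr with rfl | rfl <;> norm_num)
      (by rw [hM]; rcases hr with rfl | rfl <;> norm_num) ha ?_
    have h := orderOf_dvd_natCard (⟨_, hm⟩ : centralizer ({w} : Set M))
    rwa [Subgroup.orderOf_mk, show g⁻¹ * y * g = (MulAut.conj g⁻¹).toMonoidHom y by simp,
      orderOf_injective (MulAut.conj g⁻¹).toMonoidHom (MulAut.conj g⁻¹).injective, hy] at h
  have h3 := hnot 3 1 Nat.prime_three (by decide) o3 o3' (by norm_num)
  have h5 := hnot 5 2 (by norm_num) (by decide) o5 o5' (by norm_num)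
  have h2 : ¬ 2 ∣ k := by
    intro h2k
    haveI : Fact (Nat.Prime 2) := ⟨Nat.prime_two⟩
    obtain ⟨x, hx, hxy⟩ := hcent 2 Nat.prime_two h2k
    have hxx : x * x = 1 := by rw [← pow_two, ← hx, pow_orderOf_eq_one]
    have hx1 : x ≠ 1 := fun e' => by rw [e', orderOf_one] at hx; omega
    obtain ⟨g, hg⟩ := isConj_iff.1 (S.conj x hxx hx1)
    have hm : g⁻¹ * y * g ∈ centralizer ({S.φ JankoOne.zc} : Set M) := by
      refine mem_centralizer_singleton_iff.2 ?_
      rw [show S.φ JankoOne.zc = g⁻¹ * x * g by rw [← hg]; group]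
      calc g⁻¹ * y * g * (g⁻¹ * x * g) = g⁻¹ * (y * x) * g := by group
        _ = g⁻¹ * x * g * (g⁻¹ * y * g) := by rw [← hxy.eq]; group
    have h := orderOf_dvd_natCard (⟨_, hm⟩ : centralizer ({S.φ JankoOne.zc} : Set M))
    rw [Subgroup.orderOf_mk, S.card_cent, show g⁻¹ * y * g = (MulAut.conj g⁻¹).toMonoidHom y by simp,
      orderOf_injective (MulAut.conj g⁻¹).toMonoidHom (MulAut.conj g⁻¹).injective, hy] at h
    rcases hr with rfl | rfl <;> norm_num at h
  have h35 : Nat.Coprime k 60 := by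
    rw [show (60 : ℕ) = 2 * 2 * 3 * 5 by norm_num]
    exact Nat.Coprime.mul_right (Nat.Coprime.mul_right (Nat.Coprime.mul_right
      ((Nat.prime_two.coprime_iff_not_dvd.2 h2).symm) ((Nat.prime_two.coprime_iff_not_dvd.2 h2).symm))
      ((Nat.prime_three.coprime_iff_not_dvd.2 h3).symm))
      (((Nat.Prime.coprime_iff_not_dvd (by norm_num)).2 h5).symm)
  rcases hr with rfl | rfl
  · have : k ∣ 133 := by
      refine h35.dvd_of_dvd_mul_left ?_
      exact Nat.dvd_of_mul_dvd_mul_left (by norm_num : 0 < 2 * 11) (hk.trans (dvd_of_eq (by norm_num)))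
    exact jone_check_eleven k (Nat.mem_divisors.2 ⟨this, by norm_num⟩) hmod
  · have : k ∣ 77 := by
      refine h35.dvd_of_dvd_mul_left ?_
      exact Nat.dvd_of_mul_dvd_mul_left (by norm_num : 0 < 2 * 19) (hk.trans (dvd_of_eq (by norm_num)))
    exact jone_check_nineteen k (Nat.mem_divisors.2 ⟨this, by norm_num⟩) hmod

end Cfsg.Lib.Ree.Transfer
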