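import Cfsg.Agent.AbCentMax.Setup
import Cfsg.Agent.JankoOne.Main
import Cfsg.Agent.Classical.Misc.SmallPSL

/-!
An involution centralizer `⟨t⟩ × E` with `E ≅ PSL(2, 5)` is `2 × A₅`.
-/

set_option autoImplicit false
set_option linter.style.haveILetI false

namespace Cfsg.Lib.Ree.Transfer

open Subgroup

universe u v

variable {M : Type u} [Group M] [Finite M] {t : M} {E : Subgroup M} {F : Type v} [Field F] [Fintype F]

theorem jone_iso (H : AbCentMax.Hyp t E E F) (h5 : Fintype.card F = 5) :
    Nonempty (centralizer ({t} : Set M) ≃* JankoOne.K) := by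
  obtain ⟨f⟩ := H.iso
  obtain ⟨g⟩ := Cfsg.Lib.Classical.SmallPSL.psl_five h5
  set C := centralizer ({t} : Set M) with hC
  have htC : t ∈ C := mem_centralizer_singleton_iff.2 rfl
  have hEC : E ≤ C := fun x hx => mem_centralizer_singleton_iff.2 (H.comm x hx).eq.symm
  set tC : ↥C := ⟨t, htC⟩ with htC'
  have ho : orderOf tC = 2 := (Subgroup.orderOf_mk t htC).trans H.ord
  let a : Multiplicative (ZMod 2) →* ↥C :=
    MonoidHom.mk' (fun b => tC ^ (Multiplicative.toAdd b).val) fun b c => by
      show tC ^ (Multiplicative.toAdd b + Multiplicative.toAdd c).val = _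
      rw [← pow_add, ZMod.val_add,
        ← pow_mod_orderOf tC ((Multiplicative.toAdd b).val + (Multiplicative.toAdd c).val), ho]
  let φ : alternatingGroup (Fin 5) ≃* ↥E := g.symm.trans f.symm
  let b : alternatingGroup (Fin 5) →* ↥C := (Subgroup.inclusion hEC).comp φ.toMonoidHom
  have hab : ∀ m k, Commute (a m) (b k) := fun m k => by
    refine Commute.pow_left (Subtype.ext ?_) _
    exact (H.comm _ (φ k).2).eq
  let ψ : Multiplicative (ZMod 2) × alternatingGroup (Fin 5) →* ↥C := a.noncommCoprod b hab
  have hbij : Function.Bijective ψ := by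
    refine ⟨(injective_iff_map_eq_one ψ).2 fun ⟨k, x⟩ he => ?_, ?_⟩
    · have h1 : tC ^ (Multiplicative.toAdd k).val * b x = 1 := he
      have h2 : t ^ (Multiplicative.toAdd k).val * ((φ x : ↥E) : M) = 1 := congrArg Subtype.val h1
      have hk : (Multiplicative.toAdd k).val = 0 := by
        by_contra hne
        have h1' : (Multiplicative.toAdd k).val = 1 := by
          have := ZMod.val_lt (Multiplicative.toAdd k); omega
        rw [h1', pow_one] at h2
        exact H.disj (by rw [eq_inv_of_mul_eq_one_left h2]; exact inv_mem (φ x).2)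
      rw [hk, pow_zero, one_mul] at h2
      have hx : x = 1 := φ.injective ((Subtype.ext h2 : φ x = 1).trans (map_one φ).symm)
      rw [hx]
      exact Prod.ext ((ZMod.val_eq_zero _).1 hk) rfl
    · rintro ⟨x, hx⟩
      obtain ⟨e, he, r | r⟩ := H.split x (mem_centralizer_singleton_iff.1 hx)
      · refine ⟨(1, φ.symm ⟨e, he⟩), ?_⟩
        show a 1 * b (φ.symm ⟨e, he⟩) = _
        rw [map_one, one_mul]
        exact Subtype.ext (by simp [b, r])
      · refine ⟨(Multiplicative.ofAdd 1, φ.symm ⟨e, he⟩), ?_⟩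
        show tC ^ (1 : ZMod 2).val * b (φ.symm ⟨e, he⟩) = _
        rw [ZMod.val_one, pow_one]
        exact Subtype.ext (by simp [b, htC', r])
  exact ⟨(MulEquiv.ofBijective ψ hbij).symm⟩

end Cfsg.Lib.Ree.Transfer
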