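import Cfsg.Agent.Ree.Transfer.Fixed
import Cfsg.Agent.Ree.Torus.Local
import Cfsg.Agent.Walter.Structure

/-!
The centralizer of a field automorphism `x` modulo `⟨x⟩`: the involution centralizer there, no odd core, and all
involutions conjugate.
-/

set_option autoImplicit false
set_option linter.unusedSectionVars false
set_option linter.style.haveILetI false

namespace Cfsg.Lib.Ree.Twist

open Subgroup Cfsg.Lib.TwoTimesPSL

universe u v

variable {G : Type u} [Group G] [Finite G] {t : G} {E E₀ : Subgroup G} {F : Type v} [Field F] [Fintype F]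

/-- The cardinality of the field is determined by that of its `PSL₂`. -/
theorem card_eq_of_psl {K L : Type v} [Field K] [Fintype K] [Field L] [Fintype L] (hK : Odd (Fintype.card K))
    (hL : Odd (Fintype.card L)) {A : Type u} [Group A] {B : Type u} [Group B] (e : A ≃* B)
    (eA : A ≃* Matrix.ProjectiveSpecialLinearGroup (Fin 2) K)
    (eB : B ≃* Matrix.ProjectiveSpecialLinearGroup (Fin 2) L) : Fintype.card K = Fintype.card L := by
  have h1 := Cfsg.Lib.PSLTwoDihedral.card_P (F := K) (Nat.odd_iff.1 hK)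
  have h2 := Cfsg.Lib.PSLTwoDihedral.card_P (F := L) (Nat.odd_iff.1 hL)
  rw [Nat.card_congr (eA.symm.trans (e.trans eB)).toEquiv, h2] at h1
  have mono : ∀ {m k : ℕ}, 2 ≤ m → m < k → m * (m ^ 2 - 1) < k * (k ^ 2 - 1) := by
    intro m k hm hmk
    have : m ^ 2 < k ^ 2 := Nat.pow_lt_pow_left hmk (by norm_num)
    have : 4 ≤ m ^ 2 := by nlinarith
    exact Nat.mul_lt_mul_of_lt_of_lt hmk (by omega)
  have hK2 := Fintype.one_lt_card (α := K)
  have hL2 := Fintype.one_lt_card (α := L)
  rcases lt_trichotomy (Fintype.card K) (Fintype.card L) with h | h | h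
  · exact absurd h1.symm (mono hK2 h).ne
  · exact h
  · exact absurd h1 (mono hL2 h).ne

variable (S : Setting t E E₀ F) {T : Sylow 2 G} {a b n : G} (hy : AbCentMax.Sys t E₀ T a b n)
include S hy

theorem Setting.x_comm {x : G} (hx : x ∈ S.Phi hy) {y : G} (hyT : y ∈ T) : Commute x y := by
  obtain ⟨hxE, hxa, hxb, -⟩ := (S.mem_Phi hy).1 hx
  have hv : ∀ v, (v = 1 ∨ v = a ∨ v = b ∨ v = a * b) → Commute x v := by
    rintro v (rfl | rfl | rfl | rfl)
    exacts [Commute.one_right x, hxa, hxb, hxa.mul_right hxb]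
  obtain ⟨v, hvc, rfl | rfl⟩ := hy.cases y hyT
  · exact hv _ hvc
  · exact (S.hyp.comm x hxE).symm.mul_right (hv _ hvc)

/-- The involutions commuting with `x` are conjugate to `t` under the centralizer of `x`. -/
theorem Setting.conj_inv {x : G} (hx : x ∈ S.Phi hy) {s : G} (hs : orderOf s = 2) (hsx : Commute s x) :
    ∃ g, Commute g x ∧ g * t * g⁻¹ = s := by
  haveI : Fact (Nat.Prime 2) := ⟨Nat.prime_two⟩
  set C := centralizer ({x} : Set G) with hC
  have hTC : (T : Subgroup G) ≤ C := fun y hyT => mem_centralizer_singleton_iff.2 (S.x_comm hy hx hyT).symm.eq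
  set sC : C := ⟨s, mem_centralizer_singleton_iff.2 hsx.eq⟩ with hsC
  have hso : orderOf sC = 2 := (Subgroup.orderOf_mk s _).trans hs
  obtain ⟨R, hR⟩ := (IsPGroup.of_card (G := zpowers sC) (p := 2) (n := 1)
    (by rw [Nat.card_zpowers, hso, pow_one])).exists_le_sylow
  obtain ⟨k, hk⟩ := MulAction.exists_smul_eq C R (T.subtype hTC)
  have hm : (k : G) * s * (k : G)⁻¹ ∈ T := by
    have h1 : k * sC * k⁻¹ ∈ ((T.subtype hTC : Sylow 2 C) : Subgroup C) := hk ▸ ⟨sC, hR (mem_zpowers sC), rfl⟩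
    exact h1
  have hne : (k : G) * s * (k : G)⁻¹ ≠ 1 := fun e => by
    rw [conj_eq_one_iff.1 e, orderOf_one] at hs; omega
  obtain ⟨g, hg, hgt⟩ := S.trans hy hm hne
  refine ⟨(k : G)⁻¹ * g, (Commute.inv_left (show Commute (k : G) x from mem_centralizer_singleton_iff.1 k.2)).mul_left
    (S.normalizer_comm hy hg hx), ?_⟩
  rw [show (k : G)⁻¹ * g * t * ((k : G)⁻¹ * g)⁻¹ = (k : G)⁻¹ * (g * t * g⁻¹) * k by group, hgt]
  group

/-- An element of `Phi` fixing the centralizer of `x` in `E₀` is a power of `x`. -/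
theorem Setting.phi_cent {x p : G} (hx : x ∈ S.Phi hy) (hp : p ∈ S.Phi hy)
    (h : ∀ k ∈ E₀, Commute k x → Commute k p) : p ∈ zpowers x := by
  haveI := S.Phi_cyclic hy
  set M := zpowers x ⊔ zpowers p with hM
  have hMP : M ≤ S.Phi hy := sup_le (zpowers_le.2 hx) (zpowers_le.2 hp)
  haveI : IsCyclic M := isCyclic_of_injective (Subgroup.inclusion hMP) (Subgroup.inclusion_injective hMP)
  obtain ⟨⟨w, hw⟩, hgen⟩ := IsCyclic.exists_generator (α := M)
  have hwP : w ∈ S.Phi hy := hMP hw
  have hxw : x ∈ zpowers w := by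
    obtain ⟨i, hi⟩ := hgen ⟨x, mem_sup_left (mem_zpowers x)⟩
    exact ⟨i, congrArg Subtype.val hi⟩
  have heq : E₀ ⊓ centralizer ({w} : Set G) = E₀ ⊓ centralizer ({x} : Set G) := by
    apply le_antisymm
    · intro k hk
      obtain ⟨i, rfl⟩ := hxw
      exact ⟨hk.1, mem_centralizer_singleton_iff.2
        ((show Commute k w from mem_centralizer_singleton_iff.1 hk.2).zpow_right i).eq⟩
    · intro k hk
      have hkx : Commute k x := mem_centralizer_singleton_iff.1 hk.2
      have hle : M ≤ centralizer ({k} : Set G) := sup_le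
        (zpowers_le.2 (mem_centralizer_singleton_iff.2 hkx.symm.eq))
        (zpowers_le.2 (mem_centralizer_singleton_iff.2 (h k hk.1 hkx).symm.eq))
      exact ⟨hk.1, mem_centralizer_singleton_iff.2 (mem_centralizer_singleton_iff.1 (hle hw)).symm⟩
  obtain ⟨L, iL, iLt, hL, ⟨eL⟩⟩ := S.fixed hy hx
  obtain ⟨L', iL', iLt', hL', ⟨eL'⟩⟩ := S.fixed hy hwP
  have hoddL : ∀ {c k : ℕ}, c ^ k = Fintype.card F → 0 < k → Odd c := fun {c k} hck hk => by
    have := S.hyp.odd
    rw [← hck] at this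
    exact (Nat.odd_pow_iff hk.ne').1 this
  have hc := card_eq_of_psl (hoddL hL' (orderOf_pos w)) (hoddL hL (orderOf_pos x)) (MulEquiv.subgroupCongr heq) eL' eL
  rw [hc, ← hL] at hL'
  have ho : orderOf w = orderOf x := Nat.pow_right_injective (Fintype.one_lt_card (α := L)) hL'
  have hz : zpowers x = zpowers w :=
    Subgroup.eq_of_le_of_card_ge (zpowers_le.2 hxw) (by rw [Nat.card_zpowers, Nat.card_zpowers, ho])
  rw [hz]
  obtain ⟨i, hi⟩ := hgen ⟨p, mem_sup_right (mem_zpowers p)⟩
  exact ⟨i, congrArg Subtype.val hi⟩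

end Cfsg.Lib.Ree.Twist
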