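import Cfsg.Agent.Ree.Transfer.LocalProj
import Cfsg.Agent.FourGroupGW.Main
import Cfsg.Agent.Walter.Main

/-!
`C(x)/⟨x⟩` for a field automorphism `x`: the involution centralizer, no odd core, all involutions conjugate.
-/

set_option autoImplicit false
set_option linter.unusedSectionVars false
set_option linter.style.haveILetI false

namespace Cfsg.Lib.Ree.Twist

open Subgroup Cfsg.Lib.TwoTimesPSL

universe u v

variable {G : Type u} [Group G] [Finite G]

/-- A surjection of `C(x)` with kernel `⟨x⟩`. -/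
structure Proj (x : G) (X : Type u) [Group X] where
  π : centralizer ({x} : Set G) →* X
  surj : Function.Surjective π
  ker : π.ker = (zpowers x).subgroupOf (centralizer ({x} : Set G))

variable {x : G} {X : Type u} [Group X] (P : Proj x X)

theorem Proj.finite (P : Proj x X) : Finite X := Finite.of_surjective P.π P.surj

theorem Proj.eq_one_iff {h : centralizer ({x} : Set G)} : P.π h = 1 ↔ (h : G) ∈ zpowers x := by
  rw [← MonoidHom.mem_ker, P.ker, mem_subgroupOf]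

/-- The image of a subgroup. -/
def Proj.img (K : Subgroup G) : Subgroup X := (K.subgroupOf (centralizer ({x} : Set G))).map P.π

theorem Proj.mem_img {K : Subgroup G} {u : X} :
    u ∈ P.img K ↔ ∃ h : centralizer ({x} : Set G), (h : G) ∈ K ∧ P.π h = u := Iff.rfl

theorem Proj.commute_lift (P : Proj x X) (hxo : Odd (orderOf x)) {h s : centralizer ({x} : Set G)}
    (hs : (s : G) * s = 1) (hc : Commute (P.π h) (P.π s)) : Commute (h : G) s := by
  have h1 : P.π (h * s * h⁻¹ * s⁻¹) = 1 := by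
    rw [map_mul, map_mul, map_mul, map_inv, map_inv, hc.eq, mul_inv_cancel_right, mul_inv_cancel]
  have hm : (h : G) * s * (h : G)⁻¹ * (s : G)⁻¹ ∈ zpowers x := P.eq_one_iff.1 h1
  set c := (h : G) * s * (h : G)⁻¹ * (s : G)⁻¹ with hcdef
  have hsx : Commute (s : G) x := mem_centralizer_singleton_iff.1 s.2
  have hsc : Commute (s : G) c := by
    obtain ⟨i, hi⟩ := hm
    rw [← hi]; exact hsx.zpow_right i
  have he : (c * (s : G)) * (c * (s : G)) = 1 := by
    rw [hcdef, inv_mul_cancel_right,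
      show (h : G) * s * (h : G)⁻¹ * ((h : G) * s * (h : G)⁻¹) = (h : G) * ((s : G) * s) * (h : G)⁻¹ by group, hs]
    group
  have hc2 : c * c = 1 := by
    rw [mul_assoc, ← mul_assoc (s : G), hsc.eq, mul_assoc c, hs, mul_one] at he
    exact he
  have hcodd : Odd (orderOf c) := by
    obtain ⟨i, hi⟩ := hm
    rw [← hi]
    exact hxo.of_dvd_nat (orderOf_dvd_of_mem_zpowers ⟨i, rfl⟩)
  have hc1 : c = 1 := eq_one_of_odd_sq hcodd hc2
  exact mul_inv_eq_iff_eq_mul.1 (mul_inv_eq_one.1 (hcdef ▸ hc1))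

theorem Proj.lift_inv (P : Proj x X) (hxo : Odd (orderOf x)) {u : X} (hu : u * u = 1) :
    ∃ s : centralizer ({x} : Set G), (s : G) * s = 1 ∧ P.π s = u := by
  obtain ⟨h, rfl⟩ := P.surj u
  have hm : (h : G) * h ∈ zpowers x := P.eq_one_iff.1 (show P.π (h * h) = 1 by rw [map_mul]; exact hu)
  have hhx : Commute (h : G) x := mem_centralizer_singleton_iff.1 h.2
  obtain ⟨i, hi⟩ := hm
  obtain ⟨k, hk⟩ := exists_sq_pow (hxo.of_dvd_nat (orderOf_dvd_of_mem_zpowers ⟨i, rfl⟩) : Odd (orderOf (x ^ i)))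
  set w := (x ^ i) ^ k with hw
  have hwm : w ∈ zpowers x := pow_mem (zpow_mem (mem_zpowers x) i) k
  have hww : w * w = x ^ i := by rw [hw, ← (Commute.refl (x ^ i)).mul_pow, ← hk]
  have hwC : w ∈ centralizer ({x} : Set G) :=
    zpowers_le.2 (mem_centralizer_singleton_iff.2 rfl) hwm
  refine ⟨h * ⟨w, hwC⟩⁻¹, ?_, ?_⟩
  · show (h : G) * w⁻¹ * ((h : G) * w⁻¹) = 1
    have hc : Commute (h : G) w⁻¹ := ((hhx.zpow_right i).pow_right k).inv_right
    have hi' : (h : G) * h = x ^ i := hi.symm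
    rw [hc.symm.mul_mul_mul_comm, hi', ← hww]
    group
  · rw [map_mul, map_inv, P.eq_one_iff.2 (show ((⟨w, hwC⟩ : centralizer ({x} : Set G)) : G) ∈ zpowers x from hwm),
      inv_one, mul_one]

variable {t : G} {E E₀ : Subgroup G} {F : Type v} [Field F] [Fintype F] (S : Setting t E E₀ F) {T : Sylow 2 G}
  {a b n : G} (hy : AbCentMax.Sys t E₀ T a b n) (hx : x ∈ S.Phi hy)
include S hy hx

theorem Setting.x_odd : Odd (orderOf x) := ((S.mem_Phi hy).1 hx).2.2.2

theorem Setting.mem_cent {y : G} (hyT : y ∈ T) : y ∈ centralizer ({x} : Set G) :=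
  mem_centralizer_singleton_iff.2 (S.x_comm hy hx hyT).symm.eq

theorem Setting.inj_inv {s s' : centralizer ({x} : Set G)} (hs : (s : G) ∈ T) (hs' : (s' : G) ∈ T)
    (he : P.π s = P.π s') : (s : G) = s' := by
  have h1 : ((s * s'⁻¹ : centralizer ({x} : Set G)) : G) ∈ zpowers x :=
    P.eq_one_iff.1 (by rw [map_mul, map_inv, he, mul_inv_cancel])
  have hodd := (S.x_odd hy hx).of_dvd_nat (orderOf_dvd_of_mem_zpowers h1)
  obtain ⟨j, hj⟩ := T.isPGroup'
    ⟨((s * s'⁻¹ : centralizer ({x} : Set G)) : G), (T : Subgroup G).mul_mem hs ((T : Subgroup G).inv_mem hs')⟩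
  have hj' := congrArg Subtype.val hj
  exact mul_inv_eq_one.1 (orderOf_eq_one_iff.1 (Nat.eq_one_of_dvd_coprimes
    ((Nat.coprime_two_left.2 hodd).pow_left j) (orderOf_dvd_of_pow_eq_one hj') dvd_rfl))

/-- The image of the element of `T`. -/
def Setting.bar (y : G) (hyT : y ∈ T) : X := P.π ⟨y, S.mem_cent hy hx hyT⟩

/-- The involution centralizer of the quotient. -/
theorem Setting.hyp_quot {L : Type v} [Field L] [Fintype L] (hL : Fintype.card L ^ orderOf x = Fintype.card F)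
    (e : ↥(E₀ ⊓ centralizer ({x} : Set G)) ≃* Matrix.ProjectiveSpecialLinearGroup (Fin 2) L) :
    AbCentMax.Hyp (S.bar P hy hx t hy.tT) (P.img E) (P.img E₀) L := by
  have hxo := S.x_odd hy hx
  have hxE : x ∈ E := S.Phi_le hy hx
  have hzE : zpowers x ≤ E := zpowers_le.2 hxE
  have hz0 : ∀ z ∈ zpowers x, z ∈ E₀ → z = 1 := fun z hz h0 => S.Phi_inter hy (zpowers_le.2 hx hz) h0
  set tH : centralizer ({x} : Set G) := ⟨t, S.mem_cent hy hx hy.tT⟩ with htH
  show AbCentMax.Hyp (P.π tH) (P.img E) (P.img E₀) L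
  refine ⟨?_, ?_, ?_, ?_, ?_, ?_, ?_, ?_, ?_⟩
  · refine orderOf_eq_prime (by
      rw [pow_two, ← map_mul, show tH * tH = 1 from Subtype.ext S.tt, map_one]) fun h => ?_
    exact S.hyp.t_ne (S.inj_inv P hy hx (s := tH) (s' := 1) hy.tT (T : Subgroup G).one_mem (by rw [h, map_one]))
  · rintro _ ⟨g, hg, rfl⟩
    exact (show Commute tH g from Subtype.ext (S.hyp.comm g hg).eq).map P.π
  · intro u hu
    obtain ⟨g, rfl⟩ := P.surj u
    have hc := P.commute_lift hxo (h := g) (s := tH) S.tt hu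
    obtain ⟨d, hd, he | he⟩ := S.split (hc.symm)
    · exact ⟨P.π g, P.mem_img.2 ⟨g, he ▸ hd, rfl⟩, Or.inl rfl⟩
    · have hdC : d ∈ centralizer ({x} : Set G) := by
        rw [show d = t⁻¹ * (g : G) by rw [he, inv_mul_cancel_left]]
        exact mul_mem (inv_mem tH.2) g.2
      refine ⟨P.π ⟨d, hdC⟩, P.mem_img.2 ⟨⟨d, hdC⟩, hd, rfl⟩, Or.inr ?_⟩
      rw [← map_mul]
      exact congrArg P.π (Subtype.ext he)
  · rintro ⟨g, hg, hgt⟩
    refine S.hyp.disj ?_
    have h1 : ((g⁻¹ * tH : centralizer ({x} : Set G)) : G) ∈ zpowers x :=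
      P.eq_one_iff.1 (by rw [map_mul, map_inv, hgt, inv_mul_cancel])
    have := mul_mem (show (g : G) ∈ E from hg) (hzE h1)
    push_cast at this
    rwa [mul_inv_cancel_left] at this
  · exact map_mono (fun g hg => S.hyp.le hg)
  · rintro _ ⟨g, hg, rfl⟩ _ ⟨k, hk, rfl⟩
    exact ⟨g * k * g⁻¹, S.hyp.norm g hg k hk, by simp⟩
  · rintro _ ⟨g, hg, rfl⟩ hc
    refine P.eq_one_iff.2 ?_
    have hgx : Commute (g : G) x := mem_centralizer_singleton_iff.1 g.2
    have hcomm : ∀ k ∈ E₀, Commute k x → Commute (g : G) k := by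
      intro k hk hkx
      set kH : centralizer ({x} : Set G) := ⟨k, mem_centralizer_singleton_iff.2 hkx.eq⟩ with hkH
      have h1 : ((g * kH * g⁻¹ * kH⁻¹ : centralizer ({x} : Set G)) : G) ∈ zpowers x := P.eq_one_iff.1 (by
        rw [map_mul, map_mul, map_mul, map_inv, map_inv, (hc (P.π kH) (P.mem_img.2 ⟨kH, hk, rfl⟩)).eq,
          mul_inv_cancel_right, mul_inv_cancel])
      exact mul_inv_eq_iff_eq_mul.1 (mul_inv_eq_one.1 (hz0 _ h1 (mul_mem (S.hyp.norm g hg k hk) (inv_mem hk))))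
    have hga := hcomm a hy.aE (S.x_comm hy hx hy.aT).symm
    have hgb := hcomm b hy.bE (S.x_comm hy hx hy.bT).symm
    have hgn := hcomm n hy.nE (S.n_comm hy hx)
    obtain ⟨c, hcE, p, hp, hgp'⟩ := S.exists_mul hy hg
    have hgp : (g : G) = c * p := hgp'
    obtain ⟨hpE, hpa, hpb, -⟩ := (S.mem_Phi hy).1 hp
    have hce : c = (g : G) * p⁻¹ := by rw [hgp, mul_inv_cancel_right]
    have hca : Commute c a := hce ▸ hga.mul_left hpa.inv_left
    have hcb : Commute c b := hce ▸ hgb.mul_left hpb.inv_left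
    have hcn : Commute c n := hce ▸ hgn.mul_left (S.n_comm hy hp).symm.inv_left
    have haa := AbCentMax.aa S.hyp hy
    have hbb := AbCentMax.bb S.hyp hy
    have ha1 : a ≠ 1 := fun r => by have := hy.ao; rw [r, orderOf_one] at this; omega
    have hb1 : b ≠ 1 := fun r => by have := hy.bo; rw [r, orderOf_one] at this; omega
    have hc1 : c = 1 := by
      rcases S.cases_E hy (S.cent_mem hy hcE hca hcb) (S.hyp.le hcE) with r | r | r | r
      · exact r
      · exact absurd (by rw [← hy.na, ← r, ← hcn.eq, mul_inv_cancel_right] : a = b) hy.ne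
      · refine absurd ?_ ha1
        have h2 : b = a * b := by rw [← hy.nb, ← r, ← hcn.eq, mul_inv_cancel_right]
        exact mul_eq_right.1 h2.symm
      · refine absurd ?_ hb1
        have h2 : a * b = b * (a * b) := by
          calc a * b = n * (a * b) * n⁻¹ := by rw [← r, ← hcn.eq, mul_inv_cancel_right]
            _ = b * (a * b) := by rw [show n * (a * b) * n⁻¹ = (n * a * n⁻¹) * (n * b * n⁻¹) by group, hy.na, hy.nb]
        exact mul_eq_right.1 h2.symm
    rw [hc1, one_mul] at hgp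
    rw [hgp]
    exact S.phi_cent hy hx hp fun k hk hkx => hgp ▸ (hcomm k hk hkx).symm
  · have := S.hyp.odd
    rw [← hL] at this
    exact (Nat.odd_pow_iff (orderOf_pos x).ne').1 this
  · refine ⟨MulEquiv.trans ?_ e⟩
    let f : ↥(E₀ ⊓ centralizer ({x} : Set G)) →* X := P.π.comp (Subgroup.inclusion inf_le_right)
    have hf : Function.Injective f := (injective_iff_map_eq_one f).2 fun k hk =>
      Subtype.ext (hz0 _ (P.eq_one_iff.1 hk) k.2.1)
    refine (MulEquiv.subgroupCongr ?_).trans (MonoidHom.ofInjective hf).symm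
    ext u
    constructor
    · rintro ⟨g, hg, rfl⟩
      exact ⟨⟨g, hg, g.2⟩, rfl⟩
    · rintro ⟨k, rfl⟩
      exact ⟨⟨k, k.2.2⟩, k.2.1, rfl⟩

theorem Setting.n_mem_cent : n ∈ centralizer ({x} : Set G) :=
  mem_centralizer_singleton_iff.2 (S.n_comm hy hx).eq

/-- The image of `T`. -/
noncomputable def Setting.sylQ : Sylow 2 X :=
  haveI : Fact (Nat.Prime 2) := ⟨Nat.prime_two⟩
  (T.subtype (fun _ hy' => S.mem_cent hy hx hy') : Sylow 2 (centralizer ({x} : Set G))).mapSurjective P.surj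

theorem Setting.mem_sylQ {u : X} : u ∈ S.sylQ P hy hx ↔ ∃ (y : G) (hyT : y ∈ T), S.bar P hy hx y hyT = u :=
  ⟨fun ⟨g, hg, he⟩ => ⟨g, hg, he⟩, fun ⟨y, hyT, he⟩ => ⟨⟨y, S.mem_cent hy hx hyT⟩, hyT, he⟩⟩

/-- The frame of the quotient. -/
theorem Setting.sys_quot : AbCentMax.Sys (S.bar P hy hx t hy.tT) (P.img E₀) (S.sylQ P hy hx)
    (S.bar P hy hx a hy.aT) (S.bar P hy hx b hy.bT) (P.π ⟨n, S.n_mem_cent hy hx⟩) := by
  have hxo := S.x_odd hy hx
  have hord : ∀ (y : G) (hyT : y ∈ T), orderOf y = 2 → orderOf (S.bar P hy hx y hyT) = 2 := by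
    intro y hyT ho
    refine orderOf_eq_prime ?_ fun h => ?_
    · rw [pow_two, Setting.bar, ← map_mul, show (⟨y, S.mem_cent hy hx hyT⟩ : centralizer ({x} : Set G)) *
        ⟨y, S.mem_cent hy hx hyT⟩ = 1 from Subtype.ext (show y * y = 1 by rw [← pow_two, ← ho, pow_orderOf_eq_one]),
        map_one]
    · have h1 : y = 1 := S.inj_inv P hy hx (s := ⟨y, S.mem_cent hy hx hyT⟩) (s' := 1) hyT (T : Subgroup G).one_mem
        (by rw [map_one]; exact h)
      rw [h1, orderOf_one] at ho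
      omega
  refine ⟨(S.mem_sylQ P hy hx).2 ⟨t, hy.tT, rfl⟩, ?_, P.mem_img.2 ⟨_, hy.aE, rfl⟩, P.mem_img.2 ⟨_, hy.bE, rfl⟩,
    P.mem_img.2 ⟨_, hy.nE, rfl⟩, hord a hy.aT hy.ao, hord b hy.bT hy.bo,
    fun h => hy.ne (S.inj_inv P hy hx hy.aT hy.bT h), (S.mem_sylQ P hy hx).2 ⟨a, hy.aT, rfl⟩,
    (S.mem_sylQ P hy hx).2 ⟨b, hy.bT, rfl⟩, ?_, ?_, ?_, ?_⟩
  · intro u hu w hw
    obtain ⟨y, hyT, rfl⟩ := (S.mem_sylQ P hy hx).1 hu
    obtain ⟨z, hzT, rfl⟩ := (S.mem_sylQ P hy hx).1 hw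
    exact (show Commute (⟨y, S.mem_cent hy hx hyT⟩ : centralizer ({x} : Set G)) ⟨z, S.mem_cent hy hx hzT⟩ from
      Subtype.ext (hy.tcomm y hyT z hzT).eq).map P.π
  · intro u hu
    obtain ⟨y, hyT, rfl⟩ := (S.mem_sylQ P hy hx).1 hu
    obtain ⟨v, hv, r | r⟩ := hy.cases y hyT
    all_goals
      have hvT : v ∈ T := by
        rcases hv with rfl | rfl | rfl | rfl
        exacts [(T : Subgroup G).one_mem, hy.aT, hy.bT, (T : Subgroup G).mul_mem hy.aT hy.bT]
      refine ⟨S.bar P hy hx v hvT, ?_, ?_⟩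
      · rcases hv with rfl | rfl | rfl | rfl
        · exact Or.inl (map_one P.π)
        · exact Or.inr (Or.inl rfl)
        · exact Or.inr (Or.inr (Or.inl rfl))
        · exact Or.inr (Or.inr (Or.inr (map_mul P.π ⟨a, S.mem_cent hy hx hy.aT⟩ ⟨b, S.mem_cent hy hx hy.bT⟩)))
      subst r
    · exact Or.inl rfl
    · exact Or.inr (map_mul P.π ⟨t, S.mem_cent hy hx hy.tT⟩ ⟨v, S.mem_cent hy hx hvT⟩)
  · show P.π _ * P.π _ * (P.π _)⁻¹ = P.π _
    rw [← map_inv, ← map_mul, ← map_mul]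
    exact congrArg P.π (Subtype.ext hy.na)
  · show P.π _ * P.π _ * (P.π _)⁻¹ = P.π _ * P.π _
    rw [← map_inv, ← map_mul, ← map_mul, ← map_mul]
    exact congrArg P.π (Subtype.ext hy.nb)
  · rw [orderOf_eq_prime_iff (p := 3) (hp := ⟨Nat.prime_three⟩)]
    refine ⟨by rw [← map_pow, show (⟨n, S.n_mem_cent hy hx⟩ : centralizer ({x} : Set G)) ^ 3 = 1 from
      Subtype.ext (show n ^ 3 = 1 by rw [← hy.no, pow_orderOf_eq_one]), map_one], fun h => ?_⟩
    have := S.Phi_inter hy (zpowers_le.2 hx (P.eq_one_iff.1 h)) hy.nE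
    rw [show ((⟨n, S.n_mem_cent hy hx⟩ : centralizer ({x} : Set G)) : G) = n from rfl] at this
    have h3 := hy.no
    rw [this, orderOf_one] at h3
    omega

/-- All involutions of the quotient are conjugate. -/
theorem Setting.conj_quot {u : X} (hu : orderOf u = 2) : IsConj (S.bar P hy hx t hy.tT) u := by
  obtain ⟨s, hs, rfl⟩ := P.lift_inv (S.x_odd hy hx) (u := u) (by rw [← pow_two, ← hu, pow_orderOf_eq_one])
  have hs1 : orderOf (s : G) = 2 := orderOf_eq_prime (by rw [pow_two]; exact hs) fun e => by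
    rw [show s = 1 from Subtype.ext e, map_one, orderOf_one] at hu
    omega
  obtain ⟨g, hgx, hg⟩ := S.conj_inv hy hx hs1 (mem_centralizer_singleton_iff.1 s.2)
  refine isConj_iff.2 ⟨P.π ⟨g, mem_centralizer_singleton_iff.2 hgx.eq⟩, ?_⟩
  rw [Setting.bar, ← map_inv, ← map_mul, ← map_mul]
  exact congrArg P.π (Subtype.ext hg)

include P in
theorem Setting.abTwo_quot : Walter.AbTwo X :=
  (S.abTwo.subgroup _).of_surjective P.surj

include P in
/-- The quotient has no odd core. -/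
theorem Setting.core_quot : Cfsg.pPrimeCore 2 X = ⊥ := by
  classical
  haveI := P.finite
  obtain ⟨L, iL, iLt, hL, ⟨e⟩⟩ := S.fixed hy hx
  have H := S.hyp_quot P hy hx hL e
  have Sy := S.sys_quot P hy hx
  set O := Cfsg.pPrimeCore 2 X with hO
  haveI hn : O.Normal := Cfsg.Lib.Components.normal_of_mem_sSup_normal fun _ h => h.1
  have hodd : Odd (Nat.card O) := Nat.coprime_two_right.1 (Cfsg.Lib.Components.coprime_card_pPrimeCore (G := X) 2)
  set t' := S.bar P hy hx t hy.tT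
  set a' := S.bar P hy hx a hy.aT
  set b' := S.bar P hy hx b hy.bT
  have hcab : Commute a' b' := Sy.tcomm _ Sy.aT _ Sy.bT
  have key : ∀ z ∈ O, Commute z t' → z = 1 := by
    intro z hz hzt
    have hzo : Odd (orderOf z) := hodd.of_dvd_nat (Subgroup.orderOf_dvd_natCard _ hz)
    have hzE := H.odd_mem_E hzo hzt
    have hbot : O ⊓ P.img E₀ = ⊥ := H.odd_normal inf_le_right
      (hodd.of_dvd_nat (card_dvd_of_le inf_le_left))
      (fun g hg w hw => ⟨hn.conj_mem w hw.1 g,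
        show g * w * g⁻¹ ∈ P.img E₀ from mul_mem (mul_mem hg (show w ∈ P.img E₀ from hw.2)) (inv_mem hg)⟩)
      Sy.aE Sy.ao Sy.bE Sy.bo Sy.ne hcab
    refine H.faith z hzE fun k hk => ?_
    have hm : z * k * z⁻¹ * k⁻¹ ∈ O ⊓ P.img E₀ := by
      refine ⟨?_, show z * k * z⁻¹ * k⁻¹ ∈ P.img E₀ from mul_mem (H.norm z hzE k hk) (inv_mem hk)⟩
      rw [show z * k * z⁻¹ * k⁻¹ = z * (k * z⁻¹ * k⁻¹) by group]
      exact mul_mem hz (hn.conj_mem _ (inv_mem hz) k)
    rw [hbot, mem_bot] at hm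
    exact mul_inv_eq_iff_eq_mul.1 (mul_inv_eq_one.1 hm)
  have hsq : ∀ {w : X}, w ∈ S.sylQ P hy hx → w ≠ 1 → orderOf w = 2 := by
    intro w hw hw1
    refine orderOf_eq_prime ?_ hw1
    rw [pow_two]
    have hv : ∀ v, (v = 1 ∨ v = a' ∨ v = b' ∨ v = a' * b') → v * v = 1 ∧ Commute t' v := by
      rintro v (rfl | rfl | rfl | rfl)
      · exact ⟨one_mul 1, Commute.one_right t'⟩
      · exact ⟨AbCentMax.aa H Sy, Sy.tcomm _ Sy.tT _ Sy.aT⟩
      · exact ⟨AbCentMax.bb H Sy, Sy.tcomm _ Sy.tT _ Sy.bT⟩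
      · exact ⟨by rw [hcab.symm.mul_mul_mul_comm, AbCentMax.aa H Sy, AbCentMax.bb H Sy, one_mul],
          (Sy.tcomm _ Sy.tT _ Sy.aT).mul_right (Sy.tcomm _ Sy.tT _ Sy.bT)⟩
    obtain ⟨v, hvc, rfl | rfl⟩ := Sy.cases w hw
    · exact (hv _ hvc).1
    · obtain ⟨h1, h2⟩ := hv _ hvc
      rw [h2.symm.mul_mul_mul_comm, h1, H.tt, one_mul]
  have hfix : ∀ z ∈ O, ∀ w : X, w ∈ S.sylQ P hy hx → w ≠ 1 → Commute z w → z = 1 := by
    intro z hz w hw hw1 hzw
    obtain ⟨g, hg⟩ := isConj_iff.1 (S.conj_quot P hy hx (hsq hw hw1))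
    have := key (g⁻¹ * z * g) (by simpa using hn.conj_mem z hz g⁻¹) (by
      rw [← hg] at hzw
      calc g⁻¹ * z * g * t' = g⁻¹ * (z * (g * t' * g⁻¹)) * g := by group
        _ = g⁻¹ * (g * t' * g⁻¹ * z) * g := by rw [hzw.eq]
        _ = t' * (g⁻¹ * z * g) := by group)
    calc z = g * (g⁻¹ * z * g) * g⁻¹ := by group
      _ = 1 := by rw [this]; group
  have ha1 : a' ≠ 1 := fun r => by have := Sy.ao; rw [r, orderOf_one] at this; omega
  have hb1 : b' ≠ 1 := fun r => by have := Sy.bo; rw [r, orderOf_one] at this; omega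
  refine eq_bot_iff.2 (odd_le_fixed hodd (AbCentMax.aa H Sy) (AbCentMax.bb H Sy) hcab
    (fun z hz => hn.conj_mem z hz a') (fun z hz => hn.conj_mem z hz b')
    (fun z hz => by rw [mem_bot.1 hz]; exact ⟨Commute.one_left _, Commute.one_left _⟩) fun z hz hc => mem_bot.2 ?_)
  rcases hc with hc | hc | hc
  · exact hfix z hz a' Sy.aT ha1 hc
  · exact hfix z hz b' Sy.bT hb1 hc
  · exact hfix z hz (a' * b') ((S.sylQ P hy hx : Subgroup X).mul_mem Sy.aT Sy.bT)
      (fun r => Sy.ne (by rw [eq_inv_of_mul_eq_one_left r, inv_eq_of_mul_eq_one_right (AbCentMax.bb H Sy)])) hc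

include P in
/-- The odd subgroups normalized by the centralizer of `x` are in `⟨x⟩`. -/
theorem Setting.core_le {K : Subgroup G} (hK : K ≤ centralizer ({x} : Set G))
    (hn : centralizer ({x} : Set G) ≤ normalizer (K : Set G)) (hodd : Odd (Nat.card K)) : K ≤ zpowers x := by
  haveI := P.finite
  haveI : (K.subgroupOf (centralizer ({x} : Set G))).Normal := normal_subgroupOf_of_le_normalizer hn
  haveI hn' : (P.img K).Normal := (inferInstance : (K.subgroupOf (centralizer ({x} : Set G))).Normal).map P.π P.surj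
  have hle : P.img K ≤ Cfsg.pPrimeCore 2 X := le_sSup ⟨hn', Nat.coprime_two_right.2 (hodd.of_dvd_nat
    ((card_map_dvd (K.subgroupOf (centralizer ({x} : Set G))) P.π).trans
      (Nat.card_congr (subgroupOfEquivOfLe hK).toEquiv).dvd))⟩
  rw [S.core_quot P hy hx] at hle
  intro k hk
  exact P.eq_one_iff.1 (mem_bot.1 (hle (P.mem_img.2 ⟨⟨k, hK hk⟩, hk, rfl⟩)))

/-- The hypotheses of the structure theorem. -/
theorem Setting.coreFree : haveI := P.finite; Walter.CoreFree (S.sylQ P hy hx) := by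
  haveI := P.finite
  refine ⟨S.abTwo_quot P hy hx, S.core_quot P hy hx, fun L hs hn => ?_, Cfsg.Lib.GW.fourGroupProp⟩
  haveI := hs
  exact Walter.walterProp ↥L hn ((S.abTwo_quot P hy hx).subgroup L)

end Cfsg.Lib.Ree.Twist
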