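import Cfsg.Agent.Ree.Transfer.LocalQuot
import Cfsg.Agent.Ree.Transfer.JOneIso
import Cfsg.Agent.Ree.Field.Spec
import Cfsg.Agent.Ree.Main
import Cfsg.Agent.S0448

/-!
The shape of `C(x)/⟨x⟩` by induction: a normal simple subgroup of Janko–Ree type over the fixed field, or
`q₁ = 3` and 7 or 63 involutions.
-/

set_option autoImplicit false
set_option linter.unusedSectionVars false
set_option linter.style.haveILetI false

namespace Cfsg.Lib.Ree.Twist

open Subgroup Cfsg.Lib.Components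
open scoped commutatorElement

universe u

/-- The involutions of a group with one class of them. -/
theorem count_conj {X : Type u} [Group X] [Finite X] {u : X} (hu : orderOf u = 2)
    (hall : ∀ s, orderOf s = 2 → IsConj u s) :
    Nat.card {s : X // orderOf s = 2} = (centralizer ({u} : Set X)).index := by
  rw [Subgroup.index_eq_card]
  refine (Nat.card_congr (Equiv.ofBijective (Quotient.lift (fun g : X =>
    (⟨g * u * g⁻¹, by rw [← MulAut.conj_apply, MulEquiv.orderOf_eq]; exact hu⟩ : {s : X // orderOf s = 2})) ?_)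
    ⟨?_, ?_⟩)).symm
  · intro g k hgk
    have hc := mem_centralizer_singleton_iff.1 (QuotientGroup.leftRel_apply.1 hgk)
    refine Subtype.ext ?_
    show g * u * g⁻¹ = k * u * k⁻¹
    calc g * u * g⁻¹ = g * (u * (g⁻¹ * k)) * k⁻¹ := by group
      _ = k * u * k⁻¹ := by rw [← hc]; group
  · intro v w
    induction v using Quotient.inductionOn with | h g => ?_
    induction w using Quotient.inductionOn with | h k => ?_
    intro e
    have e' : g * u * g⁻¹ = k * u * k⁻¹ := congrArg Subtype.val e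
    refine Quotient.sound (QuotientGroup.leftRel_apply.2 (mem_centralizer_singleton_iff.2 ?_))
    calc g⁻¹ * k * u = g⁻¹ * (k * u * k⁻¹) * k := by group
      _ = u * (g⁻¹ * k) := by rw [← e']; group
  · rintro ⟨s, hs⟩
    obtain ⟨g, hg⟩ := isConj_iff.1 (hall s hs)
    exact ⟨Quotient.mk'' g, Subtype.ext hg⟩

/-- The simple normal subgroup of the quotient. -/
structure MData {X : Type u} [Group X] [Finite X] (t' : X) (K' : Subgroup X) (L : Type) [Field L] [Fintype L]
    (M : Subgroup X) : Prop where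
  normal : M.Normal
  simple : IsSimpleGroup ↥M
  nab : ¬ IsMulCommutative ↥M
  ab : ∀ S : Sylow 2 ↥M, IsMulCommutative ↥(S : Subgroup ↥M)
  inv : ∀ u : X, orderOf u = 2 → u ∈ M
  le : K' ≤ M
  mem : t' ∈ M
  hyp : AbCentMax.Hyp (⟨t', mem⟩ : M) (K'.subgroupOf M) (K'.subgroupOf M) L

variable {G : Type u} [Group G] [Finite G] {x : G} {X : Type u} [Group X] [Finite X] (P : Proj x X) {t : G}
  {E E₀ : Subgroup G} {F : Type} [Field F] [Fintype F] (S : Setting t E E₀ F) {T : Sylow 2 G} {a b n : G}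
  (hy : AbCentMax.Sys t E₀ T a b n) (hx : x ∈ S.Phi hy)
include S hy hx

include P in
/-- The involutions commuting with `x` are counted in the quotient. -/
theorem Setting.count_quot : Field.invCount x = Nat.card {u : X // orderOf u = 2} := by
  have hxo := S.x_odd hy hx
  have hsC : ∀ s : {s : G // orderOf s = 2 ∧ Commute s x}, (s : G) ∈ centralizer ({x} : Set G) := fun s =>
    mem_centralizer_singleton_iff.2 s.2.2.eq
  have hsq : ∀ s : {s : G // orderOf s = 2 ∧ Commute s x}, (s : G) * s = 1 := fun s => by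
    have := pow_orderOf_eq_one (s : G)
    rwa [s.2.1, pow_two] at this
  have hone : ∀ s : centralizer ({x} : Set G), (s : G) * s = 1 → P.π s = 1 → (s : G) = 1 := fun s hs h =>
    Cfsg.Lib.Ree.eq_one_of_odd_sq (hxo.of_dvd_nat (orderOf_dvd_of_mem_zpowers (P.eq_one_iff.1 h))) hs
  refine Nat.card_congr (Equiv.ofBijective (fun s => (⟨P.π ⟨s, hsC s⟩, orderOf_eq_prime ?_ ?_⟩ :
    {u : X // orderOf u = 2})) ⟨?_, ?_⟩)
  · rw [pow_two, ← map_mul, show (⟨(s : G), hsC s⟩ : centralizer ({x} : Set G)) * ⟨(s : G), hsC s⟩ = 1 from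
      Subtype.ext (hsq s), map_one]
  · intro h
    have h1 := hone ⟨s, hsC s⟩ (hsq s) h
    have := s.2.1
    rw [show (s : G) = 1 from h1, orderOf_one] at this
    omega
  · intro s s' h
    have h' : P.π ⟨s, hsC s⟩ = P.π ⟨s', hsC s'⟩ := congrArg Subtype.val h
    have hc : Commute (s : G) s' := P.commute_lift hxo (h := ⟨s, hsC s⟩) (s := ⟨s', hsC s'⟩) (hsq s')
      (by rw [h'])
    have h1 := hone (⟨s, hsC s⟩ * ⟨s', hsC s'⟩) (by
      show (s : G) * s' * ((s : G) * s') = 1
      rw [hc.symm.mul_mul_mul_comm, hsq, hsq, one_mul]) (by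
      rw [map_mul, h', ← map_mul, show (⟨(s' : G), hsC s'⟩ : centralizer ({x} : Set G)) * ⟨(s' : G), hsC s'⟩ = 1 from
        Subtype.ext (hsq s'), map_one])
    refine Subtype.ext ?_
    have h2 : (s : G) = (s' : G)⁻¹ := eq_inv_of_mul_eq_one_left h1
    rw [h2, inv_eq_of_mul_eq_one_right (hsq s')]
  · rintro ⟨u, hu⟩
    obtain ⟨s, hs, hsu⟩ := P.lift_inv hxo (u := u) (by rw [← pow_two, ← hu, pow_orderOf_eq_one])
    have ho : orderOf (s : G) = 2 := orderOf_eq_prime (by rw [pow_two]; exact hs) fun e => by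
      rw [← hsu, show s = 1 from Subtype.ext e, map_one, orderOf_one] at hu
      omega
    exact ⟨⟨s, ho, mem_centralizer_singleton_iff.1 s.2⟩, Subtype.ext hsu⟩

theorem Setting.sq_sylQ {u : X} (hu : u ∈ S.sylQ P hy hx) : u * u = 1 := by
  obtain ⟨y, hyT, rfl⟩ := (S.mem_sylQ P hy hx).1 hu
  have hyy : y * y = 1 := by
    by_cases h1 : y = 1
    · rw [h1, one_mul]
    · obtain ⟨g, -, hg⟩ := S.trans hy hyT h1
      rw [← hg, _root_.conj_mul, S.tt]
      group
  rw [Setting.bar, ← map_mul, show (⟨y, S.mem_cent hy hx hyT⟩ : centralizer ({x} : Set G)) *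
    ⟨y, S.mem_cent hy hx hyT⟩ = 1 from Subtype.ext hyy, map_one]

theorem Setting.two_sylQ {u : X} (hu : u ∈ S.sylQ P hy hx) (h1 : u ≠ 1) : orderOf u = 2 :=
  orderOf_eq_prime (by rw [pow_two]; exact S.sq_sylQ P hy hx hu) h1

theorem Setting.card_sylQ : Nat.card (S.sylQ P hy hx : Subgroup X) = 8 := by
  obtain ⟨L, iL, iLt, hL, ⟨e⟩⟩ := S.fixed hy hx
  exact (AbCentMax.three_dvd (S.hyp_quot P hy hx hL e) (S.sys_quot P hy hx)).2

include P in
theorem Setting.card_lt (hx1 : x ≠ 1) : Nat.card X < Nat.card G := by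
  haveI := S.simple
  refine lt_of_le_of_lt (Nat.card_le_card_of_surjective _ P.surj) ?_
  by_contra h
  have htop : centralizer ({x} : Set G) = ⊤ := Subgroup.eq_top_of_le_card _ (not_lt.1 h)
  rcases IsSimpleGroup.eq_bot_or_eq_top_of_normal (center G) inferInstance with e | e
  · exact hx1 (mem_bot.1 (e ▸ mem_center_iff.2 fun g => mem_centralizer_singleton_iff.1 (htop ▸ mem_top g)))
  · exact S.nab ⟨⟨fun u v => (mem_center_iff.1 (e ▸ mem_top v) u)⟩⟩

/-- The structure of the quotient. -/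
theorem Setting.shape (hind : Field.NoFieldBelow.{u} (Nat.card G)) (hx1 : x ≠ 1) {L : Type} [Field L] [Fintype L]
    (hL : Fintype.card L ^ orderOf x = Fintype.card F)
    (e : ↥(E₀ ⊓ centralizer ({x} : Set G)) ≃* Matrix.ProjectiveSpecialLinearGroup (Fin 2) L) :
    (Fintype.card L = 3 ∧ (Field.invCount x = 7 ∨ Field.invCount x = 63)) ∨
      (5 ≤ Fintype.card L ∧ ∃ M, MData (S.bar P hy hx t hy.tT) (P.img E₀) L M) := by
  classical
  haveI : Fact (Nat.Prime 2) := ⟨Nat.prime_two⟩
  have H := S.hyp_quot P hy hx hL e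
  have Sy := S.sys_quot P hy hx
  have A := S.coreFree P hy hx
  have hconj := fun {u : X} (hu : orderOf u = 2) => S.conj_quot P hy hx hu
  have hcount := S.count_quot P hy hx
  set U : Sylow 2 X := S.sylQ P hy hx with hU
  set t' := S.bar P hy hx t hy.tT with ht'
  set K' := P.img E₀ with hK'
  have h8 : Nat.card (U : Subgroup X) = 8 := S.card_sylQ P hy hx
  have hno : ∀ z : X, z ∈ U → orderOf z ≠ 3 := fun z hz h => by
    have := S.sq_sylQ P hy hx hz
    have h2 : orderOf z ∣ 2 := orderOf_dvd_of_pow_eq_one (by rw [pow_two]; exact this)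
    rw [h] at h2; omega
  set n' := P.π ⟨n, S.n_mem_cent hy hx⟩ with hn'
  set a' := S.bar P hy hx a hy.aT with ha'
  have hn'o : orderOf n' = 3 := Sy.no
  have hK5 : 5 ≤ Fintype.card L → IsSimpleGroup ↥K' ∧ ⁅K', K'⁆ = K' := fun h5 => by
    haveI : IsSimpleGroup (Matrix.ProjectiveSpecialLinearGroup (Fin 2) L) :=
      Matrix.ProjectiveSpecialLinearGroup.rank_two_simple (by rw [Nat.card_eq_fintype_card]; omega)
    obtain ⟨f⟩ := H.iso
    haveI hsimp : IsSimpleGroup ↥K' := f.isSimpleGroup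
    have hnc : _root_.commutator ↥K' = ⊤ := by
      refine (IsSimpleGroup.eq_bot_or_eq_top_of_normal (_root_.commutator ↥K') inferInstance).resolve_left fun r => ?_
      have hc : (⟨a', Sy.aE⟩ : ↥K') * ⟨n', Sy.nE⟩ = ⟨n', Sy.nE⟩ * ⟨a', Sy.aE⟩ := by
        rw [← commutatorElement_eq_one_iff_mul_comm, ← mem_bot, ← r, _root_.commutator_def]
        exact commutator_mem_commutator (mem_top _) (mem_top _)
      have hc' : a' * n' = n' * a' := congrArg Subtype.val hc
      exact Sy.ne (by rw [← Sy.na, ← hc', mul_inv_cancel_right])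
    refine ⟨hsimp, ?_⟩
    rw [← map_subtype_commutator, hnc, ← MonoidHom.range_eq_map, Subgroup.range_subtype]
  have hq : Fintype.card L = 3 ∨ 5 ≤ Fintype.card L := by
    have := Nat.odd_iff.1 H.odd
    have := Fintype.one_lt_card (α := L)
    omega
  by_cases hcomp : ∃ C : Subgroup X, Cfsg.IsComponent C
  swap
  · -- the Sylow subgroup is normal
    have hlay : Cfsg.layer X = ⊥ := eq_bot_iff.2 (sSup_le fun C hC => absurd ⟨C, hC⟩ hcomp)
    have hUO : (U : Subgroup X) = Cfsg.pCore 2 X := by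
      refine le_antisymm ?_ (Walter.pCore_le A)
      have := Walter.sylow_le_genFit A
      rwa [hlay, bot_sup_eq] at this
    haveI hUn : (U : Subgroup X).Normal := hUO ▸ (pCore_normal_and_isPGroup 2).1
    rcases hq with h3 | h5
    · refine Or.inl ⟨h3, Or.inl ?_⟩
      rw [hcount]
      have he : Nat.card {u : X // orderOf u = 2} = Nat.card {u : (U : Subgroup X) // u ≠ 1} := by
        have hmem : ∀ u : X, orderOf u = 2 → u ∈ (U : Subgroup X) := fun u hu => by
          obtain ⟨g, hg⟩ := isConj_iff.1 (hconj hu)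
          exact hg ▸ hUn.conj_mem t' Sy.tT g
        exact Nat.card_congr
          { toFun := fun u => ⟨⟨u.1, hmem u u.2⟩, fun h => by
              have := u.2
              rw [show u.1 = 1 from congrArg Subtype.val h, orderOf_one] at this
              omega⟩
            invFun := fun u => ⟨u.1.1, S.two_sylQ P hy hx u.1.2 fun h => u.2 (Subtype.ext h)⟩
            left_inv := fun u => rfl
            right_inv := fun u => rfl }
      haveI := Fintype.ofFinite (U : Subgroup X)
      rw [he, Nat.card_eq_fintype_card, Fintype.card_subtype_compl, Fintype.card_subtype_eq,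
        ← Nat.card_eq_fintype_card, h8]
    · exfalso
      haveI := (hK5 h5).1
      haveI : ((U : Subgroup X).subgroupOf K').Normal := normal_subgroupOf_of_le_normalizer
        (fun g _ => by rw [normalizer_eq_top]; exact mem_top g)
      rcases IsSimpleGroup.eq_bot_or_eq_top_of_normal ((U : Subgroup X).subgroupOf K') inferInstance with r | r
      · have h1 : (⟨a', Sy.aE⟩ : ↥K') ∈ (U : Subgroup X).subgroupOf K' := Sy.aT
        rw [r, mem_bot] at h1
        have := Sy.ao
        rw [show a' = 1 from congrArg Subtype.val h1, orderOf_one] at this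
        omega
      · exact hno n' (show (⟨n', Sy.nE⟩ : ↥K') ∈ (U : Subgroup X).subgroupOf K' from r ▸ mem_top _) hn'o
  obtain ⟨C, hC⟩ := hcomp
  obtain ⟨hCs, hCn⟩ := Walter.comp_simple A hC
  haveI := hCs
  obtain ⟨hsplit1, hsplit2⟩ := Walter.comp_split A hC
  -- the Sylow subgroup lies in the component
  have hUc : (U : Subgroup X) ⊓ centralizer (C : Set X) = ⊥ := by
    refine eq_bot_iff.2 fun u hu => mem_bot.2 ?_
    by_contra hu1
    have h4 := Walter.card_inf A hC
    obtain ⟨⟨v, hv⟩, hv1⟩ : ∃ v : ↥((U : Subgroup X) ⊓ C), v ≠ 1 := by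
      haveI : Nontrivial ↥((U : Subgroup X) ⊓ C) := Finite.one_lt_card_iff_nontrivial.1 (by omega)
      exact exists_ne 1
    have hv2 := S.two_sylQ P hy hx hv.1 fun h => hv1 (Subtype.ext h)
    obtain ⟨g, hg⟩ := isConj_iff.1 ((hconj hv2).symm.trans (hconj (S.two_sylQ P hy hx hu.1 hu1)))
    set C' := C.map (MulAut.conj g).toMonoidHom with hC'
    have hC'c : Cfsg.IsComponent C' := comp_conj hC g
    have huC' : u ∈ C' := ⟨v, hv.2, hg⟩
    have hne : C' ≠ C := fun r => hu1 (mem_bot.1 ((Walter.comp_center A hC).le ⟨r ▸ huC', hu.2⟩))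
    have hle : C' ≤ centralizer (C : Set X) := commutator_eq_bot_iff_le_centralizer.1 (comp_commute hC'c hC hne)
    have h4' := Walter.card_inf A hC'c
    have hinj : Function.Injective (fun w : ↥((U : Subgroup X) ⊓ C') × ↥((U : Subgroup X) ⊓ C) =>
        (⟨(w.1 : X) * w.2, (U : Subgroup X).mul_mem w.1.2.1 w.2.2.1⟩ : (U : Subgroup X))) := by
      rintro ⟨p, q⟩ ⟨p', q'⟩ h
      have h' : (p : X) * q = p' * q' := congrArg Subtype.val h
      have h1 : (p' : X)⁻¹ * p = (q' : X) * (q : X)⁻¹ := by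
        rw [eq_mul_inv_iff_mul_eq, mul_assoc, h', inv_mul_cancel_left]
      have h2 : (q' : X) * (q : X)⁻¹ = 1 := mem_bot.1 ((Walter.comp_center A hC).le
        ⟨C.mul_mem q'.2.2 (C.inv_mem q.2.2), h1 ▸ hle (C'.mul_mem (C'.inv_mem p'.2.2) p.2.2)⟩)
      rw [h2, inv_mul_eq_one] at h1
      rw [mul_inv_eq_one] at h2
      exact Prod.ext (Subtype.ext h1.symm) (Subtype.ext h2.symm)
    have := Nat.card_le_card_of_injective _ hinj
    rw [Nat.card_prod, h8] at this
    nlinarith
  have hUC : (U : Subgroup X) ≤ C := by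
    rw [hUc, bot_sup_eq] at hsplit2
    exact hsplit2.ge.trans inf_le_right
  haveI hCnorm : C.Normal := by
    refine ⟨fun c hc g => ?_⟩
    by_contra hgc
    have hne : C.map (MulAut.conj g).toMonoidHom ≠ C := fun r => hgc (r ▸ ⟨c, hc, rfl⟩)
    have h4 := Walter.card_inf A (comp_conj hC g)
    have hle : C.map (MulAut.conj g).toMonoidHom ≤ centralizer (C : Set X) :=
      commutator_eq_bot_iff_le_centralizer.1 (comp_commute (comp_conj hC g) hC hne)
    rw [eq_bot_iff.2 ((inf_le_inf_left _ hle).trans hUc.le), card_bot] at h4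
    omega
  have hinv : ∀ u : X, orderOf u = 2 → u ∈ C := fun u hu => by
    obtain ⟨g, hg⟩ := isConj_iff.1 (hconj hu)
    exact hg ▸ hCnorm.conj_mem t' (hUC Sy.tT) g
  have hcountC : Field.invCount x = Nat.card {u : ↥C // orderOf u = 2} := by
    rw [hcount]
    exact Nat.card_congr
      { toFun := fun u => ⟨⟨u.1, hinv u u.2⟩, (Subgroup.orderOf_mk _ _).trans u.2⟩
        invFun := fun u => ⟨u.1.1, (Subgroup.orderOf_coe u.1).trans u.2⟩
        left_inv := fun u => rfl
        right_inv := fun u => rfl }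
  have hKC : 5 ≤ Fintype.card L → K' ≤ C := fun h5 => by
    have hodd : Odd C.index := Nat.not_even_iff_odd.1 fun he =>
      U.not_dvd_index (he.two_dvd.trans (index_dvd_of_le hUC))
    haveI : Group.IsSolvable (X ⧸ C) := Cfsg.Agent.PF.isSolvable_of_odd _ (by rw [← index_eq_card]; exact hodd)
    by_contra hcon
    have hne : K'.map (QuotientGroup.mk' C) ≠ ⊥ := fun r => hcon fun k hk => by
      have hm : QuotientGroup.mk' C k ∈ K'.map (QuotientGroup.mk' C) := mem_map_of_mem _ hk
      rw [r, mem_bot, QuotientGroup.mk'_apply, QuotientGroup.eq_one_iff] at hm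
      exact hm
    have h2 := Group.IsSolvable.commutator_lt_of_ne_bot hne
    rw [← map_commutator, (hK5 h5).2] at h2
    exact lt_irrefl _ h2
  obtain ⟨R, hR⟩ := Walter.sylow_comp A hC
  have hR8 : Nat.card (R : Subgroup ↥C) = 8 := by
    rw [hR, Nat.card_congr (subgroupOfEquivOfLe hUC).toEquiv, h8]
  set tC : ↥C := ⟨t', hUC Sy.tT⟩ with htC
  have htCo : orderOf tC = 2 := (Subgroup.orderOf_mk _ _).trans H.ord
  have htR : tC ∈ R := by
    show tC ∈ (R : Subgroup ↥C)
    rw [hR]; exact Sy.tT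
  rcases Walter.comp_typed A hC with hb | ⟨F', iF', iFt', h8', h5', ⟨f⟩⟩ | hJ
  · -- `PSL(2, 8)`
    obtain ⟨-, hsq, ⟨r, hrN, hr1, hr2⟩, hcent, -⟩ := Walter.binary_facts hb R
    obtain ⟨F', iF', iFt', ⟨m, hm, hF'⟩, ⟨f⟩⟩ := hb
    have hcard : Nat.card ↥C = 2 ^ m * ((2 ^ m) ^ 2 - 1) := by
      have h := Cfsg.Lib.Classical.SmallPSL.card_psl hF'
      rw [show Nat.gcd 2 (2 ^ m - 1) = 1 from (Nat.prime_two.coprime_iff_not_dvd).2 (by
        have : 2 ∣ 2 ^ m := dvd_pow_self 2 (by omega)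
        have : 1 ≤ 2 ^ m := Nat.one_le_two_pow
        omega), one_mul] at h
      rw [Nat.card_congr f.toEquiv, h]
    have hm3 : m = 3 := by
      have h1 : 2 ^ m ∣ Nat.card (R : Subgroup ↥C) :=
        R.pow_dvd_card_of_pow_dvd_card (hcard ▸ dvd_mul_right _ _)
      rw [hR8] at h1
      have h2 : 8 ∣ Nat.card ↥C := hR8 ▸ card_subgroup_dvd_card _
      have hle : m ≤ 3 := by
        by_contra hlt
        have := Nat.le_of_dvd (by norm_num) h1
        have : 2 ^ 4 ≤ 2 ^ m := Nat.pow_le_pow_right two_pos (by omega)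
        omega
      rw [hcard] at h2
      interval_cases m
      · norm_num at h2
      · rfl
    rw [hm3] at hcard
    norm_num at hcard
    rcases hq with h3 | h5
    · refine Or.inl ⟨h3, Or.inr ?_⟩
      have htC1 : tC ≠ 1 := fun h => by rw [h, orderOf_one] at htCo; omega
      have horb : ∀ y ∈ R, y ≠ 1 → IsConj tC y := by
        intro y hyR hy1
        have hinj : Function.Injective (fun k : Fin 7 => (⟨⟨r ^ (k : ℕ) * tC * (r ^ (k : ℕ))⁻¹,
            (mem_normalizer_iff.1 ((normalizer (R : Set ↥C)).pow_mem hrN k) tC).1 htR⟩, fun h =>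
            htC1 (conj_eq_one_iff.1 (congrArg Subtype.val h))⟩ : {v : (R : Subgroup ↥C) // v ≠ 1})) := by
          have key : ∀ i j : ℕ, i ≤ j → j < 7 →
              r ^ i * tC * (r ^ i)⁻¹ = r ^ j * tC * (r ^ j)⁻¹ → i = j := by
            intro i j hij hj he
            by_contra hne
            refine htC1 (hr2 (j - i) (by rw [hR8]; omega) tC htR ?_)
            have e1 : r ^ j = r ^ i * r ^ (j - i) := by rw [← pow_add]; congr 1; omega
            rw [e1, show r ^ i * r ^ (j - i) * tC * (r ^ i * r ^ (j - i))⁻¹ =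
              r ^ i * (r ^ (j - i) * tC * (r ^ (j - i))⁻¹) * (r ^ i)⁻¹ by group] at he
            exact (mul_left_cancel (mul_right_cancel he)).symm
          intro i j he
          have he' := congrArg (fun v : {v : (R : Subgroup ↥C) // v ≠ 1} => ((v : (R : Subgroup ↥C)) : ↥C)) he
          rcases le_total (i : ℕ) j with h | h
          · exact Fin.ext (key i j h j.2 he')
          · exact Fin.ext (key j i h i.2 he'.symm).symm
        have hbij := (Nat.bijective_iff_injective_and_card _).2 ⟨hinj, by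
          haveI := Fintype.ofFinite (R : Subgroup ↥C)
          rw [Nat.card_eq_fintype_card, Fintype.card_fin, Nat.card_eq_fintype_card, Fintype.card_subtype_compl,
            Fintype.card_subtype_eq, ← Nat.card_eq_fintype_card, hR8]⟩
        obtain ⟨k, hk⟩ := hbij.2 ⟨⟨y, hyR⟩, fun h => hy1 (congrArg Subtype.val h)⟩
        exact isConj_iff.2 ⟨r ^ (k : ℕ), congrArg
          (fun v : {v : (R : Subgroup ↥C) // v ≠ 1} => ((v : (R : Subgroup ↥C)) : ↥C)) hk⟩
      have hall : ∀ s : ↥C, orderOf s = 2 → IsConj tC s := by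
        intro s hs
        obtain ⟨Q, hQ⟩ := (IsPGroup.of_card (G := zpowers s) (p := 2) (n := 1)
          (by rw [Nat.card_zpowers, hs, pow_one])).exists_le_sylow
        obtain ⟨g, hg⟩ := MulAction.exists_smul_eq ↥C Q R
        have hsR : g * s * g⁻¹ ∈ R := hg ▸ ⟨s, hQ (mem_zpowers s), rfl⟩
        refine (horb _ hsR fun h => ?_).trans (isConj_iff.2 ⟨g, rfl⟩ : IsConj s (g * s * g⁻¹)).symm
        rw [conj_eq_one_iff.1 h, orderOf_one] at hs
        omega
      rw [hcountC, count_conj htCo hall]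
      have h1 := (centralizer ({tC} : Set ↥C)).card_mul_index
      rw [hcent tC htR htC1, hR8, hcard] at h1
      rw [hcent tC htR htC1]
      omega
    · exfalso
      have hn'C : n' ∈ C := hKC h5 Sy.nE
      have hcn : (⟨n', hn'C⟩ : ↥C) ∈ centralizer ({tC} : Set ↥C) :=
        mem_centralizer_singleton_iff.2 (Subtype.ext (H.comm n' (H.le Sy.nE)).symm.eq)
      rw [hcent tC htR (fun h => by rw [h, orderOf_one] at htCo; omega)] at hcn
      have hm : (⟨n', hn'C⟩ : ↥C) ∈ (U : Subgroup X).subgroupOf C := hR ▸ hcn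
      exact hno n' hm hn'o
  · exfalso
    have h4 : Nat.card ↥(R : Subgroup ↥C) = 4 := by
      haveI hk := Cfsg.Agent.S0276.result rfl h8' (R.mapSurjective (f := f.toMonoidHom) f.surjective)
      rw [← hk.card_four]
      exact (card_map_of_injective (f := f.toMonoidHom) f.injective (K := (R : Subgroup ↥C))).symm
    omega
  -- Janko–Ree type
  have hab := A.ab.subgroup C
  obtain ⟨F', iF', iFt', h5', hm', hall⟩ := Walter.jr_hyp hCn hab hJ
  obtain ⟨E', E₀', T', a', b', n'', hH', hS', -⟩ := hall tC htCo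
  have hE' : E' = E₀' := hind ↥C tC E' E₀' F'
    (lt_of_le_of_lt (card_le_card_group C) (S.card_lt P hy hx hx1))
    ⟨hCs, hCn, hab, hJ.1, hH', h5', hm'⟩
  rw [hE'] at hH'
  clear hE'
  haveI : IsSimpleGroup (Matrix.ProjectiveSpecialLinearGroup (Fin 2) F') :=
    Matrix.ProjectiveSpecialLinearGroup.rank_two_simple (by rw [Nat.card_eq_fintype_card]; omega)
  obtain ⟨f'⟩ := hH'.iso
  haveI : IsSimpleGroup ↥E₀' := f'.isSimpleGroup
  have hperf : ⁅E₀', E₀'⁆ = E₀' := by
    have hnc : _root_.commutator ↥E₀' = ⊤ := by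
      refine (IsSimpleGroup.eq_bot_or_eq_top_of_normal (_root_.commutator ↥E₀') inferInstance).resolve_left fun r => ?_
      have hc : (⟨a', hS'.aE⟩ : ↥E₀') * ⟨n'', hS'.nE⟩ = ⟨n'', hS'.nE⟩ * ⟨a', hS'.aE⟩ := by
        rw [← commutatorElement_eq_one_iff_mul_comm, ← mem_bot, ← r, _root_.commutator_def]
        exact commutator_mem_commutator (mem_top _) (mem_top _)
      have hc' : a' * n'' = n'' * a' := congrArg Subtype.val hc
      exact hS'.ne (by rw [← hS'.na, ← hc', mul_inv_cancel_right])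
    rw [← map_subtype_commutator, hnc, ← MonoidHom.range_eq_map, Subgroup.range_subtype]
  have hle1 : E₀'.map C.subtype ≤ K' := by
    refine (Walter.jr_local H Sy).2 _ ?_ (by rw [← map_commutator, hperf])
    rintro _ ⟨c, hc, rfl⟩
    exact mem_centralizer_singleton_iff.2 (congrArg Subtype.val (hH'.comm c hc).symm.eq)
  have hq5 : 5 ≤ Fintype.card L := by
    rcases hq with h3 | h5
    · exfalso
      obtain ⟨fK⟩ := H.iso
      have h12 := Cfsg.Lib.PSLTwoDihedral.card_P (F := L) (Nat.odd_iff.1 H.odd)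
      have hbig := Cfsg.Lib.PSLTwoDihedral.card_P (F := F') (Nat.odd_iff.1 hH'.odd)
      rw [← Nat.card_congr fK.toEquiv, h3] at h12
      rw [← Nat.card_congr f'.toEquiv] at hbig
      have := Nat.le_of_dvd Nat.card_pos (card_dvd_of_le hle1)
      rw [card_map_of_injective C.subtype_injective] at this
      have : 5 * (5 ^ 2 - 1) ≤ Fintype.card F' * (Fintype.card F' ^ 2 - 1) :=
        Nat.mul_le_mul h5' (Nat.sub_le_sub_right (Nat.pow_le_pow_left h5' 2) 1)
      omega
    · exact h5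
  have hle2 : K'.subgroupOf C ≤ E₀' := by
    refine (Walter.jr_local hH' hS').2 _ (fun k hk => ?_) ?_
    · exact mem_centralizer_singleton_iff.2 (Subtype.ext (H.comm (k : X) (H.le hk)).symm.eq)
    · refine map_injective C.subtype_injective ?_
      rw [map_commutator, map_subgroupOf_eq_of_le (hKC hq5), (hK5 hq5).2]
  have hKE : K'.subgroupOf C = E₀' := le_antisymm hle2 fun c hc => hle1 ⟨c, hc, rfl⟩
  obtain ⟨fK⟩ := H.iso
  have hcL : Fintype.card F' = Fintype.card L := card_eq_of_psl hH'.odd H.odd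
    ((MulEquiv.subgroupCongr hKE.symm).trans (subgroupOfEquivOfLe (hKC hq5))) f' fK
  refine Or.inr ⟨hq5, C, ⟨hCnorm, hCs, hCn, Walter.sylow_two_comm hab, hinv, hKC hq5, hUC Sy.tT, ?_⟩⟩
  rw [hKE]
  exact ⟨hH'.ord, hH'.comm, hH'.split, hH'.disj, le_rfl, hH'.norm, hH'.faith, H.odd,
    ⟨(MulEquiv.subgroupCongr hKE.symm).trans ((subgroupOfEquivOfLe (hKC hq5)).trans fK)⟩⟩

omit hx in
/-- The number of involutions in the Janko–Ree case. -/
theorem MData.count {t' : X} {K' : Subgroup X} {L : Type} [Field L] [Fintype L] {M : Subgroup X}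
    (D : MData t' K' L M) (hmod : Fintype.card L % 8 = 3 ∨ Fintype.card L % 8 = 5) (h5 : 5 ≤ Fintype.card L) :
    (Fintype.card L = 5 ∧ Nat.card ↥M = 175560 ∧ Nat.card {u : X // orderOf u = 2} = 1463) ∨
      (Ree.Setting (⟨t', D.mem⟩ : M) (K'.subgroupOf M) L ∧ ∃ m : ℕ, 1 ≤ m ∧ Fintype.card L = 3 ^ (2 * m + 1) ∧
        Nat.card {u : X // orderOf u = 2} =
          Fintype.card L ^ 2 * (Fintype.card L ^ 2 - Fintype.card L + 1)) := by
  haveI := D.simple
  have St : Setting (⟨t', D.mem⟩ : M) (K'.subgroupOf M) (K'.subgroupOf M) L :=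
    ⟨D.simple, D.nab, D.ab, D.hyp, hmod, h5⟩
  obtain ⟨f⟩ := D.hyp.iso
  have hP := Cfsg.Lib.PSLTwoDihedral.card_P (F := L) (Nat.odd_iff.1 D.hyp.odd)
  have hC := St.card_C
  rw [← Nat.card_congr f.toEquiv] at hP
  have hi : Nat.card {u : X // orderOf u = 2} = (centralizer ({(⟨t', D.mem⟩ : M)} : Set ↥M)).index := by
    rw [← count_conj D.hyp.ord fun s hs => St.conj_all hs]
    exact Nat.card_congr
      { toFun := fun u => ⟨⟨u.1, D.inv u u.2⟩, (Subgroup.orderOf_mk _ _).trans u.2⟩
        invFun := fun u => ⟨u.1.1, (Subgroup.orderOf_coe u.1).trans u.2⟩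
        left_inv := fun u => rfl
        right_inv := fun u => rfl }
  have hmul := (centralizer ({(⟨t', D.mem⟩ : M)} : Set ↥M)).card_mul_index
  rw [hC, hP, ← hi] at hmul
  by_cases h5' : Fintype.card L = 5
  · obtain ⟨e⟩ := Transfer.jone_iso D.hyp h5'
    obtain ⟨-, T', hT', -⟩ := St.exists_klein
    have htc : Cfsg.IsTwoCentralInvolution (⟨t', D.mem⟩ : M) := ⟨D.hyp.ord, T', hT', fun u hu =>
      congrArg Subtype.val ((D.ab T').is_comm.comm ⟨u, hu⟩ ⟨_, hT'⟩)⟩
    have hM : Nat.card ↥M = 175560 := (Cfsg.Agent.S0448.result _ htc e).2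
    refine Or.inl ⟨h5', hM, ?_⟩
    rw [hM, h5'] at hmul
    omega
  · have RS : Ree.Setting (⟨t', D.mem⟩ : M) (K'.subgroupOf M) L :=
      ⟨D.simple, D.nab, D.ab, D.hyp, hmod, by omega⟩
    obtain ⟨m, hm, hF, hM⟩ := RS.order_eq
    refine Or.inr ⟨RS, m, hm, hF, ?_⟩
    rw [hM, hF] at hmul
    rw [hF]
    generalize hQ : 3 ^ (2 * m + 1) = Q at hmul ⊢
    have h27 : 27 ≤ Q := hQ ▸ (show 27 = 3 ^ 3 by norm_num) ▸ Nat.pow_le_pow_right (by norm_num) (by omega)
    have h1 : 1 ≤ Q ^ 2 := Nat.one_le_pow _ _ (by omega)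
    have h2 : Q ≤ Q ^ 2 := Nat.le_self_pow (by norm_num) Q
    have key : Q ^ 3 * (Q ^ 3 + 1) * (Q - 1) = Q * (Q ^ 2 - 1) * (Q ^ 2 * (Q ^ 2 - Q + 1)) := by
      have h3 : 1 ≤ Q := by omega
      zify [h1, h2, h3]
      ring
    rw [key] at hmul
    exact Nat.eq_of_mul_eq_mul_left (by
      refine Nat.mul_pos (by omega) ?_
      have : 27 ^ 2 ≤ Q ^ 2 := Nat.pow_le_pow_left h27 2
      omega) hmul

end Cfsg.Lib.Ree.Twist
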