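import Cfsg.Agent.Ree.Transfer.Conj
import Cfsg.Agent.LocalThree.McLLocal.WeakTransfer

/-!
The transfer lemma: an element `φ` of order `r` with `N⟨φ⟩ = C(φ)`, centralizer with Sylow `r`-subgroup `⟨φ, y⟩`
and an element of `C(φ)` of weight `b`, `b² ≠ 1`, on `y`, does not exist in a nonabelian simple group.
-/

set_option autoImplicit false
set_option linter.unusedSectionVars false

namespace Cfsg.Lib.Ree.Transfer

open Subgroup
open scoped Pointwise

universe u

variable {G : Type u} [Group G] [Finite G] {r : ℕ} [hr : Fact r.Prime] {φ y : G}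

/-- `φ` in a Sylow subgroup above `R`: its conjugates there are conjugate in the normalizer. -/
theorem Pair.fusion (h : Pair r φ y) (P : Sylow r G) (hR : rSub φ y ≤ (P : Subgroup G)) (g : G)
    (hg : g * φ * g⁻¹ ∈ (P : Subgroup G)) :
    ∃ n ∈ normalizer ((P : Subgroup G) : Set G), n * φ * n⁻¹ = g * φ * g⁻¹ := by
  classical
  set C := centralizer ({φ} : Set G) with hC
  set v : G := g * φ * g⁻¹ with hv
  set D : Subgroup G := (P : Subgroup G) ⊓ centralizer ({v} : Set G) with hD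
  have hDp : IsPGroup r D := P.2.to_le inf_le_left
  have hvo : orderOf v = r := by
    rw [hv, show g * φ * g⁻¹ = (MulAut.conj g).toMonoidHom φ from rfl,
      orderOf_injective (MulAut.conj g).toMonoidHom (MulAut.conj g).injective, h.φo]
  have hPp : IsPGroup r (P : Subgroup G) := P.2
  -- the centralizer of the conjugate in `P` is large
  have hDge : r ^ 2 ≤ Nat.card D := by
    obtain ⟨n, hn⟩ := hDp.exists_card_eq
    rw [hn]
    refine Nat.pow_le_pow_right hr.out.pos ?_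
    by_contra hc
    have hvD : v ∈ D := ⟨hg, mem_centralizer_singleton_iff.2 rfl⟩
    have heq : zpowers v = D := Subgroup.eq_of_le_of_card_ge (zpowers_le.2 hvD) (by
      rw [Nat.card_zpowers, hvo, hn]
      calc r ^ n ≤ r ^ 1 := Nat.pow_le_pow_right hr.out.pos (by omega)
        _ = r := pow_one r)
    haveI : Nontrivial (P : Subgroup G) := ⟨⟨⟨φ, hR φ_mem⟩, 1, fun e => by
      have ho := h.φo
      rw [show φ = 1 from congrArg Subtype.val e, orderOf_one] at ho
      exact hr.out.ne_one ho.symm⟩⟩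
    obtain ⟨⟨z, hz⟩, hzc, hz1⟩ := (Subgroup.nontrivial_iff_exists_ne_one _).1 hPp.center_nontrivial
    have hzcomm : ∀ p ∈ (P : Subgroup G), p * z = z * p := fun p hp =>
      congrArg Subtype.val (Subgroup.mem_center_iff.1 hzc ⟨p, hp⟩)
    have hz1' : z ≠ 1 := fun e => hz1 (Subtype.ext e)
    have hzD : z ∈ zpowers v := heq ▸ ⟨hz, mem_centralizer_singleton_iff.2 (hzcomm v hg).symm⟩
    have hvz : v ∈ zpowers z := by
      obtain ⟨i, hi⟩ := mem_powers_iff_mem_zpowers.2 hzD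
      have hzo : orderOf z = r := by
        rcases (Nat.dvd_prime hr.out).1 (hvo ▸ orderOf_dvd_of_mem_zpowers hzD) with e | e
        · exact absurd (orderOf_eq_one_iff.1 e) hz1'
        · exact e
      have : zpowers z = zpowers v := Subgroup.eq_of_le_of_card_ge (zpowers_le.2 hzD) (by
        rw [Nat.card_zpowers, Nat.card_zpowers, hzo, hvo])
      exact this ▸ mem_zpowers v
    have hDP : (P : Subgroup G) ≤ D := fun p hp => ⟨hp, mem_centralizer_singleton_iff.2 (by
      obtain ⟨i, hi⟩ := hvz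
      rw [← hi]
      exact ((show Commute p z from hzcomm p hp).zpow_right i).eq)⟩
    have h2 := Subgroup.card_le_of_le (hR.trans hDP)
    rw [h.rSub_card, hn] at h2
    have := (Nat.pow_le_pow_iff_right hr.out.one_lt).1 h2
    omega
  -- carry it to `C(φ)`
  set D' : Subgroup G := D.map (MulAut.conj g⁻¹).toMonoidHom with hD'
  have hD'C : D' ≤ C := by
    rintro _ ⟨d, hd, rfl⟩
    refine mem_centralizer_singleton_iff.2 ?_
    have := mem_centralizer_singleton_iff.1 hd.2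
    show g⁻¹ * d * g⁻¹⁻¹ * φ = φ * (g⁻¹ * d * g⁻¹⁻¹)
    rw [show g⁻¹ * d * g⁻¹⁻¹ * φ = g⁻¹ * (d * v) * g by rw [hv]; group, this, hv]
    group
  have hD'p : IsPGroup r D' := hDp.map _
  obtain ⟨S, hS⟩ := (hD'p.comap_of_injective C.subtype C.subtype_injective).exists_le_sylow
  obtain ⟨S₀, hS₀⟩ := (h.rSub_p.comap_of_injective C.subtype C.subtype_injective).exists_le_sylow
  have hScard : ∀ T : Sylow r C, Nat.card (T : Subgroup C) ≤ r ^ 2 := fun T => by
    obtain ⟨n, hn⟩ := T.2.exists_card_eq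
    rw [hn]
    refine Nat.pow_le_pow_right hr.out.pos ?_
    by_contra hc
    exact h.small ((pow_dvd_pow r (show 3 ≤ n by omega)).trans (hn ▸ card_subgroup_dvd_card _))
  have hS0eq : (rSub φ y).comap C.subtype = (S₀ : Subgroup C) := Subgroup.eq_of_le_of_card_ge hS₀ (by
    refine (hScard S₀).trans (le_of_eq ?_)
    rw [← h.rSub_card]
    exact (Nat.card_congr (Subgroup.subgroupOfEquivOfLe h.rSub_le).toEquiv).symm)
  have hSeq : D'.comap C.subtype = (S : Subgroup C) := Subgroup.eq_of_le_of_card_ge hS (by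
    refine (hScard S).trans (le_trans hDge (le_of_eq ?_))
    rw [← card_map_of_injective (f := (MulAut.conj g⁻¹).toMonoidHom) (MulAut.conj g⁻¹).injective (K := D)]
    exact (Nat.card_congr (Subgroup.subgroupOfEquivOfLe hD'C).toEquiv).symm)
  obtain ⟨k, hk⟩ := MulAction.exists_smul_eq C S S₀
  set m : G := (k : G) * g⁻¹ with hm
  have hR' : rSub φ y ≤ ((m • P : Sylow r G) : Subgroup G) := by
    intro x hx
    have hxS : (⟨x, h.rSub_le hx⟩ : C) ∈ (S₀ : Subgroup C) := hS0eq ▸ hx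
    rw [← hk] at hxS
    have hxS' : k⁻¹ * ⟨x, h.rSub_le hx⟩ * k ∈ (S : Subgroup C) := by
      refine (Cfsg.Lib.Transfer.mem_conj_sylow_iff (g := k)).1 ?_
      convert hxS using 1
      group
    rw [← hSeq] at hxS'
    obtain ⟨d, hd, hde⟩ := hxS'
    have e : x = m * d * m⁻¹ := by
      have : g⁻¹ * d * g⁻¹⁻¹ = (k : G)⁻¹ * x * k := hde
      rw [hm, show (k : G) * g⁻¹ * d * ((k : G) * g⁻¹)⁻¹ = (k : G) * (g⁻¹ * d * g⁻¹⁻¹) * (k : G)⁻¹ by group, this]
      group
    rw [e]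
    exact Cfsg.Lib.Transfer.mem_conj_sylow_iff.2 hd.1
  obtain ⟨z, hz, hzP⟩ := h.sylow_conj (m • P) P hR' hR
  refine ⟨(z * m)⁻¹, inv_mem (Sylow.smul_eq_iff_mem_normalizer.1 (by rw [mul_smul, hzP])), ?_⟩
  have hzφ : z⁻¹ * φ * z = φ := by
    rw [mul_assoc, mem_centralizer_iff.1 hz φ φ_mem, inv_mul_cancel_left]
  have hkφ : (k : G)⁻¹ * φ * k = φ := by
    rw [mul_assoc, ← mem_centralizer_singleton_iff.1 k.2, inv_mul_cancel_left]
  rw [hm, hv, show (z * ((k : G) * g⁻¹))⁻¹ * φ * (z * ((k : G) * g⁻¹))⁻¹⁻¹ =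
    g * ((k : G)⁻¹ * (z⁻¹ * φ * z) * k) * g⁻¹ by group, hzφ, hkφ]

/-- In the normalizer of a Sylow subgroup above `R` the conjugates of `φ` keep its coordinates. -/
theorem Pair.normalizer_vec (h : Pair r φ y) {c : G} (hc : Commute c φ) {b : ℕ} (hcy : c * y * c⁻¹ = y ^ b)
    (hb : (b : ZMod r) ^ 2 ≠ 1) (P : Sylow r G) (hR : rSub φ y ≤ (P : Subgroup G))
    (ch : Chart r φ (P : Subgroup G)) (n : normalizer ((P : Subgroup G) : Set G)) :
    ch.vec (Chart.conjX n ⟨φ, ch.mem⟩) = Pi.single 0 1 := by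
  classical
  let N := normalizer ((P : Subgroup G) : Set G)
  have hcR : rSub φ y ≤ ((c • P : Sylow r G) : Subgroup G) := by
    have hcc : (c⁻¹ * φ * c) = φ := by rw [mul_assoc, ← hc.eq, inv_mul_cancel_left]
    refine sup_le (zpowers_le.2 ?_) (zpowers_le.2 ?_)
    · have := (Cfsg.Lib.Transfer.mem_conj_sylow_iff (g := c) (P := P)).2 (hR (φ_mem (y := y)))
      rwa [hc.eq, mul_inv_cancel_right] at this
    · have hym : y ^ b ∈ ((c • P : Sylow r G) : Subgroup G) :=
        hcy ▸ Cfsg.Lib.Transfer.mem_conj_sylow_iff.2 (hR y_mem)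
      have hyo : y ^ r = 1 := by rw [← h.yo, pow_orderOf_eq_one]
      have hbr : b.Coprime r := by
        refine Nat.Coprime.symm ((Nat.Prime.coprime_iff_not_dvd hr.out).2 fun hd => ?_)
        obtain ⟨j, rfl⟩ := hd
        rw [pow_mul, hyo, one_pow, conj_eq_one_iff] at hcy
        have ho := h.yo
        rw [hcy, orderOf_one] at ho
        exact hr.out.ne_one ho.symm
      obtain ⟨l, hl⟩ := exists_pow_eq_self_of_coprime (h.yo.symm ▸ hbr : b.Coprime (orderOf y))
      exact hl ▸ pow_mem hym l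
  obtain ⟨z, hz, hzP⟩ := h.sylow_conj (c • P) P hcR hR
  set w : G := z * c with hw
  have hwN : w ∈ N := Sylow.smul_eq_iff_mem_normalizer.1 (by rw [hw, mul_smul, hzP])
  have hzy : z * y * z⁻¹ = y := by rw [← mem_centralizer_iff.1 hz y y_mem, mul_inv_cancel_right]
  have hzφ : z * φ * z⁻¹ = φ := by rw [← mem_centralizer_iff.1 hz φ φ_mem, mul_inv_cancel_right]
  have hwφ : w * φ * w⁻¹ = φ := by
    rw [hw, show z * c * φ * (z * c)⁻¹ = z * (c * φ * c⁻¹) * z⁻¹ by group, hc.eq, mul_inv_cancel_right, hzφ]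
  have hwy : w * y * w⁻¹ = y ^ b := by
    rw [hw, show z * c * y * (z * c)⁻¹ = z * (c * y * c⁻¹) * z⁻¹ by group, hcy, ← conj_pow, hzy]
  set wn : N := ⟨w, hwN⟩
  have hwcol : Chart.conjX wn ⟨φ, ch.mem⟩ = (⟨φ, ch.mem⟩ : (P : Subgroup G)) := Subtype.ext hwφ
  have w00 : ch.rho wn 0 0 = 1 := by rw [← ch.rho_col, hwcol, ch.vec_φ]; simp
  have w10 : ch.rho wn 1 0 = 0 := by rw [← ch.rho_col, hwcol, ch.vec_φ]; simp
  have w11 : ch.rho wn 1 1 ^ 2 ≠ 1 := by
    intro e
    have hu : Unip (ch.rho (wn * wn)) := by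
      refine (unip_iff _).2 ⟨?_, ?_⟩
      · rw [map_mul, Matrix.det_mul, Matrix.det_fin_two, w00, w10]
        linear_combination e
      · rw [map_mul, Matrix.trace_fin_two]
        simp only [Matrix.mul_apply, Fin.sum_univ_two, w00, w10]
        linear_combination e
    obtain ⟨m, hm⟩ := h.pow_centralizes P.2 hR ch hu
    have hpow : ∀ i : ℕ, w ^ i * y * (w ^ i)⁻¹ = y ^ b ^ i := by
      intro i
      induction i with
      | zero => simp
      | succ i ih =>
        rw [pow_succ', show w * w ^ i * y * (w * w ^ i)⁻¹ = w * (w ^ i * y * (w ^ i)⁻¹) * w⁻¹ by group, ih,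
          ← conj_pow, hwy, ← pow_mul, pow_succ']
    have hfix : y ^ b ^ (2 * r ^ m) = y := by
      rw [← hpow, pow_mul, pow_two]
      have := mem_centralizer_iff.1 hm y (hR y_mem)
      rw [show ((wn * wn : N) : G) = w * w from rfl] at this
      rw [← this, mul_inv_cancel_right]
    have hz1 : ((b ^ (2 * r ^ m) : ℕ) : ZMod r) = ((1 : ℕ) : ZMod r) := by
      rw [ZMod.natCast_eq_natCast_iff]
      have := (pow_inj_mod (x := y) (n := b ^ (2 * r ^ m)) (m := 1)).1 (by rw [hfix, pow_one])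
      rwa [h.yo] at this
    refine hb ?_
    rw [Nat.cast_pow, pow_mul, Nat.cast_one] at hz1
    have e2 : ∀ j : ℕ, ((b : ZMod r) ^ 2) ^ r ^ j = (b : ZMod r) ^ 2 := fun j => by
      induction j with
      | zero => simp
      | succ j ih => rw [show r ^ (j + 1) = r ^ j * r from pow_succ r j, pow_mul, ih, ZMod.pow_card]
    rwa [e2] at hz1
  let ρ := (ch.rho).toHomUnits
  have hS : ¬ r ∣ Nat.card ρ.range := by
    intro hd
    have hker : (P : Subgroup G).subgroupOf N ≤ ρ.ker := by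
      intro p hp
      refine MonoidHom.mem_ker.2 (Units.ext ?_)
      show ch.rho p = 1
      refine Matrix.ext_of_mulVec_single fun i => ?_
      obtain ⟨x, hx⟩ := ch.vec_surj (Pi.single i 1)
      rw [Matrix.one_mulVec, ← hx, ch.rho_vec]
      refine ch.vec_eq.2 ?_
      haveI := Cfsg.Lib.PGroups.isMulCommutative_quotient_frattini (p := r) P.2
      have e : Chart.conjX p x = (⟨(p : G), hp⟩ : (P : Subgroup G)) * x * (⟨(p : G), hp⟩ : (P : Subgroup G))⁻¹ :=
        Subtype.ext rfl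
      rw [e, QuotientGroup.mk_mul, QuotientGroup.mk_mul, QuotientGroup.mk_inv,
        mul_comm' (_ : (P : Subgroup G) ⧸ frattini (P : Subgroup G)) (x : (P : Subgroup G) ⧸ frattini (P : Subgroup G)),
        mul_inv_cancel_right]
    rw [← Subgroup.index_ker] at hd
    exact P.not_dvd_index (hd.trans ((index_dvd_of_le hker).trans (relIndex_dvd_index_of_le le_normalizer)))
  obtain ⟨h10, h00⟩ := fixes_first h.odd ρ.range hS ⟨wn, rfl⟩ w00 w10 w11 (by
    rintro _ ⟨g, rfl⟩ hg0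
    exact h.first_entry P.2 hR ch g hg0) (ρ n) ⟨n, rfl⟩
  funext i
  rw [ch.rho_col]
  fin_cases i
  · simpa [ρ] using h00
  · simpa [ρ] using h10

/-- The transfer lemma. -/
theorem not_simple [IsSimpleGroup G] (hnab : ¬ IsMulCommutative G) (h : Pair r φ y) {c : G} (hc : Commute c φ) {b : ℕ}
    (hcy : c * y * c⁻¹ = y ^ b) (hb : (b : ZMod r) ^ 2 ≠ 1) : False := by
  classical
  obtain ⟨P, hP⟩ := h.rSub_p.exists_le_sylow
  obtain ⟨ch⟩ := h.exists_chart P.2 hP
  set f : (P : Subgroup G) := ⟨φ, ch.mem⟩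
  have hfo : φ ^ r = 1 := by rw [← h.φo, pow_orderOf_eq_one]
  have key : ∀ (k : ℕ) (g₀ : G) (hk : g₀⁻¹ * φ ^ k * g₀ ∈ (P : Subgroup G)),
      ch.π ⟨g₀⁻¹ * φ ^ k * g₀, hk⟩ = ch.π f ^ k := by
    intro k g₀ hk
    have hconj : g₀⁻¹ * φ ^ k * g₀ = (g₀⁻¹ * φ * g₀) ^ k := by
      have := conj_pow (a := g₀⁻¹) (b := φ) (i := k)
      simpa using this.symm
    by_cases hrk : r ∣ k
    · obtain ⟨j, rfl⟩ := hrk
      rw [show (⟨g₀⁻¹ * φ ^ (r * j) * g₀, hk⟩ : (P : Subgroup G)) = 1 from Subtype.ext (by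
        show g₀⁻¹ * φ ^ (r * j) * g₀ = 1
        rw [pow_mul, hfo, one_pow, mul_one, inv_mul_cancel]), map_one, ← map_pow,
        show f ^ (r * j) = 1 from Subtype.ext (by
          show φ ^ (r * j) = 1
          rw [pow_mul, hfo, one_pow]), map_one]
    · have hkr : k.Coprime (orderOf (g₀⁻¹ * φ * g₀)) := by
        have : orderOf (g₀⁻¹ * φ * g₀) = r := by
          rw [show g₀⁻¹ * φ * g₀ = (MulAut.conj g₀⁻¹).toMonoidHom φ by simp,
            orderOf_injective (MulAut.conj g₀⁻¹).toMonoidHom (MulAut.conj g₀⁻¹).injective, h.φo]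
        rw [this]
        exact Nat.Coprime.symm ((Nat.Prime.coprime_iff_not_dvd hr.out).2 hrk)
      obtain ⟨l, hl⟩ := exists_pow_eq_self_of_coprime hkr
      have hmem : g₀⁻¹ * φ * g₀⁻¹⁻¹ ∈ (P : Subgroup G) := by
        rw [inv_inv, ← hl, ← hconj]
        exact pow_mem hk l
      obtain ⟨n, hn, hne⟩ := h.fusion P hP g₀⁻¹ hmem
      have e : (⟨g₀⁻¹ * φ ^ k * g₀, hk⟩ : (P : Subgroup G)) = Chart.conjX ⟨n, hn⟩ f ^ k := Subtype.ext (by
        rw [SubmonoidClass.coe_pow]
        show g₀⁻¹ * φ ^ k * g₀ = (n * φ * n⁻¹) ^ k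
        rw [hne, inv_inv, hconj])
      rw [e, map_pow]
      congr 1
      refine Multiplicative.toAdd.injective ?_
      show ch.vec _ = ch.vec f
      rw [h.normalizer_vec hc hcy hb P hP ch, ch.vec_φ]
  have hT := Cfsg.Lib.McLLocal.transfer_eq_index ch.π ch.mem key
  have hne : MonoidHom.transfer ch.π φ ≠ 1 := by
    rw [hT]
    intro e
    have e' := congrArg (fun v : Multiplicative (Fin 2 → ZMod r) => v.toAdd 0) e
    simp [ch.first, ZMod.natCast_eq_zero_iff] at e'
    exact P.not_dvd_index e'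
  rcases (MonoidHom.transfer ch.π).normal_ker.eq_bot_or_eq_top with hk | hk
  · refine hnab ⟨⟨fun a b => ?_⟩⟩
    exact (MonoidHom.ker_eq_bot_iff _).1 hk (by rw [map_mul, map_mul, mul_comm])
  · exact hne (MonoidHom.mem_ker.1 (hk ▸ mem_top φ))

end Cfsg.Lib.Ree.Transfer
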