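import Cfsg.Agent.Ree.Main

/-!
In the configuration of Ree type no element has order `3 p`, `p` a prime greater than 3 dividing `q² - q + 1`.
-/

set_option autoImplicit false

namespace Cfsg.Lib.Ree

open Cfsg Cfsg.Lib.Chars

universe u v

namespace Transfer

/-- The degrees in the first configuration, given the number of involutions. -/
theorem typeA_degrees {Q h D2 D3 D4 D5 D6 : ℤ} (hA : TypeA Q h D2 D3 D4 D5 D6)
    (hh : h = Q ^ 2 * (Q ^ 2 + Q + 1)) : D2 = -(Q ^ 2 + Q + 1) ∧ D3 = -(Q * (Q ^ 2 + Q + 1)) ∧ D4 = Q ^ 3 := by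
  obtain ⟨⟨-, h8, h11, -, -, ⟨n2, -, -, -, -⟩, hx, -, -, -, ex, ea⟩, rfl, ef⟩ := hA
  obtain ⟨M, rfl, hM, hM4⟩ := exists_mid h8
  rw [hM] at ea ef
  have hM0' : (M : ℚ) ≠ 0 := Int.cast_ne_zero.2 (by omega)
  have n2' : (D2 : ℚ) ≠ 0 := Int.cast_ne_zero.2 n2
  push_cast at ex ea ef
  have hQ0 : (2 * (M : ℚ) - 1) ≠ 0 := by exact_mod_cast (by omega : (2 * M - 1 : ℤ) ≠ 0)
  simp only [div_eq_mul_inv, one_mul, mul_inv] at ex ea ef
  have hh2 : h = -((2 * M - 1) ^ 2 * D2) := by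
    have h1 : (h : ℚ) * (D2 : ℚ)⁻¹ * (2 * M) = -(2 * (M : ℚ) - 1) ^ 2 * (2 * M) := by
      have hi : (2 * (M : ℚ) - 1) * (2 * (M : ℚ) - 1)⁻¹ = 1 := mul_inv_cancel₀ hQ0
      linear_combination (-1 / 8 : ℚ) * ef - (1 / 4 : ℚ) * ea + (1 / 8 : ℚ) * ex +
        (1 / 8 : ℚ) * (h : ℚ) * (2 * (M : ℚ) - 1) * (D2 : ℚ)⁻¹ * hi
    have h2 := mul_right_cancel₀ (mul_ne_zero two_ne_zero hM0') h1
    rw [← div_eq_mul_inv, div_eq_iff n2'] at h2
    have : (h : ℚ) = ((-((2 * M - 1) ^ 2 * D2) : ℤ) : ℚ) := by push_cast; linear_combination h2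
    exact_mod_cast this
  have hD2 : D2 = -((2 * M - 1) ^ 2 + (2 * M - 1) + 1) := by
    refine mul_left_cancel₀ (pow_ne_zero 2 (by omega : (2 * M - 1 : ℤ) ≠ 0)) ?_
    linear_combination hh2 - hh
  refine ⟨hD2, by rw [hD2]; ring, ?_⟩
  rw [hD2] at hx
  linear_combination -hx

end Transfer

/-- No element of order `3 p`. -/
theorem Setting.no_mixed {G : Type u} [Group G] [Finite G] {t : G} {E : Subgroup G} {F : Type v} [Field F]
    [Fintype F] (H : Setting t E F) {p : ℕ} (hp : p.Prime) (h3 : 3 < p)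
    (hn : p ∣ Fintype.card F ^ 2 - Fintype.card F + 1) (z : G) (hz : orderOf z = 3 * p) : False := by
  classical
  letI := Fintype.ofFinite G
  letI := Fintype.ofFinite E
  obtain ⟨Tb⟩ := pslSpec F E H.mod H.big H.hyp.iso
  obtain ⟨M, hM⟩ := Cfsg.Lib.Blocks.exists_isPModular Nat.prime_two
  obtain ⟨SF, SB, ⟨R⟩⟩ := sectSpec G t E F H Tb M hM
  obtain ⟨TF⟩ := torusSpec G t E F H Tb SF
  let D : Ctx t E F := ⟨H, Tb, M, SF, SB, R, TF⟩
  obtain ⟨m, hm, hQ, hh⟩ := D.order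
  have hsys := D.R.mem_systems
  simp only [systems, List.mem_cons, List.not_mem_nil, or_false] at hsys
  obtain ⟨S, hA⟩ : ∃ S : Ctx.Five D, TypeA (signedCard F) D.h (-D.d S.e1) (D.d S.c3) (D.d S.c4) (D.d S.c5) (D.d S.c6) := by
    rcases hsys with h | h | h | h
    · refine (D.even_false _ (fun χ hχ => ?_) (D.targets D.TF.θ₀_ne).2.2).elim
      have hm' : D.R.row χ ∈ D.R.L.map D.R.row := List.mem_map_of_mem hχ
      rw [h] at hm'
      revert hm'
      generalize D.R.row χ = r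
      revert r
      simp
    · refine (D.even_false _ (fun χ hχ => ?_) (D.targets D.TF.θ₀_ne).2.1).elim
      have hm' : D.R.row χ ∈ D.R.L.map D.R.row := List.mem_map_of_mem hχ
      rw [h] at hm'
      revert hm'
      generalize D.R.row χ = r
      revert r
      simp
    · obtain ⟨S⟩ := D.exists_seven h
      exact S.result.elim
    · obtain ⟨S⟩ := D.exists_five h
      exact S.exists_typeA
  obtain ⟨d1, d3, d4⟩ := Transfer.typeA_degrees hA hh
  obtain ⟨m', -, hF, hord⟩ := H.order_eq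
  set q : ℕ := 3 ^ (2 * m' + 1) with hq
  have hQq : signedCard F = -(q : ℤ) := by
    have := D.card_F.1
    rw [hQ] at this ⊢
    rw [hF] at this
    simp at this
    rw [this]
  have hq1 : 1 ≤ q := Nat.one_le_pow _ _ (by norm_num)
  rw [hF] at hn
  set n : ℕ := q ^ 2 - q + 1 with hn'
  have hn2 : q ≤ q ^ 2 := Nat.le_self_pow two_ne_zero q
  have hdeg : ∀ χ : IrrCharacter G, (deg (χ : G → ℂ) : ℤ) = |D.d χ| := fun χ => by
    rw [Ctx.d, abs_mul]
    rcases mul_self_eq_one_iff.1 (D.R.sg_sq χ) with e | e <;> rw [e] <;> simp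
  have hnz : ((n : ℕ) : ℤ) = signedCard F ^ 2 + signedCard F + 1 := by
    rw [hQq, hn']; push_cast [hn2]; ring
  have hdvd : ∀ χ : IrrCharacter G, ∀ a : ℕ, (a : ℤ) ∣ D.d χ → a ∣ deg (χ : G → ℂ) := fun χ a ha =>
    Int.natCast_dvd_natCast.1 (by rw [hdeg]; exact (dvd_abs _ _).2 ha)
  have hpq : p.Coprime q := Nat.Coprime.pow_right _ ((Nat.coprime_primes hp Nat.prime_three).2 (by omega))
  have hfac : q ^ 3 * (q ^ 3 + 1) * (q - 1) = n * (q ^ 3 * (q + 1) * (q - 1)) := by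
    rw [hn']; zify [hn2, hq1]; ring
  have hcop : p.Coprime (q ^ 3 * (q + 1) * (q - 1)) := by
    refine Nat.Coprime.mul_right (Nat.Coprime.mul_right (hpq.pow_right 3) ?_) ?_ <;>
      refine (Nat.Prime.coprime_iff_not_dvd hp).2 fun hd => ?_
    · have h1 : (p : ℤ) ∣ 3 := by
        have a1 : (p : ℤ) ∣ (q : ℤ) ^ 2 - q + 1 := by
          have h' := Int.natCast_dvd_natCast.2 hn; rw [hn'] at h'; push_cast [hn2] at h'; exact h'
        have a2 : (p : ℤ) ∣ (q : ℤ) + 1 := by exact_mod_cast hd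
        have := dvd_sub a1 (a2.mul_right ((q : ℤ) - 2))
        rwa [show (q : ℤ) ^ 2 - q + 1 - ((q : ℤ) + 1) * ((q : ℤ) - 2) = 3 by ring] at this
      have := Nat.le_of_dvd (by norm_num) (Int.natCast_dvd_natCast.1 (by exact_mod_cast h1) : p ∣ 3)
      omega
    · have h1 : (p : ℤ) ∣ 1 := by
        have a1 : (p : ℤ) ∣ (q : ℤ) ^ 2 - q + 1 := by
          have h' := Int.natCast_dvd_natCast.2 hn; rw [hn'] at h'; push_cast [hn2] at h'; exact h'
        have a2 : (p : ℤ) ∣ (q : ℤ) - 1 := by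
          have h' := Int.natCast_dvd_natCast.2 hd; push_cast [hq1] at h'; exact h'
        have := dvd_sub a1 (a2.mul_right (q : ℤ))
        rwa [show (q : ℤ) ^ 2 - q + 1 - ((q : ℤ) - 1) * q = 1 by ring] at this
      have := Nat.le_of_dvd (by norm_num) (Int.natCast_dvd_natCast.1 (by exact_mod_cast h1) : p ∣ 1)
      omega
  have hn0 : n ≠ 0 := by omega
  set v : ℕ := n.factorization p with hv
  have hvn : p ^ v ∣ n := Nat.ordProj_dvd n p
  have hv1 : ¬ p ^ (v + 1) ∣ Nat.card G := fun hd => by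
    rw [hord, hfac] at hd
    exact Nat.pow_succ_factorization_not_dvd hn0 hp ((hcop.pow_left (v + 1)).dvd_of_dvd_mul_right hd)
  have hzp : p ∣ orderOf z := hz ▸ dvd_mul_left p 3
  have hz3 : 3 ∣ orderOf z := hz ▸ dvd_mul_right 3 p
  have vn : ∀ χ : IrrCharacter G, (n : ℤ) ∣ D.d χ → (χ : G → ℂ) z = 0 := fun χ hχ =>
    eq_zero_of_defect_zero χ.2 hp (hord ▸ hfac ▸ hvn.mul_right _) hv1 (hdvd χ _ ((Int.natCast_dvd_natCast.2 hvn).trans hχ)) hzp
  have he1 : (S.e1 : G → ℂ) z = 0 := vn _ ⟨1, by rw [hnz]; linarith⟩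
  have hc3 : (S.c3 : G → ℂ) z = 0 := vn _ ⟨-signedCard F, by rw [hnz, d3]; ring⟩
  have hc4 : (S.c4 : G → ℂ) z = 0 := by
    refine eq_zero_of_defect_zero S.c4.2 (n := 3 * (2 * m' + 1)) Nat.prime_three ?_ ?_ (hdvd _ _ ⟨-1, ?_⟩) hz3
    · rw [hord]
      exact ((dvd_of_eq (by rw [← pow_mul, mul_comm])).mul_right _).mul_right _
    · rw [hord, pow_succ, show 3 ^ (3 * (2 * m' + 1)) = q ^ 3 by rw [hq, ← pow_mul, mul_comm], mul_assoc (q ^ 3)]
      intro hd
      have h3' := Nat.dvd_of_mul_dvd_mul_left (pow_pos (by omega) 3) hd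
      obtain ⟨j, hj⟩ : 3 ∣ q := hq ▸ dvd_pow_self 3 (by omega)
      have hj1 : 1 ≤ j := by omega
      rcases (Nat.Prime.dvd_mul Nat.prime_three).1 h3' with e | e
      · rw [hj, show (3 * j) ^ 3 + 1 = 3 * (9 * j ^ 3) + 1 by ring] at e
        omega
      · omega
    · rw [show 3 ^ (3 * (2 * m' + 1)) = q ^ 3 by rw [hq, ← pow_mul, mul_comm], d4, hQq]
      push_cast
      ring
  obtain ⟨ro, r1, r5, r6, r7, r8, r3, r4⟩ := S.rows
  obtain ⟨m0, m1, m5, m6, m7, m8, m3, m4⟩ := S.mem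
  have hsum := D.SF.odd_sum D.Tb.x D.Tb.spec_x z (by
    rw [hz]; exact Odd.mul (by decide) (hp.odd_of_ne_two (by omega)))
  rw [D.sum_split, Finset.sum_eq_zero (fun χ hχ => by rw [(D.R.rest χ (D.mem_O.1 hχ)).1, zero_mul]), add_zero, S.sum,
    he1, hc3, hc4, (D.R.coords _ m5).1, (D.R.coords _ m6).1, (D.R.coords _ m7).1, (D.R.coords _ m8).1,
    (D.R.coords _ m0).1, r5, r6, r7, r8, ro] at hsum
  simp at hsum
  have ho : (S.o : G → ℂ) 1 = 1 := by
    have h1 := hdeg S.o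
    rw [S.head.1] at h1
    simp at h1
    rw [irr_apply_one_eq_deg, h1, Nat.cast_one]
  obtain ⟨f, hf⟩ := exists_hom_of_deg_one (isCharacter_of_irr S.o.2) ho
  rcases hsum with e | e
  · have := D.R.sg_sq S.o
    rw [e] at this
    simp at this
  · have e' := congrFun hf z
    rw [e] at e'
    exact (f z).ne_zero e'.symm

end Cfsg.Lib.Ree
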