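import Cfsg.Agent.Ree.Transfer.Matrices
import Cfsg.Agent.PGroups.AutOrder

/-!
The `r`-subgroups containing `R = ⟨φ, y⟩` when `r³` does not divide `|C(φ)|`: the class of `φ` is a coset of the
Frattini subgroup, which has index `r²`; the normalizer acts on the quotient by 2 × 2 matrices.
-/

set_option autoImplicit false
set_option linter.unusedSectionVars false

namespace Cfsg.Lib.Ree.Transfer

open Subgroup

universe u

variable {G : Type u} [Group G] [Finite G]

/-- The hypotheses of the transfer lemma on `φ` and `y`. -/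
structure Pair (r : ℕ) (φ y : G) : Prop where
  odd : r ≠ 2
  φo : orderOf φ = r
  yo : orderOf y = r
  comm : Commute φ y
  indep : y ∉ zpowers φ
  small : ¬ r ^ 3 ∣ Nat.card (centralizer ({φ} : Set G))
  norm : ∀ g : G, g * φ * g⁻¹ ∈ zpowers φ → g * φ * g⁻¹ = φ

variable {r : ℕ} [hr : Fact r.Prime] {φ y : G}

/-- The subgroup `⟨φ, y⟩`. -/
def rSub (φ y : G) : Subgroup G := zpowers φ ⊔ zpowers y

theorem φ_mem : φ ∈ rSub φ y := mem_sup_left (mem_zpowers φ)

theorem y_mem : y ∈ rSub φ y := mem_sup_right (mem_zpowers y)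

theorem Pair.rSub_le (h : Pair r φ y) : rSub φ y ≤ centralizer ({φ} : Set G) :=
  sup_le (zpowers_le.2 (mem_centralizer_singleton_iff.2 rfl))
    (zpowers_le.2 (mem_centralizer_singleton_iff.2 h.comm.symm.eq))

theorem Pair.rSub_p (h : Pair r φ y) : IsPGroup r (rSub φ y) := by
  refine (IsPGroup.of_card (n := 1) (by rw [Nat.card_zpowers, h.φo, pow_one])).to_sup_of_normal_right'
    (IsPGroup.of_card (n := 1) (by rw [Nat.card_zpowers, h.yo, pow_one])) ?_
  refine le_trans (zpowers_le.2 ?_) (centralizer_le_normalizer _)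
  rintro x ⟨i, rfl⟩
  exact (h.comm.zpow_right i).symm.eq

theorem Pair.not_cyclic (h : Pair r φ y) {X : Subgroup G} (hX : rSub φ y ≤ X) : ¬ IsCyclic X := by
  intro hc
  have : ∀ z : X, (z : G) ^ r = 1 → (z : G) ∈ zpowers φ := by
    intro z hz
    classical
    haveI := Fintype.ofFinite X
    set f : X := ⟨φ, hX φ_mem⟩ with hf
    have hfo : orderOf f = r := by rw [hf, Subgroup.orderOf_mk, h.φo]
    have hzf : z ∈ zpowers f := by
      have h1 : (Finset.range r).image (fun i => f ^ i) ⊆ Finset.univ.filter fun a : X => a ^ r = 1 := by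
        intro a ha
        obtain ⟨i, -, rfl⟩ := Finset.mem_image.1 ha
        rw [Finset.mem_filter]
        exact ⟨Finset.mem_univ _, by rw [← pow_mul, mul_comm, pow_mul, ← hfo, pow_orderOf_eq_one, one_pow]⟩
      have h2 : ((Finset.range r).image fun i => f ^ i).card = r := by
        rw [Finset.card_image_of_injOn ?_, Finset.card_range]
        intro i hi j hj e
        exact pow_injOn_Iio_orderOf (by rw [hfo]; simpa using hi) (by rw [hfo]; simpa using hj) e
      have h3 := Finset.eq_of_subset_of_card_le h1 (by rw [h2]; exact IsCyclic.card_pow_eq_one_le hr.out.pos)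
      have hm : z ∈ (Finset.range r).image (fun i => f ^ i) := by
        rw [h3, Finset.mem_filter]
        exact ⟨Finset.mem_univ _, Subtype.ext (by simpa using hz)⟩
      obtain ⟨i, -, e⟩ := Finset.mem_image.1 hm
      exact e ▸ pow_mem (mem_zpowers f) i
    obtain ⟨i, hi⟩ := hzf
    exact ⟨i, by rw [← hi]; simp [hf]⟩
  exact h.indep (this ⟨y, hX y_mem⟩ (by rw [← h.yo]; exact pow_orderOf_eq_one y))

/-- The centralizer of `φ` in an `r`-subgroup has order at most `r²`. -/
theorem Pair.card_cent_le (h : Pair r φ y) {X : Subgroup G} (hX : IsPGroup r X) :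
    Nat.card ↥(X ⊓ centralizer ({φ} : Set G)) ≤ r ^ 2 := by
  obtain ⟨n, hn⟩ := (hX.to_le (inf_le_left : X ⊓ centralizer ({φ} : Set G) ≤ X)).exists_card_eq
  rw [hn]
  refine Nat.pow_le_pow_right hr.out.pos ?_
  by_contra hc
  refine h.small ((pow_dvd_pow r (show 3 ≤ n by omega)).trans ?_)
  rw [← hn]
  exact card_dvd_of_le inf_le_right

theorem Pair.rSub_card (h : Pair r φ y) : Nat.card (rSub φ y) = r ^ 2 := by
  refine le_antisymm ?_ ?_
  · have := h.card_cent_le h.rSub_p
    rwa [inf_eq_left.2 h.rSub_le] at this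
  · obtain ⟨n, hn⟩ := h.rSub_p.exists_card_eq
    rw [hn]
    refine Nat.pow_le_pow_right hr.out.pos ?_
    by_contra hc
    refine h.not_cyclic le_rfl ?_
    interval_cases n
    · haveI : Subsingleton (rSub φ y) := Finite.card_le_one_iff_subsingleton.1 (by rw [hn]; norm_num)
      infer_instance
    · exact isCyclic_of_prime_card (by rw [hn, pow_one])

/-- The class of `φ` in an `r`-group above `R`, and the index of its Frattini subgroup. -/
theorem Pair.class_coset (h : Pair r φ y) {X : Subgroup G} (hX : IsPGroup r X) (hR : rSub φ y ≤ X) :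
    (frattini X).index = r ^ 2 ∧ (⟨φ, hR φ_mem⟩ : X) ∉ frattini X ∧
      ∀ z : X, ((z : X ⧸ frattini X) = ((⟨φ, hR φ_mem⟩ : X) : X ⧸ frattini X)) →
        ∃ x : X, x * ⟨φ, hR φ_mem⟩ * x⁻¹ = z := by
  classical
  haveI := Fintype.ofFinite X
  set f : X := ⟨φ, hR φ_mem⟩ with hf
  haveI := Cfsg.Lib.PGroups.isMulCommutative_quotient_frattini hX
  -- the index is at least `r²`
  obtain ⟨n, hn⟩ := hX.index (frattini X)
  have hn2 : 2 ≤ n := by
    by_contra hc
    refine h.not_cyclic hR ?_
    have : IsCyclic (X ⧸ frattini X) := by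
      interval_cases n
      · haveI : Subsingleton (X ⧸ frattini X) := Finite.card_le_one_iff_subsingleton.1 (by
          rw [← Subgroup.index_eq_card, hn]; norm_num)
        infer_instance
      · exact isCyclic_of_prime_card (p := r) (by rw [← Subgroup.index_eq_card, hn, pow_one])
    exact Cfsg.Lib.PGroups.isCyclic_of_isCyclic_quotient_frattini
  -- the class lies in the coset
  set K : Set X := {z | (z : X ⧸ frattini X) = (f : X ⧸ frattini X)} with hK
  have hsub : MulAction.orbit (ConjAct X) f ⊆ K := by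
    rintro _ ⟨x, rfl⟩
    show ((ConjAct.ofConjAct x * f * (ConjAct.ofConjAct x)⁻¹ : X) : X ⧸ frattini X) = _
    rw [QuotientGroup.mk_mul, QuotientGroup.mk_mul, mul_comm' (_ : X ⧸ frattini X) (f : X ⧸ frattini X),
      QuotientGroup.mk_inv, mul_inv_cancel_right]
  have hKc : Nat.card K = Nat.card (frattini X) := by
    refine Nat.card_congr
      { toFun := fun z => ⟨f⁻¹ * z.1, QuotientGroup.eq.1 z.2.symm⟩
        invFun := fun d => ⟨f * d, by
          show ((f * d : X) : X ⧸ frattini X) = _
          rw [QuotientGroup.mk_mul, (QuotientGroup.eq_one_iff _).2 d.2, mul_one]⟩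
        left_inv := fun z => Subtype.ext (mul_inv_cancel_left _ _)
        right_inv := fun d => Subtype.ext (inv_mul_cancel_left _ _) }
  have hstab : Nat.card (MulAction.stabilizer (ConjAct X) f) ≤ r ^ 2 := by
    refine le_trans (Nat.le_of_eq ?_) (h.card_cent_le hX)
    refine Nat.card_congr
      { toFun := fun x => ⟨((ConjAct.ofConjAct x.1 : X) : G), (ConjAct.ofConjAct x.1).2, by
          have hx : ConjAct.ofConjAct x.1 * f * (ConjAct.ofConjAct x.1)⁻¹ = f := x.2
          exact mem_centralizer_singleton_iff.2 (congrArg Subtype.val (mul_inv_eq_iff_eq_mul.1 hx))⟩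
        invFun := fun z => ⟨ConjAct.toConjAct (⟨z.1, z.2.1⟩ : X), mul_inv_eq_iff_eq_mul.2
          (Subtype.ext (mem_centralizer_singleton_iff.1 z.2.2))⟩
        left_inv := fun x => rfl
        right_inv := fun z => rfl }
  have hcount : Nat.card (MulAction.orbit (ConjAct X) f) * Nat.card (MulAction.stabilizer (ConjAct X) f) =
      Nat.card X := by
    rw [← Nat.card_prod, ← Nat.card_congr (MulAction.orbitProdStabilizerEquivGroup (ConjAct X) f).symm]
    rfl
  have hle : Nat.card (MulAction.orbit (ConjAct X) f) ≤ Nat.card K :=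
    Nat.card_mono (Set.toFinite _) hsub
  have htot : Nat.card (frattini X) * r ^ n = Nat.card X := by rw [← hn]; exact (frattini X).card_mul_index
  have hidx : n = 2 := by
    refine le_antisymm ?_ hn2
    refine (Nat.pow_le_pow_iff_right hr.out.one_lt).1 ?_
    refine Nat.le_of_mul_le_mul_left ?_ (Nat.card_pos (α := frattini X))
    rw [htot, ← hcount]
    exact Nat.mul_le_mul (hle.trans hKc.le) hstab
  subst hidx
  have horb : MulAction.orbit (ConjAct X) f = K := by
    refine Set.eq_of_subset_of_ncard_le hsub ?_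
    rw [← Nat.card_coe_set_eq, ← Nat.card_coe_set_eq, hKc]
    refine Nat.le_of_mul_le_mul_right ?_ (pow_pos hr.out.pos 2)
    rw [htot, ← hcount]
    exact Nat.mul_le_mul_left _ hstab
  refine ⟨hn, fun hmem => ?_, fun z hz => ?_⟩
  · have h1 : (1 : X) ∈ K := ((QuotientGroup.eq_one_iff f).2 hmem).symm
    rw [← horb] at h1
    obtain ⟨x, hx⟩ := h1
    have hx' : ConjAct.ofConjAct x * f * (ConjAct.ofConjAct x)⁻¹ = 1 := hx
    rw [conj_eq_one_iff] at hx'
    have := congrArg Subtype.val hx'
    have ho := h.φo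
    rw [show φ = 1 from this, orderOf_one] at ho
    exact hr.out.ne_one ho.symm
  · have hz' : z ∈ K := hz
    rw [← horb] at hz'
    obtain ⟨x, hx⟩ := hz'
    exact ⟨ConjAct.ofConjAct x, hx⟩

/-- A coordinate map on the Frattini quotient sending `φ` to the first basis vector. -/
structure Chart (r : ℕ) (φ : G) (X : Subgroup G) where
  mem : φ ∈ X
  π : X →* Multiplicative (Fin 2 → ZMod r)
  surj : Function.Surjective π
  ker : π.ker = frattini X
  first : π ⟨φ, mem⟩ = Multiplicative.ofAdd (Pi.single 0 1)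

theorem Pair.exists_chart (h : Pair r φ y) {X : Subgroup G} (hX : IsPGroup r X) (hR : rSub φ y ≤ X) :
    Nonempty (Chart r φ X) := by
  classical
  obtain ⟨hidx, hφ, -⟩ := h.class_coset hX hR
  set V := X ⧸ frattini X
  haveI := Cfsg.Lib.PGroups.isMulCommutative_quotient_frattini hX
  have hexp : ∀ v : V, v ^ r = 1 := Cfsg.Lib.PGroups.pow_prime_quotient_frattini hX
  have hV : Nat.card V = r ^ 2 := by rw [← Subgroup.index_eq_card]; exact hidx
  set e0 : V := ((⟨φ, hR φ_mem⟩ : X) : V) with he0
  have he01 : e0 ≠ 1 := fun e => hφ ((QuotientGroup.eq_one_iff _).1 e)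
  have ho : orderOf e0 = r := orderOf_eq_prime (hexp _) he01
  obtain ⟨e1, he1⟩ : ∃ e1 : V, e1 ∉ zpowers e0 := by
    by_contra hc
    push Not at hc
    have : Nat.card V ≤ r := by
      rw [← ho, ← Nat.card_zpowers, ← Nat.card_congr (Subgroup.topEquiv (G := V)).toEquiv]
      exact Subgroup.card_le_of_le fun v _ => hc v
    rw [hV] at this
    nlinarith [hr.out.two_le]
  let ψ : Multiplicative (Fin 2 → ZMod r) →* V :=
    { toFun := fun v => e0 ^ (v.toAdd 0).val * e1 ^ (v.toAdd 1).val
      map_one' := by simp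
      map_mul' := fun v w => by
        have key : ∀ (e : V) (a b : ZMod r), e ^ (a + b).val = e ^ a.val * e ^ b.val := fun e a b => by
          rw [← pow_add, pow_eq_pow_mod (a.val + b.val) (hexp e), ZMod.val_add]
        rw [toAdd_mul, Pi.add_apply, Pi.add_apply, key, key]
        simp only [mul_assoc]
        rw [← mul_assoc (e0 ^ (w.toAdd 0).val), mul_comm' (e0 ^ (w.toAdd 0).val) (e1 ^ (v.toAdd 1).val), mul_assoc] }
  have hinj : Function.Injective ψ := by
    refine (injective_iff_map_eq_one ψ).2 fun v hv => ?_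
    have hv' : e0 ^ (v.toAdd 0).val * e1 ^ (v.toAdd 1).val = 1 := hv
    have h1 : (v.toAdd 1) = 0 := by
      by_contra hne
      refine he1 ?_
      have hm : e1 ^ (v.toAdd 1).val ∈ zpowers e0 := by
        rw [eq_inv_of_mul_eq_one_right hv']
        exact inv_mem (pow_mem (mem_zpowers _) _)
      have hcop : (v.toAdd 1).val.Coprime (orderOf e1) := by
        refine Nat.Coprime.symm ?_
        refine Nat.Coprime.coprime_dvd_left (orderOf_dvd_of_pow_eq_one (hexp e1)) ?_
        refine (Nat.Prime.coprime_iff_not_dvd hr.out).2 fun hd => hne ?_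
        rw [← ZMod.natCast_zmod_val (v.toAdd 1), ZMod.natCast_eq_zero_iff]
        exact hd
      obtain ⟨m, hm'⟩ := exists_pow_eq_self_of_coprime hcop
      rw [← hm']
      exact pow_mem hm _
    rw [h1, ZMod.val_zero, pow_zero, mul_one] at hv'
    have h0 : (v.toAdd 0) = 0 := by
      rw [← orderOf_dvd_iff_pow_eq_one, ho] at hv'
      exact (ZMod.val_eq_zero _).1 (Nat.eq_zero_of_dvd_of_lt hv' (ZMod.val_lt _))
    refine Multiplicative.toAdd.injective (funext fun i => ?_)
    fin_cases i
    · simpa using h0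
    · simpa using h1
  have hbij : Function.Bijective ψ := (Nat.bijective_iff_injective_and_card ψ).2 ⟨hinj, by
    rw [hV, Nat.card_congr (Multiplicative.toAdd (α := Fin 2 → ZMod r)), Nat.card_fun, Nat.card_fin, Nat.card_zmod]⟩
  let σ := MulEquiv.ofBijective ψ hbij
  refine ⟨⟨hR φ_mem, σ.symm.toMonoidHom.comp (QuotientGroup.mk' (frattini X)),
    σ.symm.surjective.comp (QuotientGroup.mk'_surjective _), ?_, ?_⟩⟩
  · ext x; simp; exact QuotientGroup.eq_one_iff x
  · show σ.symm e0 = _
    rw [MulEquiv.symm_apply_eq]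
    show e0 = ψ _
    simp [ψ, ZMod.val_one]

namespace Chart

variable {X : Subgroup G} (c : Chart r φ X)

/-- The coordinates. -/
def vec (x : X) : Fin 2 → ZMod r := (c.π x).toAdd

theorem vec_mul (x z : X) : c.vec (x * z) = c.vec x + c.vec z := by simp [vec, map_mul]

theorem vec_surj (v : Fin 2 → ZMod r) : ∃ x, c.vec x = v :=
  ⟨(c.surj (Multiplicative.ofAdd v)).choose, by simp [vec, (c.surj (Multiplicative.ofAdd v)).choose_spec]⟩

theorem vec_eq {x z : X} : c.vec x = c.vec z ↔ (x : X ⧸ frattini X) = z := by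
  rw [vec, vec, EmbeddingLike.apply_eq_iff_eq, QuotientGroup.eq, ← c.ker, MonoidHom.mem_ker, map_mul, map_inv,
    inv_mul_eq_one]

theorem vec_φ : c.vec ⟨φ, c.mem⟩ = Pi.single 0 1 := by rw [vec, c.first, toAdd_ofAdd]

/-- The conjugate of an element of `X` by an element of its normalizer. -/
def conjX (g : normalizer (X : Set G)) (x : X) : X :=
  ⟨(g : G) * x * (g : G)⁻¹, (mem_normalizer_iff.1 g.2 _).1 x.2⟩

theorem conjX_mul (g : normalizer (X : Set G)) (x z : X) : conjX g (x * z) = conjX g x * conjX g z :=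
  Subtype.ext (by simp [conjX])

theorem conjX_comp (g k : normalizer (X : Set G)) (x : X) : conjX (g * k) x = conjX g (conjX k x) :=
  Subtype.ext (by simp [conjX, mul_assoc])

/-- Conjugation by `g` on the coordinates. -/
noncomputable def act (g : normalizer (X : Set G)) : (Fin 2 → ZMod r) →+ (Fin 2 → ZMod r) :=
  AddMonoidHom.mk' (fun v => c.vec (conjX g (c.vec_surj v).choose)) fun v w => by
    rw [← c.vec_mul, ← conjX_mul]
    refine (c.vec_eq).2 ?_
    have e : c.vec (c.vec_surj (v + w)).choose = c.vec ((c.vec_surj v).choose * (c.vec_surj w).choose) := by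
      rw [(c.vec_surj (v + w)).choose_spec, c.vec_mul, (c.vec_surj v).choose_spec, (c.vec_surj w).choose_spec]
    have h1 := QuotientGroup.eq.1 (c.vec_eq.1 e)
    refine QuotientGroup.eq.2 ?_
    have h2 := (characteristic_iff_map_le.1 (inferInstance : (frattini X).Characteristic))
      (Subgroup.normalizerMonoidHom X g) (mem_map_of_mem _ h1)
    have e2 : (Subgroup.normalizerMonoidHom X g).toMonoidHom =
        MonoidHom.mk' (conjX g) (conjX_mul g) := MonoidHom.ext fun x => Subtype.ext rfl
    change (Subgroup.normalizerMonoidHom X g).toMonoidHom _ ∈ _ at h2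
    rw [e2, map_mul, map_inv] at h2
    exact h2

theorem act_vec (g : normalizer (X : Set G)) (x : X) : c.act g (c.vec x) = c.vec (conjX g x) := by
  refine (c.vec_eq).2 ?_
  refine QuotientGroup.eq.2 ?_
  have h1 := QuotientGroup.eq.1 (c.vec_eq.1 (c.vec_surj (c.vec x)).choose_spec)
  have h2 := (characteristic_iff_map_le.1 (inferInstance : (frattini X).Characteristic))
    (Subgroup.normalizerMonoidHom X g) (mem_map_of_mem _ h1)
  have e2 : (Subgroup.normalizerMonoidHom X g).toMonoidHom =
      MonoidHom.mk' (conjX g) (conjX_mul g) := MonoidHom.ext fun x => Subtype.ext rfl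
  change (Subgroup.normalizerMonoidHom X g).toMonoidHom _ ∈ _ at h2
  rw [e2, map_mul, map_inv] at h2
  exact h2

/-- The matrix representation of the normalizer. -/
noncomputable def rho : normalizer (X : Set G) →* M2 r where
  toFun g := LinearMap.toMatrix' ((c.act g).toZModLinearMap r)
  map_one' := by
    rw [show (c.act 1).toZModLinearMap r = LinearMap.id from LinearMap.ext fun v => ?_, LinearMap.toMatrix'_id]
    obtain ⟨x, rfl⟩ := c.vec_surj v
    show c.act 1 (c.vec x) = c.vec x
    rw [c.act_vec]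
    exact congrArg c.vec (Subtype.ext (by simp [conjX]))
  map_mul' g k := by
    rw [← LinearMap.toMatrix'_comp]
    refine congrArg _ (LinearMap.ext fun v => ?_)
    obtain ⟨x, rfl⟩ := c.vec_surj v
    show c.act (g * k) (c.vec x) = c.act g (c.act k (c.vec x))
    rw [c.act_vec, c.act_vec, c.act_vec, conjX_comp]

theorem rho_vec (g : normalizer (X : Set G)) (x : X) :
    (c.rho g).mulVec (c.vec x) = c.vec (conjX g x) := by
  show (LinearMap.toMatrix' _).mulVec _ = _
  rw [LinearMap.toMatrix'_mulVec]
  exact c.act_vec g x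

theorem rho_col (g : normalizer (X : Set G)) (i : Fin 2) :
    c.vec (conjX g ⟨φ, c.mem⟩) i = c.rho g i 0 := by
  rw [← c.rho_vec, c.vec_φ, Matrix.mulVec_single_one]
  rfl

end Chart

end Cfsg.Lib.Ree.Transfer
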