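import Cfsg.Agent.Ree.Transfer.Weight
import Cfsg.Agent.Ree.Transfer.Mixed

/-!
In the configuration of Ree type with `q = 27` a subgroup of order 19 or 37 is normalized with a weight `b`,
`b² ≠ 1`.
-/

set_option autoImplicit false

namespace Cfsg.Lib.Ree

open Subgroup

universe u v

namespace Transfer

theorem ree_check_nineteen : ∀ k ∈ Nat.divisors 3367, 10073444472 / (2 * 19 * k) % 19 ≠ 1 := by decide +kernel

theorem ree_check_thirtyseven : ∀ k ∈ Nat.divisors 1729, 10073444472 / (2 * 37 * k) % 37 ≠ 1 := by decide +kernel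

end Transfer

/-- The weight for `q = 27`. -/
theorem Setting.weight_twentyseven {M : Type u} [Group M] [Finite M] {t : M} {E : Subgroup M} {F : Type v} [Field F]
    [Fintype F] (H : Setting t E F) (h27 : Fintype.card F = 27) {r : ℕ} [Fact r.Prime] (hr : r = 19 ∨ r = 37) :
    ∃ y c : M, ∃ b : ℕ, orderOf y = r ∧ c * y * c⁻¹ = y ^ b ∧ (b : ZMod r) ^ 2 ≠ 1 := by
  classical
  haveI := H.simple
  obtain ⟨m, -, hF, hord⟩ := H.order_eq
  have hm : 3 ^ (2 * m + 1) = 27 := hF.symm.trans h27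
  rw [hm] at hord
  norm_num at hord
  obtain ⟨y, hy, hcase⟩ := Transfer.weight_or_count H.nab (r := r)
    (by rw [hord]; rcases hr with rfl | rfl <;> norm_num) (by rw [hord]; rcases hr with rfl | rfl <;> norm_num)
  rcases hcase with ⟨c, b, h1, h2⟩ | ⟨k, hk, hmod, hrk, hcent⟩
  · exact ⟨y, c, b, hy, h1, h2⟩
  exfalso
  rw [hord] at hk hmod
  have hr3 : 3 < r := by rcases hr with rfl | rfl <;> norm_num
  have h3 : ¬ 3 ∣ k := by
    intro h3k
    obtain ⟨x, hx, hxy⟩ := hcent 3 Nat.prime_three h3k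
    refine H.no_mixed (Fact.out : r.Prime) hr3 (by rw [h27]; rcases hr with rfl | rfl <;> norm_num) (x * y) ?_
    rw [hxy.orderOf_mul_eq_mul_orderOf_of_coprime (by rw [hx, hy]; rcases hr with rfl | rfl <;> norm_num), hx, hy]
  have h2 : ¬ 2 ∣ k := by
    intro h2k
    letI := Fintype.ofFinite M
    letI := Fintype.ofFinite E
    obtain ⟨x, hx, hxy⟩ := hcent 2 Nat.prime_two h2k
    obtain ⟨Tb⟩ := pslSpec F E H.mod H.big H.hyp.iso
    obtain ⟨I, hI⟩ := Cfsg.Lib.Blocks.exists_isPModular Nat.prime_two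
    obtain ⟨SF, -, -⟩ := sectSpec M t E F H Tb I hI
    obtain ⟨g, hg⟩ := isConj_iff.1 (SF.conj_all x hx)
    have hcard : Nat.card (centralizer ({t} : Set M)) = 19656 := by
      have hi := (centralizer ({t} : Set M)).card_mul_index
      have ho := SF.order
      rw [h27] at ho
      rw [← hi, mul_comm] at ho
      exact mul_left_cancel₀ Subgroup.index_ne_zero_of_finite (ho.trans (by norm_num))
    have hm' : g⁻¹ * y * g ∈ centralizer ({t} : Set M) := by
      refine mem_centralizer_singleton_iff.2 ?_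
      rw [show t = g⁻¹ * x * g by rw [← hg]; group]
      calc g⁻¹ * y * g * (g⁻¹ * x * g) = g⁻¹ * (y * x) * g := by group
        _ = g⁻¹ * x * g * (g⁻¹ * y * g) := by rw [← hxy.eq]; group
    have h := orderOf_dvd_natCard (⟨_, hm'⟩ : centralizer ({t} : Set M))
    rw [Subgroup.orderOf_mk, hcard, show g⁻¹ * y * g = (MulAut.conj g⁻¹).toMonoidHom y by simp,
      orderOf_injective (MulAut.conj g⁻¹).toMonoidHom (MulAut.conj g⁻¹).injective, hy] at h
    rcases hr with rfl | rfl <;> norm_num at h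
  have hcop : Nat.Coprime k (2 ^ 2 * 3 ^ 9) :=
    Nat.Coprime.mul_right ((Nat.prime_two.coprime_iff_not_dvd.2 h2).symm.pow_right 2)
      ((Nat.prime_three.coprime_iff_not_dvd.2 h3).symm.pow_right 9)
  rcases hr with rfl | rfl
  · have : k ∣ 3367 := by
      refine hcop.dvd_of_dvd_mul_left ?_
      exact Nat.dvd_of_mul_dvd_mul_left (by norm_num : 0 < 2 * 19) (hk.trans (dvd_of_eq (by norm_num)))
    exact Transfer.ree_check_nineteen k (Nat.mem_divisors.2 ⟨this, by norm_num⟩) hmod
  · have : k ∣ 1729 := by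
      refine hcop.dvd_of_dvd_mul_left ?_
      exact Nat.dvd_of_mul_dvd_mul_left (by norm_num : 0 < 2 * 37) (hk.trans (dvd_of_eq (by norm_num)))
    exact Transfer.ree_check_thirtyseven k (Nat.mem_divisors.2 ⟨this, by norm_num⟩) hmod

end Cfsg.Lib.Ree
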