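import Cfsg.Agent.AbCentMax.Final
import Cfsg.Agent.Classical.PSLTwoDihedral

/-!
For `q ∈ {3, 5}` and `C(t) = ⟨t⟩ × PSL(2, q)` with `N(T)` transitive on the involutions of `T`, a subgroup of order
7 of `N(T)` is normalized with a weight `b`, `b² ≠ 1`.
-/

set_option autoImplicit false
set_option linter.unusedSectionVars false
set_option linter.style.haveILetI false

namespace Cfsg.Lib.Ree.Transfer

open Subgroup
open scoped Pointwise

universe u v

variable {X : Type u} [Group X] [Finite X] {t a b n : X} {K : Subgroup X} {L : Type v} [Field L] [Fintype L]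
  {T : Sylow 2 X}

theorem seven_weight (H : AbCentMax.Hyp t K K L) (hy : AbCentMax.Sys t K T a b n)
    (hL : Fintype.card L = 3 ∨ Fintype.card L = 5)
    (htr : ∀ w ∈ T, w ≠ 1 → ∃ g ∈ normalizer ((T : Subgroup X) : Set X), g * t * g⁻¹ = w) :
    ∃ y c : X, ∃ k : ℕ, orderOf y = 7 ∧ c * y * c⁻¹ = y ^ k ∧ (k : ZMod 7) ^ 2 ≠ 1 := by
  classical
  haveI : Fact (Nat.Prime 2) := ⟨Nat.prime_two⟩
  haveI : Fact (Nat.Prime 7) := ⟨by norm_num⟩
  set N := normalizer ((T : Subgroup X) : Set X) with hN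
  have hT8 : Nat.card (T : Subgroup X) = 8 := (AbCentMax.three_dvd H hy).2
  have haa := AbCentMax.aa H hy
  have hbb := AbCentMax.bb H hy
  have ha1 : a ≠ 1 := fun e => by have := hy.ao; rw [e, orderOf_one] at this; omega
  have hnN : n ∈ N := AbCentMax.n_mem_normalizer H hy
  -- the centralizer of `T`
  have hcent : ∀ z : X, (∀ w ∈ T, Commute z w) → z ∈ T := by
    intro z hz
    obtain ⟨e, he, hze⟩ := H.split z (hz t hy.tT)
    have hea : Commute e a := by
      rcases hze with r | r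
      · exact r ▸ hz a hy.aT
      · rw [show e = t⁻¹ * z by rw [r, inv_mul_cancel_left]]
        exact (hy.tcomm t hy.tT a hy.aT).inv_left.mul_left (hz a hy.aT)
    have heb : Commute e b := by
      rcases hze with r | r
      · exact r ▸ hz b hy.bT
      · rw [show e = t⁻¹ * z by rw [r, inv_mul_cancel_left]]
        exact (hy.tcomm t hy.tT b hy.bT).inv_left.mul_left (hz b hy.bT)
    have heT : e ∈ T := by
      obtain ⟨u, s, hu, hs, hus, hsplit, hug, hsg⟩ := Cfsg.Lib.TwoTimesPSL.exists_split e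
      have hin : ∀ w ∈ zpowers e, w ∈ K ∧ Commute w a ∧ Commute w b := by
        rintro _ ⟨i, rfl⟩
        exact ⟨zpow_mem he i, hea.zpow_left i, heb.zpow_left i⟩
      obtain ⟨hsK, hsa, hsb⟩ := hin s hsg
      have hs1 := H.eq_one_of_comm hy.aE hy.ao hy.bE hy.bo hy.ne (hy.tcomm a hy.aT b hy.bT) hsK hs hsa hsb
      obtain ⟨huK, hua, hub⟩ := hin u hug
      rw [← hsplit, hs1, mul_one]
      have hut : Commute u t := (H.comm u huK).symm
      have hmem : zpowers u ≤ normalizer ((T : Subgroup X) : Set X) := by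
        refine le_trans (zpowers_le.2 ?_) (centralizer_le_normalizer _)
        refine mem_centralizer_iff.2 fun w hw => ?_
        have hv : ∀ v, (v = 1 ∨ v = a ∨ v = b ∨ v = a * b) → Commute v u := by
          rintro v (rfl | rfl | rfl | rfl)
          exacts [Commute.one_left u, hua.symm, hub.symm, hua.symm.mul_left hub.symm]
        obtain ⟨v, hvc, rfl | rfl⟩ := hy.cases w hw
        · exact (hv _ hvc).eq
        · exact (hut.symm.mul_left (hv _ hvc)).eq
      have := T.is_maximal' (hu.isPGroup.to_sup_of_normal_right' T.isPGroup' hmem) le_sup_right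
      exact this.le (mem_sup_left (mem_zpowers u))
    rcases hze with r | r
    · exact r ▸ heT
    · exact r ▸ (T : Subgroup X).mul_mem hy.tT heT
  -- the orbit of `t`
  set St := (centralizer ({t} : Set X)).subgroupOf N with hSt
  have hindex : St.index = 7 := by
    rw [Subgroup.index_eq_card]
    have e1 : Nat.card (↥N ⧸ St) = Nat.card {w : X // w ∈ T ∧ w ≠ 1} := by
      refine Nat.card_congr (Equiv.ofBijective (Quotient.lift (fun h : N =>
        (⟨(h : X) * t * (h : X)⁻¹, (mem_normalizer_iff.1 h.2 t).1 hy.tT, fun e => H.t_ne (conj_eq_one_iff.1 e)⟩ :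
          {w : X // w ∈ T ∧ w ≠ 1})) ?_) ⟨?_, ?_⟩)
      · intro h k hhk
        have hc := mem_centralizer_singleton_iff.1 (mem_subgroupOf.1 (QuotientGroup.leftRel_apply.1 hhk))
        push_cast at hc
        refine Subtype.ext ?_
        show (h : X) * t * (h : X)⁻¹ = (k : X) * t * (k : X)⁻¹
        calc (h : X) * t * (h : X)⁻¹ = (h : X) * (t * ((h : X)⁻¹ * k)) * (k : X)⁻¹ := by group
          _ = (k : X) * t * (k : X)⁻¹ := by rw [← hc]; group
      · intro u v
        induction u using Quotient.inductionOn with | h h => ?_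
        induction v using Quotient.inductionOn with | h k => ?_
        intro e
        have e' : (h : X) * t * (h : X)⁻¹ = (k : X) * t * (k : X)⁻¹ := congrArg Subtype.val e
        refine Quotient.sound (QuotientGroup.leftRel_apply.2 (mem_subgroupOf.2 (mem_centralizer_singleton_iff.2 ?_)))
        push_cast
        calc (h : X)⁻¹ * k * t = (h : X)⁻¹ * ((k : X) * t * (k : X)⁻¹) * k := by group
          _ = t * ((h : X)⁻¹ * k) := by rw [← e']; group
      · rintro ⟨w, hwT, hw1⟩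
        obtain ⟨k, hk, hkt⟩ := htr w hwT hw1
        exact ⟨Quotient.mk'' ⟨k, hk⟩, Subtype.ext hkt⟩
    haveI := Fintype.ofFinite (T : Subgroup X)
    have e2 : Nat.card {w : X // w ∈ T ∧ w ≠ 1} = Nat.card {w : (T : Subgroup X) // w ≠ 1} :=
      Nat.card_congr
        { toFun := fun w => ⟨⟨w.1, w.2.1⟩, fun h => w.2.2 (congrArg Subtype.val h)⟩
          invFun := fun w => ⟨w.1.1, w.1.2, fun h => w.2 (Subtype.ext h)⟩
          left_inv := fun w => rfl
          right_inv := fun w => rfl }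
    rw [e1, e2, Nat.card_eq_fintype_card, Fintype.card_subtype_compl, Fintype.card_subtype_eq,
      ← Nat.card_eq_fintype_card, hT8]
  -- the stabilizer has order 24
  have hSt24 : Nat.card St = 24 := by
    have hPc := Cfsg.Lib.PSLTwoDihedral.card_P (F := L) (Nat.odd_iff.1 H.odd)
    obtain ⟨f⟩ := H.iso
    rw [← Nat.card_congr f.toEquiv] at hPc
    set C := centralizer ({t} : Set X) with hC
    have hCcard : Nat.card C = 2 * Nat.card K := by
      refine (Nat.card_eq_of_bijective (fun w : Bool × K => (⟨(if w.1 then t else 1) * (w.2 : X),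
        mul_mem (by cases w.1 <;> simp [hC, mem_centralizer_singleton_iff])
          (mem_centralizer_singleton_iff.2 (H.comm _ w.2.2).symm.eq)⟩ : C)) ⟨?_, ?_⟩).symm.trans ?_
      · rintro ⟨i, e⟩ ⟨j, e'⟩ h
        have h' := congrArg Subtype.val h
        dsimp only at h'
        have hd : ∀ e e' : K, (e : X) ≠ t * e' := fun e e' h => H.disj (by
          rw [show t = e * (e' : X)⁻¹ by rw [h]; group]; exact mul_mem e.2 (inv_mem e'.2))
        cases i <;> cases j <;> simp only [Bool.false_eq_true, if_false, if_true, one_mul] at h'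
        · exact Prod.ext rfl (Subtype.ext h')
        · exact absurd h' (hd e e')
        · exact absurd h'.symm (hd e' e)
        · exact Prod.ext rfl (Subtype.ext (mul_left_cancel h'))
      · rintro ⟨z, hz⟩
        obtain ⟨e, he, r | r⟩ := H.split z (mem_centralizer_singleton_iff.1 hz)
        · exact ⟨(false, ⟨e, he⟩), Subtype.ext (by simp [r])⟩
        · exact ⟨(true, ⟨e, he⟩), Subtype.ext (by simp [r])⟩
      · rw [Nat.card_prod, Nat.card_eq_fintype_card (α := Bool), Fintype.card_bool]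
    have heq : Nat.card St = Nat.card ↥(C ⊓ N) := by
      rw [hSt, ← inf_subgroupOf_right, Nat.card_congr (subgroupOfEquivOfLe inf_le_right).toEquiv]
    have hTC : (T : Subgroup X) ≤ C ⊓ N := fun w hw =>
      ⟨mem_centralizer_singleton_iff.2 (hy.tcomm w hw t hy.tT).eq, le_normalizer hw⟩
    have h8 : 8 ∣ Nat.card ↥(C ⊓ N) := hT8 ▸ card_dvd_of_le hTC
    have h3 : 3 ∣ Nat.card ↥(C ⊓ N) := hy.no ▸ Subgroup.orderOf_dvd_natCard _
      (⟨mem_centralizer_singleton_iff.2 (H.comm n hy.nE).symm.eq, hnN⟩ : n ∈ C ⊓ N)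
    have hd : Nat.card ↥(C ⊓ N) ∣ Nat.card C := card_dvd_of_le inf_le_left
    rw [heq]
    rcases hL with e3 | e5
    · rw [e3] at hPc
      norm_num at hPc
      rw [hCcard, show Nat.card K = 12 by omega] at hd
      have := Nat.le_of_dvd (by norm_num) hd
      have h24 : 24 ∣ Nat.card ↥(C ⊓ N) := Nat.Coprime.mul_dvd_of_dvd_of_dvd (by norm_num : Nat.Coprime 8 3) h8 h3
      have := Nat.le_of_dvd Nat.card_pos h24
      omega
    · rw [e5] at hPc
      norm_num at hPc
      rw [hCcard, show Nat.card K = 60 by omega] at hd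
      have h24 : 24 ∣ Nat.card ↥(C ⊓ N) := Nat.Coprime.mul_dvd_of_dvd_of_dvd (by norm_num : Nat.Coprime 8 3) h8 h3
      obtain ⟨j, hj⟩ := h24
      rw [hj] at hd ⊢
      have hj5 : j ∣ 5 := Nat.dvd_of_mul_dvd_mul_left (by norm_num : 0 < 24) hd
      rcases (Nat.dvd_prime (by norm_num)).1 hj5 with rfl | rfl
      · rfl
      exfalso
      have htop : C ⊓ N = C := Subgroup.eq_of_le_of_card_ge inf_le_left (by
        rw [hCcard, hj, show Nat.card K = 60 by omega])
      haveI : IsSimpleGroup (Matrix.ProjectiveSpecialLinearGroup (Fin 2) L) :=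
        Matrix.ProjectiveSpecialLinearGroup.rank_two_simple (by rw [Nat.card_eq_fintype_card]; omega)
      haveI : IsSimpleGroup ↥K := f.isSimpleGroup
      haveI : ((T : Subgroup X).subgroupOf K).Normal := normal_subgroupOf_of_le_normalizer fun k hk =>
        ((htop.ge (mem_centralizer_singleton_iff.2 (H.comm k hk).symm.eq) : k ∈ C ⊓ N)).2
      rcases IsSimpleGroup.eq_bot_or_eq_top_of_normal ((T : Subgroup X).subgroupOf K) inferInstance with r | r
      · have h1 : (⟨a, hy.aE⟩ : ↥K) ∈ (T : Subgroup X).subgroupOf K := hy.aT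
        rw [r, mem_bot] at h1
        exact ha1 (congrArg Subtype.val h1)
      · have hnT : n ∈ T := (show (⟨n, hy.nE⟩ : ↥K) ∈ (T : Subgroup X).subgroupOf K from r ▸ mem_top _)
        exact hy.ne (by rw [← hy.na, (hy.tcomm n hnT a hy.aT).eq, mul_inv_cancel_right])
  have hN168 : Nat.card N = 168 := by rw [← St.card_mul_index, hSt24, hindex]
  -- the quotient by `T`
  set T' := (T : Subgroup X).subgroupOf N with hT'
  haveI : T'.Normal := normal_subgroupOf_of_le_normalizer le_rfl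
  have hT'8 : Nat.card T' = 8 := by rw [hT', Nat.card_congr (subgroupOfEquivOfLe le_normalizer).toEquiv, hT8]
  set π := QuotientGroup.mk' T' with hπ
  have hQ : Nat.card (↥N ⧸ T') = 21 := by
    have := T'.card_eq_card_quotient_mul_card_subgroup
    rw [hN168, hT'8] at this
    omega
  obtain ⟨y₀, hy₀⟩ := exists_prime_orderOf_dvd_card' (G := N) 7 (by rw [hN168]; norm_num)
  obtain ⟨R, hR⟩ := (IsPGroup.of_card (G := zpowers y₀) (p := 7) (n := 1)
    (by rw [Nat.card_zpowers, hy₀, pow_one])).exists_le_sylow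
  have hR7 : (R : Subgroup N) = zpowers y₀ := by
    refine (Subgroup.eq_of_le_of_card_ge hR ?_).symm
    obtain ⟨m, hm⟩ := IsPGroup.iff_card.1 R.2
    rw [hm, Nat.card_zpowers, hy₀]
    refine (Nat.pow_le_pow_right (by norm_num) ?_).trans (pow_one 7).le
    by_contra hlt
    have h49 : 7 ^ 2 ∣ 168 := hN168 ▸ (pow_dvd_pow 7 (show 2 ≤ m by omega)).trans (hm ▸ card_subgroup_dvd_card _)
    norm_num at h49
  let Q7 := R.mapSurjective (f := π) (QuotientGroup.mk'_surjective T')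
  have huniq : Nat.card (Sylow 7 (↥N ⧸ T')) = 1 := by
    have h1 : Nat.card (Sylow 7 (↥N ⧸ T')) ∣ 21 := hQ ▸ (Sylow.card_dvd_index Q7).trans (index_dvd_card _)
    have h2 := card_sylow_modEq_one 7 (↥N ⧸ T')
    have hle := Nat.le_of_dvd (by norm_num) h1
    generalize Nat.card (Sylow 7 (↥N ⧸ T')) = m at h1 h2 hle
    interval_cases m <;> first | rfl | (exfalso; revert h1 h2; decide)
  haveI hsub : Subsingleton (Sylow 7 (↥N ⧸ T')) := (Nat.card_eq_one_iff_unique.1 huniq).1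
  haveI hQn : (Q7 : Subgroup (↥N ⧸ T')).Normal := Sylow.normal_of_subsingleton Q7
  set nN : N := ⟨n, hnN⟩ with hnN'
  -- `n y n⁻¹` is a power of `y` modulo `T`
  have hyQ : π y₀ ∈ (Q7 : Subgroup (↥N ⧸ T')) := mem_map_of_mem _ (show y₀ ∈ (R : Subgroup N) from hR (mem_zpowers _))
  have hconj : π nN * π y₀ * (π nN)⁻¹ ∈ zpowers (π y₀) := by
    have h1 := hQn.conj_mem _ hyQ (π nN)
    have h2 : (Q7 : Subgroup (↥N ⧸ T')) = zpowers (π y₀) := by
      show (R : Subgroup N).map π = _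
      rw [hR7, MonoidHom.map_zpowers]
    rwa [h2] at h1
  obtain ⟨k, hk⟩ := mem_powers_iff_mem_zpowers.2 hconj
  -- a lift normalizing `⟨y₀⟩`
  have hy0K : nN * y₀ * nN⁻¹ ∈ zpowers y₀ ⊔ T' := by
    have h1 : π (y₀ ^ k) = π (nN * y₀ * nN⁻¹) := by rw [map_pow, map_mul, map_mul, map_inv]; exact hk
    have h2 := QuotientGroup.eq.1 h1
    have := mul_mem (mem_sup_left (T := T') (pow_mem (mem_zpowers y₀) k)) (mem_sup_right (S := zpowers y₀) h2)
    rwa [mul_inv_cancel_left] at this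
  set Q := zpowers y₀ ⊔ T' with hQdef
  set y₁ : Q := ⟨nN * y₀ * nN⁻¹, hy0K⟩ with hy₁
  set y₂ : Q := ⟨y₀, mem_sup_left (mem_zpowers _)⟩ with hy₂
  have hpow : ∀ z : Q, orderOf z = 7 → ∀ P : Sylow 7 Q, z ∈ P → (P : Subgroup Q) = zpowers z := by
    intro z hz P hzP
    refine (Subgroup.eq_of_le_of_card_ge (zpowers_le.2 hzP) ?_).symm
    obtain ⟨m, hm⟩ := IsPGroup.iff_card.1 P.2
    rw [hm, Nat.card_zpowers, hz]
    refine (Nat.pow_le_pow_right (by norm_num) ?_).trans (pow_one 7).le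
    by_contra hlt
    have h49 : 7 ^ 2 ∣ 168 := hN168 ▸ ((pow_dvd_pow 7 (show 2 ≤ m by omega)).trans (hm ▸ card_subgroup_dvd_card _)).trans
      (card_subgroup_dvd_card Q)
    norm_num at h49
  have hy₂o : orderOf y₂ = 7 := (Subgroup.orderOf_mk _ _).trans hy₀
  have hy₁o : orderOf y₁ = 7 := by
    rw [hy₁, Subgroup.orderOf_mk, ← MulAut.conj_apply, MulEquiv.orderOf_eq, hy₀]
  obtain ⟨P1, hP1⟩ := (IsPGroup.of_card (G := zpowers y₁) (p := 7) (n := 1)
    (by rw [Nat.card_zpowers, hy₁o, pow_one])).exists_le_sylow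
  obtain ⟨P2, hP2⟩ := (IsPGroup.of_card (G := zpowers y₂) (p := 7) (n := 1)
    (by rw [Nat.card_zpowers, hy₂o, pow_one])).exists_le_sylow
  obtain ⟨g, hg⟩ := MulAction.exists_smul_eq Q P1 P2
  have hgy : g * y₁ * g⁻¹ ∈ zpowers y₂ := by
    rw [← hpow y₂ hy₂o P2 (hP2 (mem_zpowers _))]
    exact hg ▸ ⟨y₁, hP1 (mem_zpowers _), rfl⟩
  obtain ⟨l, hl⟩ := mem_powers_iff_mem_zpowers.2 hgy
  set c : N := (g : N) * nN with hc
  have hcy : c * y₀ * c⁻¹ = y₀ ^ l := by
    have h1 : ((g : N)) * (nN * y₀ * nN⁻¹) * (g : N)⁻¹ = y₀ ^ l := by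
      have := congrArg Subtype.val hl
      simpa using this.symm
    rw [hc, ← h1]; group
  refine ⟨(y₀ : X), (c : X), l, (Subgroup.orderOf_coe y₀).trans hy₀, congrArg Subtype.val hcy, fun hl2 => ?_⟩
  -- modulo `T` the element `c` acts as `n`, of order 3
  have hgm : ∀ z : Q, ∃ i : ℤ, π (z : N) = π y₀ ^ i := fun z => by
    have h1 : π (z : N) ∈ (zpowers y₀ ⊔ T').map π := mem_map_of_mem _ z.2
    rw [Subgroup.map_sup, QuotientGroup.map_mk'_self, sup_bot_eq, MonoidHom.map_zpowers] at h1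
    obtain ⟨i, hi⟩ := h1
    exact ⟨i, hi.symm⟩
  obtain ⟨i, hi⟩ := hgm g
  have hln : π nN * π y₀ * (π nN)⁻¹ = π y₀ ^ l := by
    have h1 := congrArg π hcy
    rw [map_mul, map_mul, map_inv, map_pow, hc, map_mul, hi] at h1
    rw [← h1]
    have e1 : π y₀ ^ i * (π nN * π y₀ * (π nN)⁻¹) * (π y₀ ^ i)⁻¹ = π nN * π y₀ * (π nN)⁻¹ := by
      have hcm : Commute (π y₀ ^ i) (π nN * π y₀ * (π nN)⁻¹) := by
        obtain ⟨j, hj⟩ := hconj
        rw [← hj]
        exact Commute.zpow_zpow_self (π y₀) i j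
      rw [hcm.eq, mul_inv_cancel_right]
    rw [← e1]; group
  have hπy : orderOf (π y₀) = 7 := by
    refine orderOf_eq_prime (by rw [← map_pow, ← hy₀, pow_orderOf_eq_one, map_one]) fun e => ?_
    have := Subgroup.orderOf_dvd_natCard T' ((QuotientGroup.eq_one_iff y₀).1 e)
    rw [hy₀, hT'8] at this
    norm_num at this
  have hn3 : π nN ^ 3 = 1 := by
    rw [← map_pow, show nN ^ 3 = 1 from Subtype.ext (show n ^ 3 = 1 by rw [← hy.no, pow_orderOf_eq_one]), map_one]
  have hl3 : π y₀ ^ (l ^ 3) = π y₀ := by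
    have step : ∀ m : ℕ, π nN * (π y₀ ^ m) * (π nN)⁻¹ = π y₀ ^ (l * m) := fun m => by
      rw [← conj_pow, hln, ← pow_mul]
    calc π y₀ ^ (l ^ 3) = π nN * (π nN * (π nN * π y₀ * (π nN)⁻¹) * (π nN)⁻¹) * (π nN)⁻¹ := by
          rw [hln, step, step]; ring_nf
      _ = π nN ^ 3 * π y₀ * (π nN ^ 3)⁻¹ := by simp only [pow_succ, pow_zero, one_mul]; group
      _ = π y₀ := by rw [hn3]; group
  have hl3' : ((l : ZMod 7)) ^ 3 = 1 := by
    have h1 : π y₀ ^ (l ^ 3) = π y₀ ^ 1 := by rw [hl3, pow_one]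
    rw [pow_eq_pow_iff_modEq, hπy, ← ZMod.natCast_eq_natCast_iff] at h1
    exact_mod_cast h1
  have hl1 : (l : ZMod 7) = 1 := by
    calc (l : ZMod 7) = (l : ZMod 7) * (l : ZMod 7) ^ 2 := by rw [hl2, mul_one]
      _ = 1 := by rw [← pow_succ', hl3']
  -- then `n` fixes the orbit of `t`
  have hy1 : π y₀ ^ l = π y₀ := by
    conv_rhs => rw [← pow_one (π y₀)]
    rw [pow_eq_pow_iff_modEq, hπy, ← ZMod.natCast_eq_natCast_iff, hl1, Nat.cast_one]
  rw [hy1, mul_inv_eq_iff_eq_mul] at hln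
  have hy0t : ¬ Commute (y₀ : X) t := fun h => by
    have h1 : (y₀ : N) ∈ St := mem_subgroupOf.2 (mem_centralizer_singleton_iff.2 h.eq)
    have h2 := Subgroup.orderOf_dvd_natCard St h1
    rw [hy₀, hSt24] at h2
    norm_num at h2
  -- conjugation by `n` and by `y₀` commute on `T`
  have hnt : n * t * n⁻¹ = t := by rw [← (H.comm n hy.nE).eq, mul_inv_cancel_right]
  have hcommT : ∀ w ∈ T, n * ((y₀ : X) * w * (y₀ : X)⁻¹) * n⁻¹ = (y₀ : X) * (n * w * n⁻¹) * (y₀ : X)⁻¹ := by
    intro w hw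
    have h1 : π (nN * y₀) = π (y₀ * nN) := by rw [map_mul, map_mul]; exact hln
    have h2 : ((nN * y₀)⁻¹ * (y₀ * nN) : N).1 ∈ T := mem_subgroupOf.1 (QuotientGroup.eq.1 h1)
    push_cast at h2
    set d := (n * (y₀ : X))⁻¹ * ((y₀ : X) * n) with hd
    calc n * ((y₀ : X) * w * (y₀ : X)⁻¹) * n⁻¹ = n * (y₀ : X) * w * (n * (y₀ : X))⁻¹ := by group
      _ = n * (y₀ : X) * (d * w * d⁻¹) * (n * (y₀ : X))⁻¹ := by
        rw [(hy.tcomm d h2 w hw).eq, mul_inv_cancel_right]
      _ = (y₀ : X) * (n * w * n⁻¹) * (y₀ : X)⁻¹ := by rw [hd]; group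
  have hpowN : ∀ i : ℕ, (y₀ : X) ^ i * t * ((y₀ : X) ^ i)⁻¹ ∈ T := fun i =>
    (mem_normalizer_iff.1 (N.pow_mem y₀.2 i) t).1 hy.tT
  have hfix : ∀ i : ℕ, n * ((y₀ : X) ^ i * t * ((y₀ : X) ^ i)⁻¹) * n⁻¹ = (y₀ : X) ^ i * t * ((y₀ : X) ^ i)⁻¹ := by
    intro i
    induction i with
    | zero => simpa using hnt
    | succ i ih =>
      rw [pow_succ', show (y₀ : X) * (y₀ : X) ^ i * t * ((y₀ : X) * (y₀ : X) ^ i)⁻¹ =
        (y₀ : X) * ((y₀ : X) ^ i * t * ((y₀ : X) ^ i)⁻¹) * (y₀ : X)⁻¹ by group, hcommT _ (hpowN i), ih]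
  -- the orbit covers the seven involutions
  have hinj : Function.Injective (fun i : Fin 7 =>
      (⟨⟨(y₀ : X) ^ (i : ℕ) * t * ((y₀ : X) ^ (i : ℕ))⁻¹, hpowN i⟩,
        fun h => H.t_ne (conj_eq_one_iff.1 (congrArg Subtype.val h))⟩ : {w : (T : Subgroup X) // w ≠ 1})) := by
    have key : ∀ i j : ℕ, i ≤ j → j < 7 →
        (y₀ : X) ^ i * t * ((y₀ : X) ^ i)⁻¹ = (y₀ : X) ^ j * t * ((y₀ : X) ^ j)⁻¹ → i = j := by
      intro i j hij hj he
      by_contra hne
      refine hy0t ?_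
      have e1 : (y₀ : X) ^ j = (y₀ : X) ^ i * (y₀ : X) ^ (j - i) := by rw [← pow_add]; congr 1; omega
      rw [e1, show (y₀ : X) ^ i * (y₀ : X) ^ (j - i) * t * ((y₀ : X) ^ i * (y₀ : X) ^ (j - i))⁻¹ =
        (y₀ : X) ^ i * ((y₀ : X) ^ (j - i) * t * ((y₀ : X) ^ (j - i))⁻¹) * ((y₀ : X) ^ i)⁻¹ by group] at he
      have hc0 : Commute ((y₀ : X) ^ (j - i)) t :=
        mul_inv_eq_iff_eq_mul.1 (mul_left_cancel (mul_right_cancel he)).symm
      obtain ⟨s, hs⟩ := exists_pow_eq_self_of_coprime (x := (y₀ : X)) (n := j - i) (by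
        rw [Subgroup.orderOf_coe, hy₀]
        exact ((Fact.out : Nat.Prime 7).coprime_iff_not_dvd.2 fun hd => by
          have := Nat.le_of_dvd (by omega) hd; omega).symm)
      exact hs ▸ hc0.pow_left s
    intro i j he
    have he' := congrArg (fun v : {w : (T : Subgroup X) // w ≠ 1} => ((v : (T : Subgroup X)) : X)) he
    rcases le_total (i : ℕ) j with h | h
    · exact Fin.ext (key i j h j.2 he')
    · exact Fin.ext (key j i h i.2 he'.symm).symm
  haveI := Fintype.ofFinite (T : Subgroup X)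
  have hbij := (Nat.bijective_iff_injective_and_card _).2 ⟨hinj, by
    rw [Nat.card_eq_fintype_card, Fintype.card_fin, Nat.card_eq_fintype_card, Fintype.card_subtype_compl,
      Fintype.card_subtype_eq, ← Nat.card_eq_fintype_card, hT8]⟩
  obtain ⟨i, hi'⟩ := hbij.2 ⟨⟨a, hy.aT⟩, fun h => ha1 (congrArg Subtype.val h)⟩
  have hai : (y₀ : X) ^ (i : ℕ) * t * ((y₀ : X) ^ (i : ℕ))⁻¹ = a :=
    congrArg (fun v : {w : (T : Subgroup X) // w ≠ 1} => ((v : (T : Subgroup X)) : X)) hi'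
  have := hfix i
  rw [hai] at this
  exact hy.ne (this.symm.trans hy.na)

end Cfsg.Lib.Ree.Transfer
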