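import Cfsg.Agent.Ree.Transfer.LocalSpecProof
import Cfsg.Agent.Ree.Transfer.Seven
import Cfsg.Agent.Ree.Transfer.JOne
import Cfsg.Agent.Ree.Transfer.Main

/-!
The fixed fields of 3 and 5 elements: `Cfsg.Lib.Ree.Field.SmallSpec`, apart from the case `q₁ = 3`, `r = 7`,
`49 ∣ |x|`.
-/

set_option autoImplicit false
set_option linter.unusedSectionVars false
set_option linter.style.haveILetI false

namespace Cfsg.Lib.Ree.Field

open Subgroup

universe u

/-- The case left to the `r`-adic argument. -/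
def SevenPowSpec : Prop :=
  ∀ (G : Type u) [Group G] [Finite G] (t : G) (E E₀ : Subgroup G) (F : Type) [Field F] [Fintype F],
    JRSetting t E E₀ F → NoFieldBelow.{u} (Nat.card G) →
    ∀ (T : Sylow 2 G) (x : G) (F₁ : Type) [Field F₁] [Fintype F₁],
      FieldElem t E E₀ T 7 x → LocalData t E E₀ F 7 x F₁ → 7 ∣ invCount x →
      Fintype.card F₁ = 3 → 49 ∣ orderOf x → False

end Cfsg.Lib.Ree.Field

namespace Cfsg.Lib.Ree.Twist

open Subgroup

universe u

variable {G : Type u} [Group G] [Finite G] {x : G}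

theorem prime_dvd_sixty_three {r : ℕ} (hr : r.Prime) (h : r ∣ 63) (h3 : r ≠ 3) : r = 7 := by
  have hle := Nat.le_of_dvd (by norm_num) h
  interval_cases r <;> first | rfl | exact absurd rfl h3 | (exfalso; revert h; decide) | (exfalso; exact absurd hr (by norm_num))

theorem prime_dvd_jone {r : ℕ} (hr : r.Prime) (h : r ∣ 1463) : r = 7 ∨ r = 11 ∨ r = 19 := by
  rw [show 1463 = 7 * (11 * 19) by norm_num] at h
  rcases hr.dvd_mul.1 h with h7 | h2
  · exact Or.inl ((Nat.prime_dvd_prime_iff_eq hr (by norm_num)).1 h7)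
  · rcases hr.dvd_mul.1 h2 with h11 | h19
    · exact Or.inr (Or.inl ((Nat.prime_dvd_prime_iff_eq hr (by norm_num)).1 h11))
    · exact Or.inr (Or.inr ((Nat.prime_dvd_prime_iff_eq hr (by norm_num)).1 h19))

/-- An element with a weight modulo `⟨x⟩` gives one with the same weight. -/
theorem lift_weight {r : ℕ} [Fact r.Prime] (hxo : orderOf x = r) {y c : G} {k : ℕ} (hyx : Commute y x)
    (hcx : Commute c x) (hyn : y ∉ zpowers x) (hyr : y ^ r ∈ zpowers x) (hk : (k : ZMod r) ≠ 1)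
    (hcy : (y ^ k)⁻¹ * (c * y * c⁻¹) ∈ zpowers x) :
    ∃ y' : G, Commute y' x ∧ orderOf y' = r ∧ y' ∉ zpowers x ∧ c * y' * c⁻¹ = y' ^ k := by
  have hrp : r.Prime := Fact.out
  obtain ⟨i, hi⟩ := mem_powers_iff_mem_zpowers.2 hyr
  obtain ⟨j, hj⟩ := mem_powers_iff_mem_zpowers.2 hcy
  have hi' : x ^ i = y ^ r := hi
  have hj' : c * y * c⁻¹ = y ^ k * x ^ j := by
    rw [show x ^ j = (y ^ k)⁻¹ * (c * y * c⁻¹) from hj, mul_inv_cancel_left]
  have hxr : x ^ r = 1 := hxo ▸ pow_orderOf_eq_one x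
  have hcxp : ∀ m : ℕ, c * x ^ m * c⁻¹ = x ^ m := fun m => by rw [(hcx.pow_right m).eq, mul_inv_cancel_right]
  have h1 : x ^ i = x ^ (i * k) := by
    calc x ^ i = c * (y ^ r) * c⁻¹ := by rw [← hi', hcxp]
      _ = (y ^ k * x ^ j) ^ r := by rw [← conj_pow, hj']
      _ = x ^ (i * k) := by
        rw [((hyx.pow_pow k j)).mul_pow, ← pow_mul x, mul_comm j r, pow_mul x r j, hxr, one_pow, mul_one, ← pow_mul y,
          mul_comm k r, pow_mul y, ← hi', ← pow_mul]
  have hi0 : (i : ZMod r) = 0 := by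
    rw [pow_eq_pow_iff_modEq, hxo, ← ZMod.natCast_eq_natCast_iff] at h1
    push_cast at h1
    have h2 : (i : ZMod r) * ((k : ZMod r) - 1) = 0 := by linear_combination -h1
    exact (mul_eq_zero.1 h2).resolve_right (sub_ne_zero.2 hk)
  have hyr1 : y ^ r = 1 := by
    rw [← hi']
    exact orderOf_dvd_iff_pow_eq_one.1 (hxo ▸ (ZMod.natCast_eq_zero_iff i r).1 hi0)
  obtain ⟨s, hs⟩ : ∃ s : ℕ, (s : ZMod r) = (j : ZMod r) / ((k : ZMod r) - 1) := ⟨_, ZMod.natCast_zmod_val _⟩
  have hsk : x ^ (j + s) = x ^ (s * k) := by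
    rw [pow_eq_pow_iff_modEq, hxo, ← ZMod.natCast_eq_natCast_iff]
    push_cast
    have := sub_ne_zero.2 hk
    rw [hs]; field_simp; ring
  set y' := y * x ^ s with hy'
  have hy'x : Commute y' x := hyx.mul_left ((Commute.refl x).pow_left s)
  have hn : y' ∉ zpowers x := fun h => hyn (by
    have := mul_mem h (inv_mem (pow_mem (mem_zpowers x) s))
    rwa [hy', mul_inv_cancel_right] at this)
  refine ⟨y', hy'x, orderOf_eq_prime ?_ fun e => hn (e ▸ one_mem _), hn, ?_⟩
  · rw [hy', (hyx.pow_right s).mul_pow, hyr1, one_mul, ← pow_mul, mul_comm, pow_mul, hxr, one_pow]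
  · rw [hy', ← _root_.conj_mul, hj', hcxp, mul_assoc, ← pow_add, hsk, (hyx.pow_right s).mul_pow, ← pow_mul]

section

variable {t : G} {E E₀ : Subgroup G} {F : Type} [Field F] [Fintype F] (S : Setting t E E₀ F) {T : Sylow 2 G}
  {a b n : G} (hy : AbCentMax.Sys t E₀ T a b n)
include S hy

/-- The order of the centralizer of `x`. -/
theorem Setting.card_cent_x (hx : x ∈ S.Phi hy) :
    Nat.card (centralizer ({x} : Set G)) =
      Field.invCount x * (2 * (Nat.card ↥(E₀ ⊓ centralizer ({x} : Set G)) * E₀.relIndex E)) := by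
  classical
  set H := centralizer ({x} : Set G) with hH
  set tH : H := ⟨t, S.mem_cent hy hx hy.tT⟩ with htH
  have hall : ∀ s : H, orderOf s = 2 → IsConj tH s := fun s hs => by
    obtain ⟨g, hgx, hg⟩ := S.conj_inv hy hx (s := (s : G)) ((Subgroup.orderOf_coe s).trans hs)
      (mem_centralizer_singleton_iff.1 s.2)
    exact isConj_iff.2 ⟨⟨g, mem_centralizer_singleton_iff.2 hgx.eq⟩, Subtype.ext hg⟩
  have h1 : Nat.card {s : H // orderOf s = 2} = Field.invCount x := Nat.card_congr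
    { toFun := fun s => ⟨s.1.1, (Subgroup.orderOf_coe s.1).trans s.2, mem_centralizer_singleton_iff.1 s.1.2⟩
      invFun := fun s => ⟨⟨s.1, mem_centralizer_singleton_iff.2 s.2.2.eq⟩, (Subgroup.orderOf_mk _ _).trans s.2.1⟩
      left_inv := fun s => rfl
      right_inv := fun s => rfl }
  have h2 : Nat.card (centralizer ({tH} : Set H)) = 2 * Nat.card ↥(E ⊓ H) := by
    have hc : ∀ w : Bool × ↥(E ⊓ H), (if w.1 then t else 1) * (w.2 : G) ∈ H := fun w =>
      mul_mem (by
        have ht : t ∈ H := S.mem_cent hy hx hy.tT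
        cases w.1 <;> simp [ht]) w.2.2.2
    have hct : ∀ w : Bool × ↥(E ⊓ H), (⟨_, hc w⟩ : H) ∈ centralizer ({tH} : Set H) := fun w => by
      have h1 : Commute ((if w.1 then t else 1) * (w.2 : G)) t :=
        (by cases w.1 <;> simp : Commute (if w.1 then t else 1) t).mul_left (S.hyp.comm _ w.2.2.1).symm
      exact mem_centralizer_singleton_iff.2 (Subtype.ext h1.eq)
    have hbij := Nat.card_eq_of_bijective (fun w : Bool × ↥(E ⊓ H) =>
      (⟨⟨_, hc w⟩, hct w⟩ : centralizer ({tH} : Set H))) ⟨?_, ?_⟩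
    · rw [← hbij, Nat.card_prod, Nat.card_eq_fintype_card (α := Bool), Fintype.card_bool]
    · rintro ⟨i, e⟩ ⟨j, e'⟩ h
      have h' : (if i then t else 1) * (e : G) = (if j then t else 1) * (e' : G) :=
        congrArg (fun z : centralizer ({tH} : Set H) => ((z : H) : G)) h
      cases i <;> cases j <;> simp only [Bool.false_eq_true, if_false, if_true, one_mul] at h'
      · exact Prod.ext rfl (Subtype.ext h')
      · exact absurd h' (S.split_unique e.2.1 e'.2.1)
      · exact absurd h'.symm (S.split_unique e'.2.1 e.2.1)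
      · exact Prod.ext rfl (Subtype.ext (mul_left_cancel h'))
    · rintro ⟨⟨z, hz⟩, hzt⟩
      have hc' : z * t = t * z := congrArg Subtype.val (mem_centralizer_singleton_iff.1 hzt)
      obtain ⟨e, he, r | r⟩ := S.split (x := z) hc'.symm
      · exact ⟨(false, ⟨e, he, r ▸ hz⟩), Subtype.ext (Subtype.ext (by simp [r]))⟩
      · refine ⟨(true, ⟨e, he, ?_⟩), Subtype.ext (Subtype.ext (by simp [r]))⟩
        rw [show e = t⁻¹ * z by rw [r, inv_mul_cancel_left]]
        exact H.mul_mem (H.inv_mem tH.2) hz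
  rw [← (centralizer ({tH} : Set H)).card_mul_index,
    ← count_conj (show orderOf tH = 2 from (Subgroup.orderOf_mk _ _).trans S.hyp.ord) hall, h1, h2, hH,
    S.card_cent hy hx, mul_comm]

/-- The contradiction for `|x| = r` and a weight modulo `⟨x⟩`. -/
theorem Setting.kill_of_weight {X : Type u} [Group X] (P : Proj x X) (hx : x ∈ S.Phi hy) {r : ℕ} [Fact r.Prime]
    (hr2 : r ≠ 2) (hxo : orderOf x = r) (hsmall : ¬ r ^ 3 ∣ Nat.card (centralizer ({x} : Set G)))
    (hw : ∃ y c : X, ∃ k : ℕ, orderOf y = r ∧ c * y * c⁻¹ = y ^ k ∧ (k : ZMod r) ^ 2 ≠ 1) : False := by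
  haveI := S.simple
  obtain ⟨y₁, c₁, k, hyo, hcy, hk2⟩ := hw
  obtain ⟨y, rfl⟩ := P.surj y₁
  obtain ⟨c, rfl⟩ := P.surj c₁
  have hk : (k : ZMod r) ≠ 1 := fun e => hk2 (by rw [e, one_pow])
  have hyn : (y : G) ∉ zpowers x := fun h => by
    rw [P.eq_one_iff.2 h, orderOf_one] at hyo
    exact (Fact.out : r.Prime).ne_one hyo.symm
  have hyr : (y : G) ^ r ∈ zpowers x := by
    have h := (P.eq_one_iff (h := y ^ r)).1 (by rw [map_pow, ← hyo, pow_orderOf_eq_one])
    exact h
  have hcy' : ((y : G) ^ k)⁻¹ * ((c : G) * y * (c : G)⁻¹) ∈ zpowers x :=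
    (P.eq_one_iff (h := (y ^ k)⁻¹ * (c * y * c⁻¹))).1
      (by rw [map_mul, map_inv, map_pow, map_mul, map_mul, map_inv, hcy, inv_mul_cancel])
  obtain ⟨y', hy'x, hy'o, hy'n, hcy''⟩ := lift_weight hxo (mem_centralizer_singleton_iff.1 y.2)
    (mem_centralizer_singleton_iff.1 c.2) hyn hyr hk hcy'
  exact Transfer.not_simple S.nab
    (φ := x) (y := y') ⟨hr2, hxo, hy'o, hy'x.symm, hy'n, hsmall, fun g hg => S.norm_zpowers hy hx hg⟩
    (c := (c : G)) (mem_centralizer_singleton_iff.1 c.2) hcy'' hk2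

/-- Transitivity in the quotient. -/
theorem Setting.trans_quot {X : Type u} [Group X] (P : Proj x X) (hx : x ∈ S.Phi hy) {w : X}
    (hw : w ∈ S.sylQ P hy hx) (hw1 : w ≠ 1) :
    ∃ g ∈ normalizer ((S.sylQ P hy hx : Subgroup X) : Set X), g * S.bar P hy hx t hy.tT * g⁻¹ = w := by
  haveI := P.finite
  obtain ⟨z, hzT, rfl⟩ := (S.mem_sylQ P hy hx).1 hw
  have hz1 : z ≠ 1 := fun e => hw1 (by subst e; exact map_one P.π)
  obtain ⟨g, hg, hgt⟩ := S.trans hy hzT hz1
  set gH : centralizer ({x} : Set G) := ⟨g, mem_centralizer_singleton_iff.2 (S.normalizer_comm hy hg hx).eq⟩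
  refine ⟨P.π gH, Cfsg.Lib.ZStarApps.mem_normalizer_of_maps fun u hu => ?_, ?_⟩
  · obtain ⟨v, hvT, rfl⟩ := (S.mem_sylQ P hy hx).1 hu
    refine (S.mem_sylQ P hy hx).2 ⟨g * v * g⁻¹, (mem_normalizer_iff.1 hg v).1 hvT, ?_⟩
    show P.π _ = P.π _ * P.π _ * (P.π _)⁻¹
    rw [← map_inv, ← map_mul, ← map_mul]
    rfl
  · rw [Setting.bar, ← map_inv, ← map_mul, ← map_mul]
    exact congrArg P.π (Subtype.ext hgt)

theorem Setting.small_kill (hind : Field.NoFieldBelow.{u} (Nat.card G)) {r : ℕ} (hr : r.Prime) (hx : x ∈ S.Phi hy)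
    (hx1 : x ≠ 1) {i : ℕ} (hxo : orderOf x = r ^ i) {L : Type} [Field L] [Fintype L]
    (hL : Fintype.card L ^ orderOf x = Fintype.card F)
    (e : ↥(E₀ ⊓ centralizer ({x} : Set G)) ≃* Matrix.ProjectiveSpecialLinearGroup (Fin 2) L)
    (hq : Fintype.card L = 3 ∨ Fintype.card L = 5) (h3 : r ≠ 3) (hdvd : r ∣ Field.invCount x)
    (hsev : Fintype.card L = 3 → r = 7 → ¬ 49 ∣ orderOf x) : False := by
  classical
  set N := (zpowers x).subgroupOf (centralizer ({x} : Set G)) with hN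
  haveI : N.Normal := ⟨fun z hz g => by
    obtain ⟨j, hj⟩ := mem_subgroupOf.1 hz
    refine mem_subgroupOf.2 ⟨j, ?_⟩
    show x ^ j = (g : G) * z * (g : G)⁻¹
    rw [← hj, ((show Commute (g : G) x from mem_centralizer_singleton_iff.1 g.2).zpow_right j).eq,
      mul_inv_cancel_right]⟩
  let P : Proj x (↥(centralizer ({x} : Set G)) ⧸ N) :=
    ⟨QuotientGroup.mk' N, QuotientGroup.mk'_surjective N, QuotientGroup.ker_mk' N⟩
  have H := S.hyp_quot P hy hx hL e
  have hxodd : Odd (orderOf x) := S.x_odd hy hx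
  have hi0 : i ≠ 0 := fun h => hx1 (orderOf_eq_one_iff.1 (by rw [hxo, h, pow_zero]))
  have hr2 : r ≠ 2 := fun h => by
    rw [hxo, h] at hxodd
    exact Nat.not_odd_iff_even.2 ((Nat.even_pow.2 ⟨even_two, hi0⟩)) hxodd
  -- the count and the order
  have hinv : Field.invCount x = 7 ∧ Fintype.card L = 3 ∨ Field.invCount x = 63 ∧ Fintype.card L = 3 ∨
      (Field.invCount x = 1463 ∧ Fintype.card L = 5 ∧ ∃ M,
        MData (S.bar P hy hx t hy.tT) (P.img E₀) L M) := by
    rcases S.shape P hy hx hind hx1 hL e with ⟨h, h7 | h63⟩ | ⟨h5, M, D⟩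
    · exact Or.inl ⟨h7, h⟩
    · exact Or.inr (Or.inl ⟨h63, h⟩)
    have h5' : Fintype.card L = 5 := by omega
    rcases D.count S hy (by omega) h5 with ⟨-, -, h⟩ | ⟨-, m, -, hF, -⟩
    · exact Or.inr (Or.inr ⟨by rw [S.count_quot P hy hx, h], h5', M, D⟩)
    · have : 3 ∣ Fintype.card L := hF ▸ dvd_pow_self 3 (by omega)
      rw [h5'] at this
      norm_num at this
  have hrcases : r = 7 ∨ (Fintype.card L = 5 ∧ (r = 11 ∨ r = 19)) := by
    rcases hinv with ⟨hc, -⟩ | ⟨hc, -⟩ | ⟨hc, h5, -⟩ <;> rw [hc] at hdvd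
    · exact Or.inl ((Nat.prime_dvd_prime_iff_eq hr (by norm_num)).1 hdvd)
    · exact Or.inl (prime_dvd_sixty_three hr hdvd h3)
    · exact (prime_dvd_jone hr hdvd).imp id fun h => ⟨h5, h⟩
  -- `|x| = r`
  have hi1 : i = 1 := by
    by_contra hne
    have h2 : 2 ≤ i := by omega
    rcases hq with h | h
    · refine hsev h (hrcases.resolve_right fun hh => by omega) ?_
      rw [hxo, hrcases.resolve_right fun hh => by omega]
      exact (pow_dvd_pow 7 h2)
    set z := x ^ r ^ (i - 1) with hz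
    have hzP : z ∈ S.Phi hy := pow_mem hx _
    have hzo : orderOf z = r := by
      rw [hz, orderOf_pow' _ (pow_ne_zero _ hr.ne_zero), hxo,
        Nat.gcd_eq_right (pow_dvd_pow r (by omega)), Nat.pow_div (by omega) hr.pos,
        show i - (i - 1) = 1 by omega, pow_one]
    have hz1 : z ≠ 1 := fun e => by rw [e, orderOf_one] at hzo; exact hr.ne_one hzo.symm
    obtain ⟨L', iL', iLt', hL', ⟨e'⟩⟩ := S.fixed hy hzP
    have hcard : Fintype.card L' = 5 ^ r ^ (i - 1) := by
      refine Nat.pow_left_injective hr.ne_zero ?_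
      show Fintype.card L' ^ r = (5 ^ r ^ (i - 1)) ^ r
      rw [← hzo, hL', ← hL, h, hxo, ← pow_mul, hzo, ← pow_succ]
      congr 2; omega
    set N' := (zpowers z).subgroupOf (centralizer ({z} : Set G)) with hN'
    haveI : N'.Normal := ⟨fun w hw g => by
      obtain ⟨j, hj⟩ := mem_subgroupOf.1 hw
      refine mem_subgroupOf.2 ⟨j, ?_⟩
      show z ^ j = (g : G) * w * (g : G)⁻¹
      rw [← hj, ((show Commute (g : G) z from mem_centralizer_singleton_iff.1 g.2).zpow_right j).eq,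
        mul_inv_cancel_right]⟩
    let P' : Proj z (↥(centralizer ({z} : Set G)) ⧸ N') :=
      ⟨QuotientGroup.mk' N', QuotientGroup.mk'_surjective N', QuotientGroup.ker_mk' N'⟩
    have h25 : 25 ≤ Fintype.card L' := by
      rw [hcard]
      exact le_trans (by norm_num : 25 ≤ 5 ^ 2) (Nat.pow_le_pow_right (by norm_num)
        (le_trans hr.two_le (Nat.le_self_pow (by omega) r)))
    rcases S.shape P' hy hzP hind hz1 hL' e' with ⟨h', -⟩ | ⟨h5', M', D'⟩
    · omega
    have hmod' : Fintype.card L' % 8 = 3 ∨ Fintype.card L' % 8 = 5 := by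
      rw [mod_eight_root hL' (S.x_odd hy hzP) S.mod]; exact S.mod
    rcases D'.count S hy hmod' h5' with ⟨h', -, -⟩ | ⟨-, m, -, hF, -⟩
    · omega
    · have : 3 ∣ 5 ^ r ^ (i - 1) := hcard ▸ hF ▸ dvd_pow_self 3 (by omega)
      exact absurd (Nat.prime_three.dvd_of_dvd_pow this) (by norm_num)
  rw [hi1, pow_one] at hxo
  haveI : Fact r.Prime := ⟨hr⟩
  -- the index of `E₀` is `r`
  have hrel : E₀.relIndex E = r := by
    haveI : Fact (Fintype.card L).Prime := ⟨by rcases hq with h | h <;> rw [h] <;> norm_num⟩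
    refine Nat.dvd_antisymm (S.relIndex_dvd (by rw [← hL, hxo])) ?_
    rw [← S.card_Phi hy, ← hxo]
    exact Subgroup.orderOf_dvd_natCard _ hx
  have hsmall : ¬ r ^ 3 ∣ Nat.card (centralizer ({x} : Set G)) := by
    have hP := Cfsg.Lib.PSLTwoDihedral.card_P (F := L) (Nat.odd_iff.1 H.odd)
    rw [← Nat.card_congr e.toEquiv] at hP
    rw [S.card_cent_x hy hx, hrel]
    rcases hinv with ⟨hc, hl⟩ | ⟨hc, hl⟩ | ⟨hc, hl, -⟩ <;> rw [hl] at hP <;> norm_num [-Subgroup.mem_inf] at hP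
    · rw [hc, show Nat.card ↥(E₀ ⊓ centralizer ({x} : Set G)) = 12 by omega]
      rw [hrcases.resolve_right fun hh => by omega]; norm_num
    · rw [hc, show Nat.card ↥(E₀ ⊓ centralizer ({x} : Set G)) = 12 by omega]
      rw [hrcases.resolve_right fun hh => by omega]; norm_num
    · rw [hc, show Nat.card ↥(E₀ ⊓ centralizer ({x} : Set G)) = 60 by omega]
      rcases hrcases with rfl | ⟨-, rfl | rfl⟩ <;> norm_num
  refine S.kill_of_weight hy P hx hr2 hxo hsmall ?_
  rcases hrcases with rfl | ⟨h5, hr'⟩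
  · haveI := P.finite
    have himg : P.img E = P.img E₀ := by
      refine le_antisymm ?_ (map_mono fun g hg => S.hyp.le hg)
      rintro _ ⟨g, hg, rfl⟩
      obtain ⟨d, hd, p, hp, hgp⟩ := S.exists_mul hy (show (g : G) ∈ E from hg)
      have hpx : p ∈ zpowers x := by
        have hle : zpowers x ≤ S.Phi hy := zpowers_le.2 hx
        rw [Subgroup.eq_of_le_of_card_ge hle (by rw [S.card_Phi hy, hrel, Nat.card_zpowers, hxo])]
        exact hp
      have hpC : p ∈ centralizer ({x} : Set G) := zpowers_le.2 (mem_centralizer_singleton_iff.2 rfl) hpx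
      have hdC : d ∈ centralizer ({x} : Set G) := by
        rw [show d = (g : G) * p⁻¹ by rw [show (g : G) = d * p from hgp, mul_inv_cancel_right]]
        exact mul_mem g.2 (inv_mem hpC)
      refine P.mem_img.2 ⟨⟨d, hdC⟩, hd, ?_⟩
      rw [show g = ⟨d, hdC⟩ * ⟨p, hpC⟩ from Subtype.ext hgp, map_mul, (P.eq_one_iff (h := ⟨p, hpC⟩)).2 hpx, mul_one]
    rw [himg] at H
    exact Transfer.seven_weight H (S.sys_quot P hy hx) hq fun w hw hw1 => S.trans_quot hy P hx hw hw1
  · obtain ⟨-, -, M, D⟩ : Field.invCount x = 1463 ∧ Fintype.card L = 5 ∧ ∃ M,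
        MData (S.bar P hy hx t hy.tT) (P.img E₀) L M := by
      rcases hinv with ⟨-, hl⟩ | ⟨-, hl⟩ | hh
      · omega
      · omega
      · exact hh
    haveI := D.simple
    obtain ⟨eC⟩ := Transfer.jone_iso D.hyp h5
    have St : Setting (⟨S.bar P hy hx t hy.tT, D.mem⟩ : M) ((P.img E₀).subgroupOf M) ((P.img E₀).subgroupOf M) L :=
      ⟨D.simple, D.nab, D.ab, D.hyp, by omega, by omega⟩
    obtain ⟨-, T', hT', -⟩ := St.exists_klein
    have htc : Cfsg.IsTwoCentralInvolution (⟨S.bar P hy hx t hy.tT, D.mem⟩ : M) := ⟨D.hyp.ord, T', hT',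
      fun u hu => congrArg Subtype.val ((D.ab T').is_comm.comm ⟨u, hu⟩ ⟨_, hT'⟩)⟩
    obtain ⟨y, c, k, hyo, hcy, hk⟩ := Transfer.jone_weight D.nab _ htc eC hr'
    exact ⟨y, c, k, (Subgroup.orderOf_coe y).trans hyo, congrArg Subtype.val hcy, hk⟩

end

end Cfsg.Lib.Ree.Twist

namespace Cfsg.Lib.Ree.Field

open Subgroup

universe u

/-- The fields over `GF(3)` and `GF(5)`, from the remaining case. -/
theorem smallSpec (hsev : SevenPowSpec.{u}) : SmallSpec.{u} := by
  intro G _ _ t E E₀ F _ _ J hind T r x F₁ _ _ hfe hld hr3 hdvd hq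
  have S := Twist.of_jr J
  haveI : Fact (Nat.Prime 2) := ⟨Nat.prime_two⟩
  obtain ⟨T', a, b, n, hy⟩ := AbCentMax.exists_sys S.hyp S.ab
  -- move `x` to the Sylow subgroup of the frame
  set C := centralizer ({t} : Set G) with hC
  have hTC : ∀ (U : Sylow 2 G), t ∈ U → (U : Subgroup G) ≤ C := fun U hU z hz => by
    haveI := S.ab U
    exact mem_centralizer_singleton_iff.2
      (congrArg Subtype.val (mul_comm' (⟨z, hz⟩ : (U : Subgroup G)) ⟨t, hU⟩))
  obtain ⟨k, hk⟩ := MulAction.exists_smul_eq C (T.subtype (hTC T hfe.tT)) (T'.subtype (hTC T' hy.tT))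
  set x' := (k : G) * x * (k : G)⁻¹ with hx'
  have hc' : ∀ z ∈ T', Commute x' z := fun z hz => by
    have hz' : (⟨z, hTC T' hy.tT hz⟩ : C) ∈ ((k • T.subtype (hTC T hfe.tT) : Sylow 2 C) : Subgroup C) :=
      hk.symm ▸ hz
    obtain ⟨w, hw, hwz⟩ := hz'
    have h1 : (k : G) * (w : G) * (k : G)⁻¹ = z := congrArg Subtype.val hwz
    rw [← h1]
    exact (Commute.conj_iff (k : G)).2 (hfe.cT w hw)
  have hkt : (k : G) * t * (k : G)⁻¹ = t := by
    rw [(mem_centralizer_singleton_iff.1 k.2 : (k : G) * t = t * k), mul_inv_cancel_right]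
  obtain ⟨d, hd, hkd⟩ := S.split (x := (k : G)) (mem_centralizer_singleton_iff.1 k.2).symm
  have htd : ∀ z ∈ E, t * z * t⁻¹ = z := fun z hz => by rw [(S.hyp.comm z hz).eq, mul_inv_cancel_right]
  have hx'eq : x' = d * x * d⁻¹ := by
    rcases hkd with h | h
    · rw [hx', h]
    · rw [hx', h, show t * d * x * (t * d)⁻¹ = t * (d * x * d⁻¹) * t⁻¹ by group,
        htd _ (mul_mem (mul_mem hd hfe.mem) (inv_mem hd))]
  have hx'o : orderOf x' = orderOf x := by rw [hx', ← MulAut.conj_apply, MulEquiv.orderOf_eq]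
  have hx'1 : x' ≠ 1 := fun h => hfe.ne (conj_eq_one_iff.1 h)
  obtain ⟨i, hi⟩ := hfe.pow
  have hx'odd : Odd (orderOf x') := by
    rw [hx'o, hi]
    rcases hfe.prime.eq_two_or_odd' with rfl | ho
    · exfalso
      have hp : IsPGroup 2 (zpowers x') := IsPGroup.of_card (n := i) (by rw [Nat.card_zpowers, hx'o, hi])
      have hn : zpowers x' ≤ normalizer ((T' : Subgroup G) : Set G) := le_trans (zpowers_le.2
        (mem_centralizer_iff.2 fun z hz => (hc' z hz).symm.eq)) (centralizer_le_normalizer _)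
      have hm : x' ∈ T' := (T'.is_maximal' (hp.to_sup_of_normal_right' T'.isPGroup' hn) le_sup_right).le
        (mem_sup_left (mem_zpowers x'))
      have hxE : x' ∈ E := hx'eq ▸ mul_mem (mul_mem hd hfe.mem) (inv_mem hd)
      have hx0 : x' ∈ E₀ := by
        rcases S.cases_E hy hm hxE with r | r | r | r <;> rw [r]
        exacts [one_mem _, hy.aE, hy.bE, mul_mem hy.aE hy.bE]
      have h0 : x ∈ E₀ := by
        have := S.hyp.norm' hd hx0
        rwa [hx'eq, show d⁻¹ * (d * x * d⁻¹) * d = x by group] at this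
      exact hfe.ne (mem_bot.1 (hfe.inter ▸ ⟨mem_zpowers x, h0⟩))
    · exact ho.pow
  have hxP : x' ∈ S.Phi hy := S.mem_Phi_of_cent hy hx'odd hc'
  obtain ⟨L, iL, iLt, hL, ⟨e⟩⟩ := S.fixed hy hxP
  have hcount : invCount x' = invCount x := by
    refine Nat.card_congr
      { toFun := fun s => ⟨(k : G)⁻¹ * s.1 * k, ?_, ?_⟩
        invFun := fun s => ⟨(k : G) * s.1 * (k : G)⁻¹, ?_, ?_⟩
        left_inv := fun s => Subtype.ext (by group)
        right_inv := fun s => Subtype.ext (by group) }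
    · rw [show (k : G)⁻¹ * s.1 * k = MulAut.conj (k : G)⁻¹ s.1 by simp, MulEquiv.orderOf_eq, s.2.1]
    · have h := (Commute.conj_iff (k : G)⁻¹).2 (show Commute s.1 ((k : G) * x * (k : G)⁻¹) from s.2.2)
      rw [show (k : G)⁻¹ * ((k : G) * x * (k : G)⁻¹) * (k : G)⁻¹⁻¹ = x by group, inv_inv] at h
      exact h
    · rw [← MulAut.conj_apply, MulEquiv.orderOf_eq, s.2.1]
    · exact (Commute.conj_iff (k : G)).2 s.2.2
  have hcard : Fintype.card L = Fintype.card F₁ :=
    Nat.pow_left_injective (orderOf_pos x).ne' (show Fintype.card L ^ orderOf x = Fintype.card F₁ ^ orderOf x by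
      rw [← hld.card, ← hL, hx'o])
  refine S.small_kill hy hind hfe.prime hxP hx'1 (i := i) (hx'o.trans hi) hL e (by rw [hcard]; exact hq) hr3
    (hcount ▸ hdvd) fun h3 hr7 h49 => ?_
  subst hr7
  exact hsev G t E E₀ F J hind T x F₁ hfe hld hdvd (hcard ▸ h3) (hx'o ▸ h49)

end Cfsg.Lib.Ree.Field
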