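import Mathlib

/-!
A Sylow subgroup of prime order `r` in a nonabelian simple group: either an element normalizes it with weight
`b`, `b² ≠ 1`, or the number of Sylow subgroups is the order divided by `2 r k`, `k` the order of the centralizer
over `r`.
-/

set_option autoImplicit false
set_option linter.unusedSectionVars false

namespace Cfsg.Lib.Ree.Transfer

open Subgroup

universe u

variable {M : Type u} [Group M] [Finite M]

/-- The dichotomy. -/
theorem weight_or_count [IsSimpleGroup M] (hnab : ¬ IsMulCommutative M) {r : ℕ} [hr : Fact r.Prime]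
    (h1 : r ∣ Nat.card M) (h2 : ¬ r * r ∣ Nat.card M) :
    ∃ y : M, orderOf y = r ∧ ((∃ c : M, ∃ b : ℕ, c * y * c⁻¹ = y ^ b ∧ (b : ZMod r) ^ 2 ≠ 1) ∨
      ∃ k : ℕ, 2 * r * k ∣ Nat.card M ∧ Nat.card M / (2 * r * k) % r = 1 ∧ ¬ r ∣ k ∧
        ∀ p : ℕ, p.Prime → p ∣ k → ∃ x : M, orderOf x = p ∧ Commute x y) := by
  classical
  obtain ⟨y, hy⟩ := exists_prime_orderOf_dvd_card' r h1
  refine ⟨y, hy, ?_⟩
  by_cases hw : ∃ c : M, ∃ b : ℕ, c * y * c⁻¹ = y ^ b ∧ (b : ZMod r) ^ 2 ≠ 1
  · exact Or.inl hw
  refine Or.inr ?_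
  push Not at hw
  set Q := zpowers y with hQ
  have hQc : Nat.card Q = r := by rw [Nat.card_zpowers, hy]
  have hfac : r ^ (Nat.card M).factorization r = r := by
    have h : (Nat.card M).factorization r = 1 := by
      apply le_antisymm
      · by_contra hc
        exact h2 ((pow_two r ▸ pow_dvd_pow r (show 2 ≤ (Nat.card M).factorization r by omega)).trans
          (Nat.ordProj_dvd _ _))
      · exact (hr.out.dvd_iff_one_le_factorization Nat.card_pos.ne').1 h1
    rw [h, pow_one]
  let P : Sylow r M := Sylow.ofCard Q (by rw [hQc, hfac])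
  have hP : (P : Subgroup M) = Q := Sylow.coe_ofCard _ _
  set N := normalizer (Q : Set M) with hN
  set C := centralizer ({y} : Set M) with hC
  have hCQ : C = centralizer (Q : Set M) := by rw [hC, hQ, zpowers_eq_closure, centralizer_closure]
  have hCN : C ≤ N := hCQ ▸ centralizer_le_normalizer _
  have hQC : Q ≤ C := zpowers_le.2 (mem_centralizer_singleton_iff.2 rfl)
  -- every element of the normalizer fixes or inverts `y`
  have hsign : ∀ n ∈ N, n * y * n⁻¹ = y ∨ n * y * n⁻¹ = y⁻¹ := by
    intro n hn
    obtain ⟨i, hi⟩ := mem_powers_iff_mem_zpowers.2 ((mem_normalizer_iff.1 hn y).1 (mem_zpowers y))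
    have hi' : y ^ i = n * y * n⁻¹ := hi
    have hb := hw n i hi'.symm
    rcases mul_self_eq_one_iff.1 (show (i : ZMod r) * i = 1 by rw [← pow_two]; exact hb) with e | e
    · left
      have := (ZMod.natCast_eq_natCast_iff i 1 r).1 (by simpa using e)
      rw [← hi', (pow_eq_pow_iff_modEq (x := y)).2 (hy.symm ▸ this), pow_one]
    · right
      have : ((i + 1 : ℕ) : ZMod r) = 0 := by push_cast; rw [e, neg_add_cancel]
      have hd := orderOf_dvd_iff_pow_eq_one.1 (hy.symm ▸ (ZMod.natCast_eq_zero_iff _ _).1 this)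
      rw [← hi', eq_inv_iff_mul_eq_one, ← pow_succ, hd]
  -- the index of the centralizer
  have hd2 : C.relIndex N = 2 := by
    have hle : C.relIndex N ≤ 2 := by
      rw [Subgroup.relIndex, Subgroup.index_eq_card]
      refine le_trans (Nat.card_le_card_of_injective
        (Quotient.lift (fun n : N => decide ((n : M) * y * (n : M)⁻¹ = y)) ?_) ?_) (by simp : Nat.card Bool ≤ 2)
      · intro n m hnm
        have hc := mem_centralizer_singleton_iff.1 (mem_subgroupOf.1 (QuotientGroup.leftRel_apply.1 hnm))
        push_cast at hc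
        refine decide_eq_decide.2 ?_
        have e : (m : M) * y * (m : M)⁻¹ = (n : M) * y * (n : M)⁻¹ := by
          calc (m : M) * y * (m : M)⁻¹ = (n : M) * ((n : M)⁻¹ * (m : M) * y) * (m : M)⁻¹ := by group
            _ = (n : M) * (y * ((n : M)⁻¹ * (m : M))) * (m : M)⁻¹ := by rw [hc]
            _ = (n : M) * y * (n : M)⁻¹ := by group
        rw [e]
      · intro a b
        induction a using Quotient.inductionOn with | h n => ?_
        induction b using Quotient.inductionOn with | h m => ?_
        intro e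
        refine Quotient.sound (QuotientGroup.leftRel_apply.2 ?_)
        have e' := decide_eq_decide.1 e
        have heq : (n : M) * y * (n : M)⁻¹ = (m : M) * y * (m : M)⁻¹ := by
          rcases hsign n n.2 with hn | hn <;> rcases hsign m m.2 with hm | hm
          · rw [hn, hm]
          · rw [hn, e'.1 hn]
          · rw [e'.2 hm, hm]
          · rw [hn, hm]
        rw [mem_subgroupOf]
        refine mem_centralizer_singleton_iff.2 ?_
        push_cast
        calc (n : M)⁻¹ * (m : M) * y = (n : M)⁻¹ * ((m : M) * y * (m : M)⁻¹) * (m : M) := by group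
          _ = y * ((n : M)⁻¹ * (m : M)) := by rw [← heq]; group
    have hpos : C.relIndex N ≠ 0 := Subgroup.index_ne_zero_of_finite
    by_contra hne
    have hone : C.relIndex N = 1 := by omega
    have hNC : N ≤ C := Subgroup.relIndex_eq_one.1 hone
    have hPC : normalizer ((P : Subgroup M) : Set M) ≤ centralizer ((P : Subgroup M) : Set M) := by
      rw [hP]; exact hNC.trans hCQ.le
    have hcomp := MonoidHom.ker_transferSylow_isComplement' P hPC
    rcases (MonoidHom.transferSylow P hPC).normal_ker.eq_bot_or_eq_top with e | e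
    · rw [e, Subgroup.isComplement'_bot_left] at hcomp
      refine hnab ⟨⟨fun a b => ?_⟩⟩
      haveI : IsCyclic Q := isCyclic_of_prime_card (p := r) hQc
      have ha : a ∈ Q := hP ▸ hcomp ▸ mem_top a
      have hb : b ∈ Q := hP ▸ hcomp ▸ mem_top b
      obtain ⟨i, rfl⟩ := ha
      obtain ⟨j, rfl⟩ := hb
      exact (Commute.refl y).zpow_zpow i j
    · rw [e, Subgroup.isComplement'_top_left] at hcomp
      rw [← hP, hcomp, Subgroup.card_bot] at hQc
      exact hr.out.ne_one hQc.symm
  obtain ⟨k, hk⟩ : r ∣ Nat.card C := hQc ▸ card_dvd_of_le hQC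
  have hNcard : Nat.card N = 2 * r * k := by
    have := (C.subgroupOf N).card_mul_index
    rw [Nat.card_congr (Subgroup.subgroupOfEquivOfLe hCN).toEquiv, ← Subgroup.relIndex, hd2, hk] at this
    rw [← this]; ring
  refine ⟨k, hNcard ▸ card_subgroup_dvd_card N, ?_, ?_, ?_⟩
  · have hm := card_sylow_modEq_one r M
    rw [P.card_eq_index_normalizer, show (P : Set M) = (Q : Set M) from congrArg SetLike.coe hP] at hm
    have hdiv : Nat.card M / (2 * r * k) = N.index := by
      rw [← hNcard, ← N.card_mul_index, Nat.mul_div_cancel_left _ Nat.card_pos]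
    rw [hdiv]
    exact Eq.trans hm (Nat.one_mod_eq_one.2 hr.out.ne_one)
  · intro hd
    refine h2 ((Nat.mul_dvd_mul_left r hd).trans ?_)
    rw [← hk]
    exact card_subgroup_dvd_card C
  · intro p hp hpk
    haveI : Fact p.Prime := ⟨hp⟩
    obtain ⟨x, hx⟩ := exists_prime_orderOf_dvd_card' (G := C) p (hk ▸ Dvd.dvd.mul_left hpk r)
    exact ⟨x, by rw [← Subgroup.orderOf_coe] at hx; exact hx, mem_centralizer_singleton_iff.1 x.2⟩

end Cfsg.Lib.Ree.Transfer
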